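import Mathlib

/-!
# Popescu program, part V6: transferring smoothness along a surjection which becomes an
isomorphism after localisation.
-/

set_option autoImplicit false
universe u

namespace Groth.Agent.H5.Pop

/-- If `I₁ ≤ I₂` are ideals of `P`, the localisation of `P/I₁` at `s` is formally smooth over `R`
and every element of `I₂` dies in it, then `P/I₂` is smooth over `R` at every prime not
containing `s`. -/
theorem isSmoothAt_of_vanish {R P : Type u} [CommRing R] [CommRing P] [Algebra R P]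
    (I₁ I₂ : Ideal P) (h12 : I₁ ≤ I₂) (s : P)
    [Algebra.FormallySmooth R (Localization.Away (Ideal.Quotient.mk I₁ s))]
    (hvan : ∀ x ∈ I₂, algebraMap (P ⧸ I₁) (Localization.Away (Ideal.Quotient.mk I₁ s))
      (Ideal.Quotient.mk I₁ x) = 0)
    (Q : Ideal (P ⧸ I₂)) [Q.IsPrime] (hs : Ideal.Quotient.mk I₂ s ∉ Q) :
    Algebra.IsSmoothAt R Q := by
  set A₁ := P ⧸ I₁
  set A₂ := P ⧸ I₂
  set s₁ : A₁ := Ideal.Quotient.mk I₁ s with hs₁
  set s₂ : A₂ := Ideal.Quotient.mk I₂ s with hs₂
  set T := Localization.Away s₁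
  let g : A₂ →+* T := Ideal.Quotient.lift I₂ ((algebraMap A₁ T).comp (Ideal.Quotient.mk I₁))
    (fun x hx => hvan x hx)
  have hg : ∀ x : P, g (Ideal.Quotient.mk I₂ x) = algebraMap A₁ T (Ideal.Quotient.mk I₁ x) :=
    fun x => rfl
  letI : Algebra A₂ T := g.toAlgebra
  have halg : ∀ y : A₂, algebraMap A₂ T y = g y := fun y => rfl
  haveI : IsScalarTower R A₂ T := by
    refine IsScalarTower.of_algebraMap_eq fun r => ?_
    have e1 : algebraMap R A₂ r = Ideal.Quotient.mk I₂ (algebraMap R P r) := rfl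
    have e2 : algebraMap R A₁ r = Ideal.Quotient.mk I₁ (algebraMap R P r) := rfl
    rw [halg, e1, hg, ← e2, ← IsScalarTower.algebraMap_apply R A₁ T]
  haveI : IsLocalization.Away s₂ T := by
    refine IsLocalization.Away.mk s₂ ?_ ?_ ?_
    · rw [halg, hs₂, hg]
      exact IsLocalization.Away.algebraMap_isUnit s₁
    · intro t
      obtain ⟨n, a₁, h⟩ := IsLocalization.Away.surj s₁ t
      obtain ⟨x, rfl⟩ := Ideal.Quotient.mk_surjective a₁
      refine ⟨n, Ideal.Quotient.mk I₂ x, ?_⟩
      rw [halg, halg, hs₂, hg, hg]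
      exact h
    · intro x y hxy
      obtain ⟨x₁, rfl⟩ := Ideal.Quotient.mk_surjective x
      obtain ⟨y₁, rfl⟩ := Ideal.Quotient.mk_surjective y
      rw [halg, halg, hg, hg] at hxy
      obtain ⟨n, hn⟩ := IsLocalization.Away.exists_of_eq s₁ hxy
      refine ⟨n, ?_⟩
      rw [hs₁, ← map_pow, ← map_mul, ← map_mul] at hn
      rw [hs₂, ← map_pow, ← map_mul, ← map_mul]
      have := (Ideal.Quotient.eq.mp hn)
      exact Ideal.Quotient.eq.mpr (h12 this)
  have h1 := Algebra.smoothLocus_comap_of_isLocalization (R := R) (A := A₂) (Af := T) s₂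
  -- the prime of `T` over `Q`
  have hdisj : Disjoint (Submonoid.powers s₂ : Set A₂) (Q : Set A₂) := by
    rw [Set.disjoint_left]
    rintro _ ⟨k, rfl⟩ hk
    exact hs (Ideal.IsPrime.mem_of_pow_mem ‹_› k hk)
  have hQ' : (Ideal.map (algebraMap A₂ T) Q).IsPrime :=
    IsLocalization.isPrime_of_isPrime_disjoint (Submonoid.powers s₂) T Q ‹_› hdisj
  have hcomap : (Ideal.map (algebraMap A₂ T) Q).comap (algebraMap A₂ T) = Q :=
    IsLocalization.comap_map_of_isPrime_disjoint (Submonoid.powers s₂) T ‹_› hdisj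
  have h2 : (⟨Ideal.map (algebraMap A₂ T) Q, hQ'⟩ : PrimeSpectrum T) ∈ Algebra.smoothLocus R T := by
    show Algebra.FormallySmooth R (Localization.AtPrime (Ideal.map (algebraMap A₂ T) Q))
    haveI : Algebra.FormallySmooth T (Localization.AtPrime (Ideal.map (algebraMap A₂ T) Q)) :=
      Algebra.FormallySmooth.of_isLocalization (Ideal.map (algebraMap A₂ T) Q).primeCompl
    exact Algebra.FormallySmooth.comp R T _
  rw [← h1] at h2
  have h3 : (PrimeSpectrum.comap (algebraMap A₂ T)
      ⟨Ideal.map (algebraMap A₂ T) Q, hQ'⟩) = ⟨Q, ‹_›⟩ := PrimeSpectrum.ext hcomap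
  rw [Set.mem_preimage, h3] at h2
  exact h2

end Groth.Agent.H5.Pop
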