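import Groth.Agent.Lib.Helper5.Pop.V5
import Groth.Agent.Lib.Helper5.Pop.V6
import Groth.Agent.Lib.Helper8.StdSmooth.Main

/-!
# Popescu program, part V7: the lifting algebra `D` and its smoothness properties.
-/

set_option autoImplicit false
universe u
open MvPolynomial

namespace Groth.Agent.H5.Pop

/-- torsion in flat modules: if `π² r = 0 → π r = 0` in `R`, the same holds in flat modules. -/
theorem smul_eq_zero_of_sq_smul_eq_zero {R M : Type*} [CommRing R] [AddCommGroup M] [Module R M]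
    [Module.Flat R M] (π : R) (hR : ∀ r : R, π ^ 2 * r = 0 → π * r = 0) (y : M)
    (hy : π ^ 2 • y = 0) : π • y = 0 := by
  have h : ∑ i : Unit, (fun _ => π ^ 2) i • (fun _ => y) i = 0 := by simpa using hy
  obtain ⟨k, a, z, h1, h2⟩ := Module.Flat.isTrivialRelation_of_sum_smul_eq_zero h
  have h3 := h1 ()
  simp only at h3
  rw [h3, Finset.smul_sum]
  refine Finset.sum_eq_zero fun j _ => ?_
  have h4 := h2 j
  simp only [Finset.univ_unique, Finset.sum_singleton] at h4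
  rw [smul_smul, hR _ h4, zero_smul]

variable {R : Type u} [CommRing R] {π : R} {n m : ℕ} {f : Fin m → MvPolynomial (Fin n) R}
  {κ : Type*} (K : κ → Chart π f)

/-- the ideal of relations of `D`. -/
noncomputable def ID : Ideal (MvPolynomial (Fin n ⊕ Fin m) R) :=
  Ideal.span (Set.range (relF π f) ∪ ⋃ k, Set.range (relP (K k)))

theorem relF_mem_ID (ℓ : Fin m) : relF π f ℓ ∈ ID K :=
  Ideal.subset_span (Or.inl ⟨ℓ, rfl⟩)

theorem relP_mem_ID (k : κ) (ℓ : Fin m) : relP (K k) ℓ ∈ ID K :=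
  Ideal.subset_span (Or.inr (Set.mem_iUnion.mpr ⟨k, ⟨ℓ, rfl⟩⟩))

theorem IK_le_ID (k : κ) : IK (K k) ≤ ID K := by
  unfold IK
  rw [Ideal.span_le]
  rintro _ (⟨j, rfl⟩ | ⟨ℓ, rfl⟩)
  · exact relF_mem_ID K _
  · exact relP_mem_ID K k ℓ

/-- the chart algebra localised at the standard element is standard smooth. -/
theorem isStandardSmooth_chart (K₀ : Chart π f) :
    Algebra.IsStandardSmooth R
      (Localization.Away (Ideal.Quotient.mk (IK K₀) (stdElt K₀))) :=
  Groth.Agent.H8.StdSmooth.isStandardSmooth_of_isElementaryStandard _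
    (isElementaryStandard_chart K₀)

/-- all relations of `D` vanish in the localised chart algebra. -/
theorem vanish_chart (hR : ∀ r : R, π ^ 2 * r = 0 → π * r = 0) (k₀ : κ) :
    ∀ x ∈ ID K, algebraMap (MvPolynomial (Fin n ⊕ Fin m) R ⧸ IK (K k₀))
      (Localization.Away (Ideal.Quotient.mk (IK (K k₀)) (stdElt (K k₀))))
      (Ideal.Quotient.mk (IK (K k₀)) x) = 0 := by
  set K₀ := K k₀ with hK₀
  set T := Localization.Away (Ideal.Quotient.mk (IK K₀) (stdElt K₀)) with hT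
  set Φ : MvPolynomial (Fin n ⊕ Fin m) R →+* T :=
    (algebraMap (MvPolynomial (Fin n ⊕ Fin m) R ⧸ IK K₀) T).comp (Ideal.Quotient.mk (IK K₀))
    with hΦ
  haveI := isStandardSmooth_chart K₀
  haveI : Module.Flat R T := inferInstance
  have hΦI : ∀ x ∈ IK K₀, Φ x = 0 := by
    intro x hx
    show algebraMap _ T (Ideal.Quotient.mk (IK K₀) x) = 0
    rw [Ideal.Quotient.eq_zero_iff_mem.mpr hx, map_zero]
  -- `eps a` is a unit in `T`
  have hunit : IsUnit (Φ (eps n m R K₀.a)) := by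
    have h1 : IsUnit (Φ (stdElt K₀)) :=
      IsLocalization.Away.algebraMap_isUnit (Ideal.Quotient.mk (IK K₀) (stdElt K₀))
    have e : stdElt K₀ = eps n m R K₀.a * (eps n m R K₀.minor *
      eps n m R K₀.a ^ Fintype.card {ℓ : Fin m // ℓ ∉ Set.range K₀.rows}) := rfl
    have h1' : IsUnit (Φ (eps n m R K₀.a) * Φ (eps n m R K₀.minor *
        eps n m R K₀.a ^ Fintype.card {ℓ : Fin m // ℓ ∉ Set.range K₀.rows})) := by
      rw [← map_mul, ← e]; exact h1
    exact isUnit_of_mul_isUnit_left h1'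
  have hCπ : Φ (C π) = algebraMap R T π := by
    rw [IsScalarTower.algebraMap_apply R (MvPolynomial (Fin n ⊕ Fin m) R ⧸ IK K₀) T]
    rfl
  have hπ : ∀ y : T, Φ (C π) * y = π • y := by
    intro y
    rw [hCπ, Algebra.smul_def]
  suffices h : ID K ≤ RingHom.ker Φ from fun x hx => h hx
  unfold ID
  rw [Ideal.span_le]
  rintro x (⟨ℓ, rfl⟩ | hx)
  · -- relF
    have h1 := hΦI _ (eps_a_mul_relF_mem K₀ ℓ)
    rw [map_mul] at h1
    exact (hunit.mul_right_eq_zero).mp h1
  · obtain ⟨k', ℓ, rfl⟩ : ∃ k' ℓ, relP (K k') ℓ = x := by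
      obtain ⟨k', hk'⟩ := Set.mem_iUnion.mp hx
      obtain ⟨ℓ, hℓ⟩ := hk'
      exact ⟨k', ℓ, hℓ⟩
    show Φ (relP (K k') ℓ) = 0
    -- π • v = 0
    have hB := hΦI _ (eps_a_mul_pi_relP_mem K₀ (K k') ℓ)
    rw [map_mul] at hB
    have hB' : π • Φ (relP (K k') ℓ) = 0 := by
      rw [← hπ, ← map_mul]
      exact (hunit.mul_right_eq_zero).mp hB
    -- v = π • y
    have hC := eps_a_cube_mul_relP_mem K₀ (K k') ℓ
    obtain ⟨i, hi, w, hw, hiw⟩ := Submodule.mem_sup.mp hC
    obtain ⟨y, rfl⟩ := Ideal.mem_span_singleton'.mp hw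
    have hC' : Φ (eps n m R K₀.a) ^ 3 * Φ (relP (K k') ℓ) = π • Φ y := by
      rw [← map_pow, ← map_mul, ← hiw, map_add, hΦI i hi, zero_add, map_mul, mul_comm, hπ]
    obtain ⟨u, hu⟩ := hunit.pow 3
    have hv : Φ (relP (K k') ℓ) = π • ((↑u⁻¹ : T) * Φ y) := by
      rw [← hu] at hC'
      rw [← mul_smul_comm, ← hC', ← mul_assoc, Units.inv_mul, one_mul]
    have h2 : π ^ 2 • ((↑u⁻¹ : T) * Φ y) = 0 := by
      rw [pow_two, mul_smul, ← hv]
      exact hB'
    rw [hv]
    exact smul_eq_zero_of_sq_smul_eq_zero π hR _ h2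

/-- smoothness of `D` at primes where some chart element is invertible. -/
theorem isSmoothAt_D_of_chart (hR : ∀ r : R, π ^ 2 * r = 0 → π * r = 0) (k₀ : κ)
    (Q : Ideal (MvPolynomial (Fin n ⊕ Fin m) R ⧸ ID K)) [Q.IsPrime]
    (hs : Ideal.Quotient.mk (ID K) (stdElt (K k₀)) ∉ Q) : Algebra.IsSmoothAt R Q := by
  haveI := isStandardSmooth_chart (K k₀)
  haveI : Algebra.FormallySmooth R
      (Localization.Away (Ideal.Quotient.mk (IK (K k₀)) (stdElt (K k₀)))) := inferInstance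
  exact isSmoothAt_of_vanish (IK (K k₀)) (ID K) (IK_le_ID K k₀) (stdElt (K k₀))
    (vanish_chart K hR k₀) Q hs

end Groth.Agent.H5.Pop
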