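import Mathlib

/-!
# Quotients of a ring by powers of a maximal ideal (helper5)
-/

set_option autoImplicit false
universe u
open IsLocalRing

namespace Groth.Agent.H5.Pop.Algz

variable {A : Type*} [CommRing A] (m : Ideal A) [m.IsMaximal]

theorem isUnit_mk_of_notMem (j : ℕ) (a : A) (ha : a ∉ m) :
    IsUnit (Ideal.Quotient.mk (m ^ j) a) := by
  obtain ⟨y, i, hi, hyi⟩ := Ideal.IsMaximal.exists_inv (I := m) inferInstance ha
  have hnil : IsNilpotent (Ideal.Quotient.mk (m ^ j) i) := by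
    refine ⟨j, ?_⟩
    rw [← map_pow]
    exact Ideal.Quotient.eq_zero_iff_mem.mpr (Ideal.pow_mem_pow hi j)
  have h1 : Ideal.Quotient.mk (m ^ j) y * Ideal.Quotient.mk (m ^ j) a =
      1 - Ideal.Quotient.mk (m ^ j) i := by
    rw [← map_mul, ← map_one (Ideal.Quotient.mk (m ^ j)), ← map_sub]
    congr 1
    rw [← hyi]; ring
  have h2 : IsUnit (Ideal.Quotient.mk (m ^ j) y * Ideal.Quotient.mk (m ^ j) a) := by
    rw [h1]; exact hnil.isUnit_one_sub
  exact isUnit_of_mul_isUnit_right h2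

theorem not_isUnit_mk_of_mem (j : ℕ) (hj : j ≠ 0) (a : A) (ha : a ∈ m) :
    ¬ IsUnit (Ideal.Quotient.mk (m ^ j) a) := by
  intro h
  obtain ⟨b, hb⟩ := h.exists_right_inv
  obtain ⟨b, rfl⟩ := Ideal.Quotient.mk_surjective b
  rw [← map_mul, ← map_one (Ideal.Quotient.mk (m ^ j)), Ideal.Quotient.eq] at hb
  have h1 : a * b - 1 ∈ m := Ideal.pow_le_self hj hb
  have h2 : (1 : A) ∈ m := by
    have := Ideal.sub_mem _ (Ideal.mul_mem_right b _ ha) h1
    rwa [sub_sub_cancel] at this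
  exact (Ideal.ne_top_iff_one m).mp (Ideal.IsMaximal.ne_top inferInstance) h2

theorem isLocalRing_quot_pow (j : ℕ) (hj : j ≠ 0) : IsLocalRing (A ⧸ m ^ j) := by
  haveI : Nontrivial (A ⧸ m ^ j) := by
    rw [Ideal.Quotient.nontrivial_iff]
    intro h
    exact (Ideal.IsMaximal.ne_top inferInstance) (top_le_iff.mp (h ▸ Ideal.pow_le_self hj))
  apply IsLocalRing.of_isUnit_or_isUnit_one_sub_self
  intro x
  obtain ⟨a, rfl⟩ := Ideal.Quotient.mk_surjective x
  by_cases ha : a ∈ m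
  · right
    rw [← map_one (Ideal.Quotient.mk (m ^ j)), ← map_sub]
    apply isUnit_mk_of_notMem
    intro h
    have := Ideal.add_mem _ h ha
    rw [sub_add_cancel] at this
    exact (Ideal.ne_top_iff_one m).mp (Ideal.IsMaximal.ne_top inferInstance) this
  · left
    exact isUnit_mk_of_notMem m j a ha

theorem mk_mem_maximalIdeal_iff (j : ℕ) (hj : j ≠ 0) [IsLocalRing (A ⧸ m ^ j)] (a : A) :
    Ideal.Quotient.mk (m ^ j) a ∈ maximalIdeal (A ⧸ m ^ j) ↔ a ∈ m := by
  rw [IsLocalRing.mem_maximalIdeal, mem_nonunits_iff]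
  constructor
  · intro h
    by_contra ha
    exact h (isUnit_mk_of_notMem m j a ha)
  · exact not_isUnit_mk_of_mem m j hj a

theorem maximalIdeal_quot_pow (j : ℕ) (hj : j ≠ 0) [IsLocalRing (A ⧸ m ^ j)] :
    maximalIdeal (A ⧸ m ^ j) = m.map (Ideal.Quotient.mk (m ^ j)) := by
  ext x
  obtain ⟨a, rfl⟩ := Ideal.Quotient.mk_surjective x
  rw [mk_mem_maximalIdeal_iff m j hj]
  constructor
  · exact fun h => Ideal.mem_map_of_mem _ h
  · intro h
    obtain ⟨b, hb, hab⟩ := (Ideal.mem_map_iff_of_surjective _ Ideal.Quotient.mk_surjective).mp h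
    have h1 : b - a ∈ m := Ideal.pow_le_self hj (Ideal.Quotient.eq.mp hab)
    have := Ideal.sub_mem _ hb h1
    rwa [sub_sub_cancel] at this

theorem isArtinianRing_quot_pow [IsNoetherianRing A] (j : ℕ) (hj : j ≠ 0) :
    IsArtinianRing (A ⧸ m ^ j) := by
  haveI := isLocalRing_quot_pow m j hj
  rw [isArtinianRing_iff_isNilpotent_maximalIdeal]
  refine ⟨j, ?_⟩
  rw [maximalIdeal_quot_pow m j hj, ← Ideal.map_pow, Ideal.zero_eq_bot, Ideal.map_quotient_self]

theorem residue_surjective_quot_pow {k : Type*} [Field k] [Algebra k A]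
    (hres : Function.Surjective (fun c : k => Ideal.Quotient.mk m (algebraMap k A c)))
    (j : ℕ) (hj : j ≠ 0) [IsLocalRing (A ⧸ m ^ j)] :
    Function.Surjective (fun c : k => IsLocalRing.residue (A ⧸ m ^ j)
      (algebraMap k (A ⧸ m ^ j) c)) := by
  intro z
  obtain ⟨x, rfl⟩ := IsLocalRing.residue_surjective z
  obtain ⟨a, rfl⟩ := Ideal.Quotient.mk_surjective x
  obtain ⟨c, hc⟩ := hres (Ideal.Quotient.mk m a)
  refine ⟨c, ?_⟩
  show IsLocalRing.residue _ _ = IsLocalRing.residue _ _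
  rw [← sub_eq_zero, ← map_sub, IsLocalRing.residue_eq_zero_iff]
  have h1 : algebraMap k (A ⧸ m ^ j) c - Ideal.Quotient.mk (m ^ j) a =
      Ideal.Quotient.mk (m ^ j) (algebraMap k A c - a) := by
    rw [map_sub]; rfl
  rw [h1, mk_mem_maximalIdeal_iff m j hj]
  exact Ideal.Quotient.eq.mp hc

end Groth.Agent.H5.Pop.Algz
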