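import Mathlib
import Groth.Agent.Lib.Helper5.CA.FormallyEtaleQuot
import Groth.Agent.Lib.Helper8.Japanese.ComplRed9

/-!
# An étale algebra mapping to the completion at a maximal ideal: comparison of the powers of the
maximal ideals (helper5)
-/

set_option autoImplicit false
universe u

namespace Groth.Agent.H5.Pop.CdJ

section Cpl

variable {P : Type u} [CommRing P] (n : Ideal P)

/-- The ideal `n^j · P̂` of the completion. -/
noncomputable def nh (j : ℕ) : Ideal (AdicCompletion n P) :=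
  (n ^ j).map (algebraMap P (AdicCompletion n P))

theorem nh_eq_pow (j : ℕ) : nh n j = nh n 1 ^ j := by
  rw [nh, nh, pow_one, Ideal.map_pow]

theorem nh_anti {i j : ℕ} (h : i ≤ j) : nh n j ≤ nh n i :=
  Ideal.map_mono (Ideal.pow_le_pow_right h)

theorem evalₐ_eq_zero_of_mem_nh (j : ℕ) (x : AdicCompletion n P) (hx : x ∈ nh n j) :
    AdicCompletion.evalₐ n j x = 0 := by
  have hle : nh n j ≤ RingHom.ker (AdicCompletion.evalₐ n j).toRingHom := by
    rw [nh, Ideal.map_le_iff_le_comap]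
    intro a ha
    show AdicCompletion.evalₐ n j (algebraMap P _ a) = 0
    rw [AlgHom.commutes]
    exact Ideal.Quotient.eq_zero_iff_mem.mpr ha
  exact hle hx

theorem mem_pow_of_algebraMap_mem_nh (j : ℕ) (p : P)
    (hp : algebraMap P (AdicCompletion n P) p ∈ nh n j) : p ∈ n ^ j := by
  have := evalₐ_eq_zero_of_mem_nh n j _ hp
  rw [AlgHom.commutes] at this
  exact Ideal.Quotient.eq_zero_iff_mem.mp this

theorem exists_sub_mem_nh (hfg : n.FG) (j : ℕ) (x : AdicCompletion n P) :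
    ∃ p : P, x - algebraMap P (AdicCompletion n P) p ∈ nh n j := by
  obtain ⟨p, hp⟩ := Ideal.Quotient.mk_surjective (AdicCompletion.evalₐ n j x)
  refine ⟨p, Groth.Agent.H8.Jap.ComplRed.mem_map_pow_of_evalₐ_eq_zero n hfg j _ ?_⟩
  rw [map_sub, AlgHom.commutes, sub_eq_zero, ← hp]
  rfl

end Cpl

section Etale

variable {P : Type u} [CommRing P] (n : Ideal P) [n.IsMaximal] (hfg : n.FG)
  {P' : Type u} [CommRing P'] [Algebra P P'] [Algebra.FormallyEtale P P']
  (lam : P' →ₐ[P] AdicCompletion n P)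

/-- The maximal ideal of the étale algebra cut out by the completion. -/
noncomputable def n' : Ideal P' := (nh n 1).comap lam

theorem nh_one_ne_top : nh n 1 ≠ ⊤ := by
  intro h
  have h1 : (1 : AdicCompletion n P) ∈ nh n 1 := by rw [h]; trivial
  have := mem_pow_of_algebraMap_mem_nh n 1 1 (by rwa [map_one])
  rw [pow_one] at this
  exact (Ideal.IsMaximal.ne_top inferInstance) ((Ideal.eq_top_iff_one n).mpr this)

theorem n'_ne_top : n' n lam ≠ ⊤ := by
  intro h
  have h1 : (1 : P') ∈ n' n lam := by rw [h]; trivial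
  have h2 : lam 1 ∈ nh n 1 := h1
  rw [map_one] at h2
  exact nh_one_ne_top n ((Ideal.eq_top_iff_one _).mpr h2)

theorem map_le_n' : n.map (algebraMap P P') ≤ n' n lam := by
  rw [Ideal.map_le_iff_le_comap]
  intro a ha
  show lam (algebraMap P P' a) ∈ nh n 1
  rw [lam.commutes]
  exact Ideal.mem_map_of_mem _ (by rwa [pow_one])

theorem comap_n' : (n' n lam).comap (algebraMap P P') = n := by
  refine ((Ideal.IsMaximal.eq_of_le inferInstance ?_ ?_)).symm
  · intro h
    have h1 : (1 : P) ∈ (n' n lam).comap (algebraMap P P') := by rw [h]; trivial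
    rw [Ideal.mem_comap, map_one] at h1
    exact n'_ne_top n lam ((Ideal.eq_top_iff_one _).mpr h1)
  · exact Ideal.map_le_iff_le_comap.mp (map_le_n' n lam)

include hfg in
theorem exists_sub_mem_n' (p' : P') : ∃ a : P, p' - algebraMap P P' a ∈ n' n lam := by
  obtain ⟨a, ha⟩ := exists_sub_mem_nh n hfg 1 (lam p')
  refine ⟨a, ?_⟩
  show lam (p' - algebraMap P P' a) ∈ nh n 1
  rwa [map_sub, lam.commutes]

include hfg in
theorem surjective_algebraMap_quot_n' :
    Function.Surjective (algebraMap P (P' ⧸ n' n lam)) := by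
  intro z
  obtain ⟨p', rfl⟩ := Ideal.Quotient.mk_surjective z
  obtain ⟨a, ha⟩ := exists_sub_mem_n' n hfg lam p'
  refine ⟨a, ?_⟩
  rw [IsScalarTower.algebraMap_apply P P' (P' ⧸ n' n lam), Ideal.Quotient.algebraMap_eq]
  exact (Ideal.Quotient.eq.mpr ha).symm

include hfg in
theorem exists_sub_mem_n'_pow (j : ℕ) (p' : P') :
    ∃ a : P, p' - algebraMap P P' a ∈ n' n lam ^ j := by
  have hb := Groth.Agent.H5.CA.quotientMap_pow_bijective_of_formallyEtale P P' (n' n lam)
    (surjective_algebraMap_quot_n' n hfg lam) j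
  obtain ⟨x, hx⟩ := hb.2 (Ideal.Quotient.mk _ p')
  obtain ⟨a, rfl⟩ := Ideal.Quotient.mk_surjective x
  refine ⟨a, ?_⟩
  rw [Ideal.quotientMap_mk] at hx
  exact Ideal.Quotient.eq.mp hx.symm

theorem map_pow_le_n'_pow (j : ℕ) : (n ^ j).map (algebraMap P P') ≤ n' n lam ^ j := by
  rw [Ideal.map_pow]
  exact Ideal.pow_right_mono (map_le_n' n lam) j

theorem lam_mem_nh_of_mem (j : ℕ) (p' : P') (hp : p' ∈ n' n lam ^ j) : lam p' ∈ nh n j := by
  have h1 : n' n lam ^ j ≤ (nh n 1 ^ j).comap lam := Ideal.le_comap_pow _ j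
  rw [nh_eq_pow]
  exact h1 hp

include hfg in
theorem mem_n'_pow_of_lam_mem (j : ℕ) (p' : P') (hp : lam p' ∈ nh n j) : p' ∈ n' n lam ^ j := by
  obtain ⟨a, ha⟩ := exists_sub_mem_n'_pow n hfg lam j p'
  have h1 := lam_mem_nh_of_mem n lam j _ ha
  rw [map_sub, lam.commutes] at h1
  have h2 : algebraMap P (AdicCompletion n P) a ∈ nh n j := by
    have := Ideal.sub_mem _ hp h1
    rwa [sub_sub_cancel] at this
  have h3 := mem_pow_of_algebraMap_mem_nh n j a h2
  have h4 := map_pow_le_n'_pow n lam j (Ideal.mem_map_of_mem _ h3)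
  have := Ideal.add_mem _ ha h4
  rwa [sub_add_cancel] at this

include hfg in
theorem lam_mem_nh_iff (j : ℕ) (p' : P') : lam p' ∈ nh n j ↔ p' ∈ n' n lam ^ j :=
  ⟨mem_n'_pow_of_lam_mem n hfg lam j p', lam_mem_nh_of_mem n lam j p'⟩

include hfg in
/-- Elements of `n'^j` are approximated by elements of `n^j`. -/
theorem exists_mem_pow_sub_mem (j : ℕ) (p' : P') (hp : p' ∈ n' n lam ^ j) :
    ∃ a ∈ n ^ j, p' - algebraMap P P' a ∈ n' n lam ^ (j + 1) := by
  obtain ⟨a, ha⟩ := exists_sub_mem_n'_pow n hfg lam (j + 1) p'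
  refine ⟨a, ?_, ha⟩
  apply mem_pow_of_algebraMap_mem_nh n j
  have h1 := lam_mem_nh_of_mem n lam j _ (Ideal.pow_le_pow_right (Nat.le_succ j) ha)
  have h2 := lam_mem_nh_of_mem n lam j _ hp
  rw [map_sub, lam.commutes] at h1
  have := Ideal.sub_mem _ h2 h1
  rwa [sub_sub_cancel] at this

end Etale

end Groth.Agent.H5.Pop.CdJ
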