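import Mathlib
import Groth.Prelude.Def_GrMap
import Groth.Agent.Lib.Helper8.GrMapBij
import Groth.Agent.Lib.Helper5.Pop.CdJ5
import Groth.Agent.Lib.Helper5.CA2.FPEndo

/-!
# A map from a complete local ring to a completion which is surjective modulo the square of the
maximal ideal is bijective as soon as the associated graded rings are abstractly isomorphic (helper5)
-/

set_option autoImplicit false
universe u
open IsLocalRing AssocGr

namespace Groth.Agent.H5.Pop.Algz

open Groth.Agent.H5.Pop.CdJ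

theorem isNoetherianRing_grRing {R : Type u} [CommRing R] [IsNoetherianRing R] (I : Ideal R) :
    IsNoetherianRing (GrRing (FiltBl.IdealFiltration.adic I)) := by
  haveI : IsNoetherianRing ↥(FiltBl.IdealFiltration.adic I).rees := by
    rw [Rees.adic_rees_eq]; infer_instance
  exact inferInstanceAs (IsNoetherianRing
    (↥(FiltBl.IdealFiltration.adic I).rees ⧸ succIdeal (FiltBl.IdealFiltration.adic I)))

/-- Dependent choice along `ℕ`. -/
theorem exists_dep_chain {X : ℕ → Type*} (P : ∀ j, X j → Prop) (Rel : ∀ j, X j → X (j + 1) → Prop)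
    (x0 : X 0) (h0 : P 0 x0)
    (hstep : ∀ j (x : X j), P j x → ∃ x' : X (j + 1), P (j + 1) x' ∧ Rel j x x') :
    ∃ S : ∀ j, X j, S 0 = x0 ∧ (∀ j, P j (S j)) ∧ ∀ j, Rel j (S j) (S (j + 1)) := by
  classical
  let T : ∀ j, {x : X j // P j x} := fun j => Nat.rec (motive := fun j => {x : X j // P j x})
    ⟨x0, h0⟩ (fun j t => ⟨Classical.choose (hstep j t.1 t.2),
      (Classical.choose_spec (hstep j t.1 t.2)).1⟩) j
  refine ⟨fun j => (T j).1, rfl, fun j => (T j).2, fun j => ?_⟩
  exact (Classical.choose_spec (hstep j (T j).1 (T j).2)).2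

section Bij

variable {R : Type u} [CommRing R] [IsLocalRing R] [IsNoetherianRing R]
  [IsAdicComplete (maximalIdeal R) R]
  {A : Type u} [CommRing A] [IsNoetherianRing A] (m : Ideal A) [m.IsMaximal]
  (α : R →+* AdicCompletion m A)
  (h1 : ∀ x ∈ maximalIdeal R, AdicCompletion.evalₐ m 1 (α x) = 0)
  (h2 : ∀ b : AdicCompletion m A, ∃ a : R,
    AdicCompletion.evalₐ m 2 (α a) = AdicCompletion.evalₐ m 2 b)

include h1 in
theorem map_le_nh : (maximalIdeal R).map α ≤ nh m 1 := by
  rw [Ideal.map_le_iff_le_comap]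
  intro x hx
  exact Groth.Agent.H8.Jap.ComplRed.mem_map_pow_of_evalₐ_eq_zero m
    (IsNoetherian.noetherian m) 1 _ (h1 x hx)

include h1 in
theorem isFiltHom_α : IsFiltHom α (FiltBl.IdealFiltration.adic (maximalIdeal R))
    (FiltBl.IdealFiltration.adic (nh m 1)) :=
  IsFiltHom.adic (map_le_nh m α h1)

include h2 in
theorem approx0 (b : AdicCompletion m A) : ∃ a : R, b - α a ∈ nh m 2 := by
  obtain ⟨a, ha⟩ := h2 b
  refine ⟨a, Groth.Agent.H8.Jap.ComplRed.mem_map_pow_of_evalₐ_eq_zero m
    (IsNoetherian.noetherian m) 2 _ ?_⟩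
  rw [map_sub, ha, sub_self]

include h2 in
theorem approx1 (b : AdicCompletion m A) (hb : b ∈ nh m 1) :
    ∃ a ∈ maximalIdeal R, b - α a ∈ nh m 2 := by
  obtain ⟨a, ha⟩ := approx0 m α h2 b
  refine ⟨a, ?_, ha⟩
  by_contra hmem
  have hu : IsUnit a := by
    by_contra h
    exact hmem ((IsLocalRing.mem_maximalIdeal a).mpr h)
  have h3 : α a ∈ nh m 1 := by
    have := Ideal.sub_mem _ hb (nh_anti m (Nat.le_succ 1) ha)
    rwa [sub_sub_cancel] at this
  exact nh_one_ne_top m (Ideal.eq_top_of_isUnit_mem _ h3 (hu.map α))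

include h1 h2 in
theorem approx (j : ℕ) (b : AdicCompletion m A) (hb : b ∈ nh m 1 ^ j) :
    ∃ a ∈ maximalIdeal R ^ j, b - α a ∈ nh m 1 ^ (j + 1) := by
  induction j generalizing b with
  | zero =>
    obtain ⟨a, ha⟩ := approx0 m α h2 b
    refine ⟨a, by simp, ?_⟩
    rw [zero_add, pow_one]
    exact nh_anti m (Nat.le_succ 1) ha
  | succ j ih =>
    rw [pow_succ] at hb
    refine Submodule.mul_induction_on hb (fun x hx y hy => ?_) (fun x y hx hy => ?_)
    · obtain ⟨ax, hax, hx'⟩ := ih x hx
      obtain ⟨ay, hay, hy'⟩ := approx1 m α h2 y hy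
      refine ⟨ax * ay, ?_, ?_⟩
      · rw [pow_succ]; exact Ideal.mul_mem_mul hax hay
      · have e : x * y - α (ax * ay) = (x - α ax) * y + α ax * (y - α ay) := by
          rw [map_mul]; ring
        rw [e]
        refine Ideal.add_mem _ ?_ ?_
        · rw [pow_succ (nh m 1) (j + 1)]
          exact Ideal.mul_mem_mul hx' hy
        · have h4 : α ax ∈ nh m 1 ^ j := (isFiltHom_α m α h1).apply_mem hax
          have h5 : y - α ay ∈ nh m 1 ^ 2 := by rw [← nh_eq_pow]; exact hy'
          have := Ideal.mul_mem_mul h4 h5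
          rwa [← pow_add] at this
    · obtain ⟨ax, hax, hx'⟩ := hx
      obtain ⟨ay, hay, hy'⟩ := hy
      refine ⟨ax + ay, Ideal.add_mem _ hax hay, ?_⟩
      have e : x + y - α (ax + ay) = (x - α ax) + (y - α ay) := by rw [map_add]; ring
      rw [e]
      exact Ideal.add_mem _ hx' hy'

theorem isFiltHom_of : IsFiltHom (algebraMap A (AdicCompletion m A))
    (FiltBl.IdealFiltration.adic m) (FiltBl.IdealFiltration.adic (nh m 1)) :=
  IsFiltHom.adic (by rw [nh, pow_one])

theorem gr_of_bijective : Function.Bijective (AssocGr.map (isFiltHom_of m)) := by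
  have hfg : m.FG := IsNoetherian.noetherian m
  refine Groth.Agent.H8.GrMapBij.map_bijective _ (fun j a _ ha' => ?_) (fun j b hb => ?_)
  · apply mem_pow_of_algebraMap_mem_nh m (j + 1)
    rw [nh_eq_pow]; exact ha'
  · obtain ⟨a, ha⟩ := exists_sub_mem_nh m hfg (j + 1) b
    refine ⟨a, ?_, ?_⟩
    · apply mem_pow_of_algebraMap_mem_nh m j
      have hb' : b ∈ nh m j := by rw [nh_eq_pow]; exact hb
      have := Ideal.sub_mem _ hb' (nh_anti m (Nat.le_succ j) ha)
      rwa [sub_sub_cancel] at this
    · show _ ∈ nh m 1 ^ (j + 1)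
      rw [← nh_eq_pow]; exact ha

include h1 h2 in
theorem gr_α_surjective : Function.Surjective (AssocGr.map (isFiltHom_α m α h1)) :=
  Groth.Agent.H8.GrMapBij.map_surjective _ (fun j b hb => approx m α h1 h2 j b hb)

include h1 h2 in
theorem gr_α_injective
    (e : GrRing (FiltBl.IdealFiltration.adic (maximalIdeal R)) ≃+*
      GrRing (FiltBl.IdealFiltration.adic m)) :
    Function.Injective (AssocGr.map (isFiltHom_α m α h1)) := by
  haveI := isNoetherianRing_grRing (maximalIdeal R)
  let ε := RingEquiv.ofBijective _ (gr_of_bijective m)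
  let ψ : GrRing (FiltBl.IdealFiltration.adic (maximalIdeal R)) →+*
      GrRing (FiltBl.IdealFiltration.adic (maximalIdeal R)) :=
    (e.symm.toRingHom.comp ε.symm.toRingHom).comp (AssocGr.map (isFiltHom_α m α h1))
  have hψ : Function.Surjective ψ :=
    (e.symm.surjective.comp ε.symm.surjective).comp (gr_α_surjective m α h1 h2)
  have hinj := H5FPEndo.injective_of_surjective_endo ψ hψ
  intro x y hxy
  apply hinj
  show e.symm (ε.symm (AssocGr.map (isFiltHom_α m α h1) x)) =
    e.symm (ε.symm (AssocGr.map (isFiltHom_α m α h1) y))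
  rw [hxy]

include h1 h2 in
theorem injective_of_gr
    (e : GrRing (FiltBl.IdealFiltration.adic (maximalIdeal R)) ≃+*
      GrRing (FiltBl.IdealFiltration.adic m)) : Function.Injective α := by
  have hstep := Groth.Agent.H8.GrMapBij.of_map_injective (isFiltHom_α m α h1)
    (gr_α_injective m α h1 h2 e)
  rw [injective_iff_map_eq_zero]
  intro a ha
  have hall : ∀ j, a ∈ maximalIdeal R ^ j := by
    intro j
    induction j with
    | zero => simp
    | succ j ih =>
      refine hstep j a ih ?_
      rw [ha]; exact Ideal.zero_mem _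
  have hH : IsHausdorff (maximalIdeal R) R := inferInstance
  apply hH.haus'
  intro j
  rw [SModEq.zero, smul_eq_mul, Ideal.mul_top]
  exact hall j

include h1 h2 in
theorem surjective_of_gr : Function.Surjective α := by
  intro b
  -- partial sums
  obtain ⟨S, hS0, hS1, hS2⟩ := exists_dep_chain (X := fun _ => R)
    (fun j s => b - α s ∈ nh m 1 ^ j) (fun j s s' => s' - s ∈ maximalIdeal R ^ j) 0 (by simp)
    (fun j s hs => by
      obtain ⟨a, ha, hab⟩ := approx m α h1 h2 j _ hs
      refine ⟨s + a, ?_, ?_⟩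
      · have e : b - α (s + a) = b - α s - α a := by rw [map_add]; ring
        rw [e]; exact hab
      · rwa [add_sub_cancel_left])
  have hcauchy : ∀ {i j : ℕ}, i ≤ j → S i ≡ S j [SMOD (maximalIdeal R ^ i • ⊤ : Submodule R R)] := by
    intro i j hij
    induction j, hij using Nat.le_induction with
    | base => rfl
    | succ j hij ih =>
      refine ih.trans ?_
      rw [SModEq.sub_mem, smul_eq_mul, Ideal.mul_top, ← neg_sub, neg_mem_iff]
      exact Ideal.pow_le_pow_right hij (hS2 j)
  have hP : IsPrecomplete (maximalIdeal R) R := inferInstance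
  obtain ⟨L, hL⟩ := hP.prec' S hcauchy
  refine ⟨L, ?_⟩
  symm
  rw [← sub_eq_zero]
  apply AdicCompletion.ext_evalₐ
  intro j
  rw [map_zero]
  apply evalₐ_eq_zero_of_mem_nh m j
  rw [nh_eq_pow]
  have e : b - α L = (b - α (S j)) + α (S j - L) := by rw [map_sub]; ring
  rw [e]
  refine Ideal.add_mem _ (hS1 j) ((isFiltHom_α m α h1).apply_mem ?_)
  have := hL j
  rwa [SModEq.sub_mem, smul_eq_mul, Ideal.mul_top] at this

include h1 h2 in
theorem bijective_of_gr
    (e : GrRing (FiltBl.IdealFiltration.adic (maximalIdeal R)) ≃+*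
      GrRing (FiltBl.IdealFiltration.adic m)) : Function.Bijective α :=
  ⟨injective_of_gr m α h1 h2 e, surjective_of_gr m α h1 h2⟩

end Bij

end Groth.Agent.H5.Pop.Algz
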