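import Mathlib

/-!
# The Conrad–de Jong approximation lemma (helper5)

Let `S` be a ring, `I` an ideal, `f : ι → S` generators of an ideal `K`, `g : κ → ι → S` generators
of the module of relations of `f`, and `c` an Artin–Rees constant for both.  If `(f', g')` is another
such pair of families with `g'` consisting of relations of `f'` and `f ≡ f'`, `g ≡ g'` modulo
`I ^ (c + 1)`, then `K` and `K' = (f')` have the same initial forms in every degree.
-/

set_option autoImplicit false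

namespace Groth.Agent.H5.Pop.CdJ

open Finset

variable {S : Type*} [CommRing S] (I : Ideal S) {ι κ : Type*} [Fintype ι] [Fintype κ]

omit [Fintype ι] [Fintype κ] in
theorem pow_mul_mem {a b : S} {p q r : ℕ} (ha : a ∈ I ^ p) (hb : b ∈ I ^ q) (h : r ≤ p + q) :
    a * b ∈ I ^ r :=
  Ideal.pow_le_pow_right h (by rw [pow_add]; exact Ideal.mul_mem_mul ha hb)

omit [Fintype κ] in
theorem sum_mul_mem {w d : ι → S} {p q r : ℕ} (hw : ∀ i, w i ∈ I ^ p) (hd : ∀ i, d i ∈ I ^ q)
    (h : r ≤ p + q) : ∑ i, w i * d i ∈ I ^ r :=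
  Ideal.sum_mem _ fun i _ => pow_mul_mem I (hw i) (hd i) h

/-- The Artin–Rees property of `f` with constant `c`. -/
def AR1 (f : ι → S) (c : ℕ) : Prop :=
  ∀ (n : ℕ) (y : ι → S), ∑ i, y i * f i ∈ I ^ n →
    ∃ w : ι → S, (∀ i, w i ∈ I ^ (n - c)) ∧ ∑ i, w i * f i = ∑ i, y i * f i

/-- The Artin–Rees property of the relations `g` with constant `c`. -/
def AR3 (g : κ → ι → S) (c : ℕ) : Prop :=
  ∀ (n : ℕ) (u : κ → S), (∀ i, ∑ l, u l * g l i ∈ I ^ n) →
    ∃ v : κ → S, (∀ l, v l ∈ I ^ (n - c)) ∧ ∀ i, ∑ l, v l * g l i = ∑ l, u l * g l i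

/-- `g` generates the relations of `f`. -/
def Exact (f : ι → S) (g : κ → ι → S) : Prop :=
  ∀ y : ι → S, ∑ i, y i * f i = 0 → ∃ u : κ → S, ∀ i, y i = ∑ l, u l * g l i

theorem cdj_aux (f f' : ι → S) (g g' : κ → ι → S) (c : ℕ) (hex : Exact f g)
    (h1 : AR1 I f c) (h3 : AR3 I g c) (hrel' : ∀ l, ∑ i, g' l i * f' i = 0)
    (hf : ∀ i, f i - f' i ∈ I ^ (c + 1)) (hg : ∀ l i, g l i - g' l i ∈ I ^ (c + 1))
    (n : ℕ) (x' : S) (hx' : x' ∈ I ^ n) (y : ι → S) (hy : ∑ i, y i * f' i = x') (j : ℕ)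
    (hj : j + c ≤ n) : ∃ w : ι → S, (∀ i, w i ∈ I ^ j) ∧ ∑ i, w i * f' i = x' := by
  induction j with
  | zero => exact ⟨y, fun i => by simp, hy⟩
  | succ j ih =>
    obtain ⟨w, hw, hwx⟩ := ih (by omega)
    -- x := ∑ w f
    have hx : ∑ i, w i * f i ∈ I ^ (j + 1 + c) := by
      have e : ∑ i, w i * f i = x' + ∑ i, w i * (f i - f' i) := by
        rw [← hwx, ← Finset.sum_add_distrib]
        exact Finset.sum_congr rfl fun i _ => by ring
      rw [e]
      exact Ideal.add_mem _ (Ideal.pow_le_pow_right hj hx')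
        (sum_mul_mem I hw hf (by omega))
    obtain ⟨wt, hwt, hwtx⟩ := h1 (j + 1 + c) w hx
    have hwt' : ∀ i, wt i ∈ I ^ (j + 1) := fun i => by
      have := hwt i
      rwa [Nat.add_sub_cancel] at this
    -- z := w - wt is a relation
    have hz0 : ∑ i, (w i - wt i) * f i = 0 := by
      simp only [sub_mul, Finset.sum_sub_distrib, hwtx, sub_self]
    obtain ⟨u, hu⟩ := hex _ hz0
    have hzj : ∀ i, ∑ l, u l * g l i ∈ I ^ j := fun i => by
      rw [← hu i]
      exact Ideal.sub_mem _ (hw i) (Ideal.pow_le_pow_right (Nat.le_succ j) (hwt' i))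
    obtain ⟨v, hv, hvz⟩ := h3 j u hzj
    refine ⟨fun i => w i - ∑ l, v l * g' l i, fun i => ?_, ?_⟩
    · have e : w i - ∑ l, v l * g' l i = wt i + ∑ l, v l * (g l i - g' l i) := by
        have h1 : w i = wt i + ∑ l, v l * g l i := by
          rw [hvz i, ← hu i]; ring
        rw [h1, add_sub_assoc, ← Finset.sum_sub_distrib]
        congr 1
        exact Finset.sum_congr rfl fun l _ => by ring
      show w i - ∑ l, v l * g' l i ∈ I ^ (j + 1)
      rw [e]
      exact Ideal.add_mem _ (hwt' i)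
        (sum_mul_mem I hv (fun l => hg l i) (by omega))
    · have e : ∑ i, (w i - ∑ l, v l * g' l i) * f' i =
          ∑ i, w i * f' i - ∑ l, v l * ∑ i, g' l i * f' i := by
        simp only [sub_mul, Finset.sum_sub_distrib, Finset.sum_mul, Finset.mul_sum]
        congr 1
        rw [Finset.sum_comm]
        exact Finset.sum_congr rfl fun l _ => Finset.sum_congr rfl fun i _ => by ring
      rw [e, hwx]
      simp only [hrel', mul_zero, Finset.sum_const_zero, sub_zero]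

/-- The Artin–Rees property passes to the approximating family. -/
theorem ar1_of_close (f f' : ι → S) (g g' : κ → ι → S) (c : ℕ) (hex : Exact f g)
    (h1 : AR1 I f c) (h3 : AR3 I g c) (hrel' : ∀ l, ∑ i, g' l i * f' i = 0)
    (hf : ∀ i, f i - f' i ∈ I ^ (c + 1)) (hg : ∀ l i, g l i - g' l i ∈ I ^ (c + 1)) :
    AR1 I f' c := by
  intro n y hy
  by_cases hn : c ≤ n
  · obtain ⟨w, hw, hwx⟩ := cdj_aux I f f' g g' c hex h1 h3 hrel' hf hg n _ hy y rfl (n - c)
      (by omega)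
    exact ⟨w, hw, hwx⟩
  · refine ⟨y, fun i => ?_, rfl⟩
    have : n - c = 0 := by omega
    rw [this]; simp

omit [Fintype κ] in
theorem sup_le_of_close (f f' : ι → S) (c : ℕ) (h1 : AR1 I f c)
    (hf : ∀ i, f i - f' i ∈ I ^ (c + 1)) (n : ℕ) (x : S) (hx : x ∈ I ^ n)
    (hxK : x ∈ Ideal.span (Set.range f) ⊔ I ^ (n + 1)) :
    x ∈ Ideal.span (Set.range f') ⊔ I ^ (n + 1) := by
  obtain ⟨a, ha, b, hb, rfl⟩ := Submodule.mem_sup.mp hxK
  obtain ⟨y, rfl⟩ := (Ideal.mem_span_range_iff_exists_fun).mp ha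
  have han : ∑ i, y i * f i ∈ I ^ n := by
    have := Ideal.sub_mem _ hx (Ideal.pow_le_pow_right (Nat.le_succ n) hb)
    rwa [add_sub_cancel_right] at this
  obtain ⟨w, hw, hwx⟩ := h1 n y han
  have e : ∑ i, y i * f i + b = ∑ i, w i * f' i + (∑ i, w i * (f i - f' i) + b) := by
    rw [← hwx, ← add_assoc, ← Finset.sum_add_distrib]
    congr 1
    exact Finset.sum_congr rfl fun i _ => by ring
  rw [e]
  refine Submodule.add_mem_sup ((Ideal.mem_span_range_iff_exists_fun).mpr ⟨w, rfl⟩)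
    (Ideal.add_mem _ (sum_mul_mem I hw hf (by omega)) hb)

/-- **Conrad–de Jong**: the ideals `(f)` and `(f')` have the same initial forms. -/
theorem cdj (f f' : ι → S) (g g' : κ → ι → S) (c : ℕ) (hex : Exact f g)
    (h1 : AR1 I f c) (h3 : AR3 I g c) (hrel' : ∀ l, ∑ i, g' l i * f' i = 0)
    (hf : ∀ i, f i - f' i ∈ I ^ (c + 1)) (hg : ∀ l i, g l i - g' l i ∈ I ^ (c + 1))
    (n : ℕ) (x : S) (hx : x ∈ I ^ n) :
    x ∈ Ideal.span (Set.range f) ⊔ I ^ (n + 1) ↔ x ∈ Ideal.span (Set.range f') ⊔ I ^ (n + 1) := by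
  refine ⟨sup_le_of_close I f f' c h1 hf n x hx, sup_le_of_close I f' f c
    (ar1_of_close I f f' g g' c hex h1 h3 hrel' hf hg) (fun i => ?_) n x hx⟩
  have := hf i
  rw [← Ideal.neg_mem_iff, neg_sub] at this
  exact this

end Groth.Agent.H5.Pop.CdJ
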