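import Mathlib
import Groth.Agent.Lib.Helper5.Pop.CdJ1

/-!
# Existence of Artin–Rees data for a finite family in a Noetherian ring (helper5)
-/

set_option autoImplicit false

namespace Groth.Agent.H5.Pop.CdJ

open Finset

variable {S : Type*} [CommRing S] [IsNoetherianRing S] (I : Ideal S) {ι : Type*} [Fintype ι]

theorem exists_ar1 (f : ι → S) : ∃ c : ℕ, ∀ c' ≥ c, AR1 I f c' := by
  classical
  obtain ⟨k, hk⟩ := Ideal.exists_pow_inf_eq_pow_smul I (Ideal.span (Set.range f))
  refine ⟨k, fun c hc n y hy => ?_⟩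
  by_cases hn : c ≤ n
  · have hmem : ∑ i, y i * f i ∈ I ^ n • (⊤ : Submodule S S) ⊓ Ideal.span (Set.range f) := by
      refine ⟨?_, (Ideal.mem_span_range_iff_exists_fun).mpr ⟨y, rfl⟩⟩
      rw [SetLike.mem_coe, Ideal.smul_top_eq_map, Algebra.algebraMap_self, Ideal.map_id]
      exact hy
    rw [hk n (by omega)] at hmem
    have hle : I ^ (n - k) • (I ^ k • (⊤ : Submodule S S) ⊓ Ideal.span (Set.range f)) ≤
        I ^ (n - c) • (Submodule.span S (Set.range f)) :=
      Submodule.smul_mono (Ideal.pow_le_pow_right (by omega)) inf_le_right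
    obtain ⟨a, ha, hax⟩ := (Submodule.mem_ideal_smul_span_iff_exists_sum _ f _).mp (hle hmem)
    refine ⟨fun i => a i, ha, ?_⟩
    rw [← hax, Finsupp.sum_fintype a (fun i c => c • f i) (fun i => zero_smul _ _)]
    rfl
  · refine ⟨y, fun i => ?_, rfl⟩
    have : n - c = 0 := by omega
    rw [this]; simp

theorem exists_ar3 {κ : Type*} [Fintype κ] (g : κ → ι → S) : ∃ c : ℕ, ∀ c' ≥ c, AR3 I g c' := by
  classical
  obtain ⟨k, hk⟩ := Ideal.exists_pow_inf_eq_pow_smul I (Submodule.span S (Set.range g))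
  refine ⟨k, fun c hc n u hu => ?_⟩
  by_cases hn : c ≤ n
  · have hz : ∑ l, u l • g l ∈ I ^ n • (⊤ : Submodule S (ι → S)) ⊓ Submodule.span S (Set.range g) := by
      refine ⟨?_, (Submodule.mem_span_range_iff_exists_fun S).mpr ⟨u, rfl⟩⟩
      rw [SetLike.mem_coe, pi_eq_sum_univ (∑ l, u l • g l)]
      refine Submodule.sum_mem _ fun i _ => Submodule.smul_mem_smul ?_ Submodule.mem_top
      have := hu i
      simpa [Finset.sum_apply, Pi.smul_apply, smul_eq_mul] using this
    rw [hk n (by omega)] at hz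
    have hle : I ^ (n - k) • (I ^ k • (⊤ : Submodule S (ι → S)) ⊓ Submodule.span S (Set.range g)) ≤
        I ^ (n - c) • (Submodule.span S (Set.range g)) :=
      Submodule.smul_mono (Ideal.pow_le_pow_right (by omega)) inf_le_right
    obtain ⟨a, ha, hax⟩ := (Submodule.mem_ideal_smul_span_iff_exists_sum _ g _).mp (hle hz)
    refine ⟨fun l => a l, ha, fun i => ?_⟩
    rw [Finsupp.sum_fintype a (fun l c => c • g l) (fun i => zero_smul _ _)] at hax
    have := congrFun hax i
    simpa [Finset.sum_apply, Pi.smul_apply, smul_eq_mul] using this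
  · refine ⟨u, fun l => ?_, fun _ => rfl⟩
    have : n - c = 0 := by omega
    rw [this]; simp

/-- Generators of the relations of a finite family. -/
theorem exists_exact (f : ι → S) : ∃ (s : ℕ) (g : Fin s → ι → S),
    (∀ l, ∑ i, g l i * f i = 0) ∧ Exact f g := by
  classical
  obtain ⟨s, g, hg⟩ := (Submodule.fg_iff_exists_fin_generating_family).mp
    (IsNoetherian.noetherian (LinearMap.ker (Fintype.linearCombination S f)))
  refine ⟨s, g, fun l => ?_, fun y hy => ?_⟩
  · have : g l ∈ LinearMap.ker (Fintype.linearCombination S f) := by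
      rw [← hg]; exact Submodule.subset_span ⟨l, rfl⟩
    rw [LinearMap.mem_ker, Fintype.linearCombination_apply] at this
    simpa [smul_eq_mul] using this
  · have : y ∈ LinearMap.ker (Fintype.linearCombination S f) := by
      rw [LinearMap.mem_ker, Fintype.linearCombination_apply]
      simpa [smul_eq_mul] using hy
    rw [← hg] at this
    obtain ⟨u, hu⟩ := (Submodule.mem_span_range_iff_exists_fun S).mp this
    refine ⟨u, fun i => ?_⟩
    rw [← hu]
    simp [Finset.sum_apply, Pi.smul_apply, smul_eq_mul]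

/-- All Artin–Rees data at once. -/
theorem exists_data (f : ι → S) : ∃ (s : ℕ) (g : Fin s → ι → S) (c : ℕ),
    (∀ l, ∑ i, g l i * f i = 0) ∧ Exact f g ∧ ∀ c' ≥ c, AR1 I f c' ∧ AR3 I g c' := by
  obtain ⟨s, g, hrel, hex⟩ := exists_exact f
  obtain ⟨c1, h1⟩ := exists_ar1 I f
  obtain ⟨c3, h3⟩ := exists_ar3 I g
  exact ⟨s, g, max c1 c3, hrel, hex, fun c' hc' =>
    ⟨h1 c' (le_trans (le_max_left _ _) hc'), h3 c' (le_trans (le_max_right _ _) hc')⟩⟩

end Groth.Agent.H5.Pop.CdJ
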