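import Mathlib
import Groth.Prelude.Def_GrMap
import Groth.Agent.Lib.Helper8.GrMapBij

/-!
# Two filtered rings dominated by a third one with the same symbols have isomorphic
associated graded rings (helper5)
-/

set_option autoImplicit false
universe u

namespace Groth.Agent.H5.Pop.CdJ

open AssocGr Polynomial

variable {P R A : Type u} [CommRing P] [CommRing R] [CommRing A]
  {φR : P →+* R} {φA : P →+* A}
  {𝓟 : FiltBl.IdealFiltration P} {𝓡 : FiltBl.IdealFiltration R} {𝓐 : FiltBl.IdealFiltration A}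

theorem exists_preimage_gr (hR : IsFiltHom φR 𝓟 𝓡)
    (sR : ∀ n, ∀ b ∈ 𝓡.F n, ∃ a ∈ 𝓟.F n, b - φR a ∈ 𝓡.F (n + 1))
    (n : ℕ) (x : GrRing 𝓡) (hx : x ∈ gr 𝓡 n) : ∃ z ∈ gr 𝓟 n, AssocGr.map hR z = x := by
  obtain ⟨b, hb⟩ := inDeg_surjective 𝓡 n ⟨x, hx⟩
  obtain ⟨a, ha, hab⟩ := sR n b b.2
  refine ⟨(inDeg 𝓟 n ⟨a, ha⟩ : GrRing 𝓟), (inDeg 𝓟 n ⟨a, ha⟩).2, ?_⟩
  rw [map_inDeg]
  have hx' : x = (inDeg 𝓡 n b : GrRing 𝓡) := by rw [hb]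
  rw [hx']
  have h0 : inDeg 𝓡 n (b - ⟨φR a, hR.apply_mem ha⟩) = 0 := by
    rw [inDeg_eq_zero_iff]
    exact hab
  rw [map_sub, sub_eq_zero] at h0
  rw [h0]

theorem ker_map_eq (hR : IsFiltHom φR 𝓟 𝓡) (hA : IsFiltHom φA 𝓟 𝓐)
    (hker : ∀ n, ∀ a ∈ 𝓟.F n, φR a ∈ 𝓡.F (n + 1) ↔ φA a ∈ 𝓐.F (n + 1)) :
    RingHom.ker (AssocGr.map hR) = RingHom.ker (AssocGr.map hA) := by
  ext x
  obtain ⟨f, rfl⟩ := mkG_surjective 𝓟 x
  rw [RingHom.mem_ker, RingHom.mem_ker, map_mkG, map_mkG, mkG_eq_zero_iff, mkG_eq_zero_iff,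
    mem_succIdeal_iff, mem_succIdeal_iff]
  constructor
  · intro h n
    have := h n
    rw [coe_reesMap, coeff_map] at this ⊢
    exact (hker n _ (f.2 n)).mp this
  · intro h n
    have := h n
    rw [coe_reesMap, coeff_map] at this ⊢
    exact (hker n _ (f.2 n)).mpr this

theorem exists_grIso (hR : IsFiltHom φR 𝓟 𝓡) (hA : IsFiltHom φA 𝓟 𝓐)
    (sR : ∀ n, ∀ b ∈ 𝓡.F n, ∃ a ∈ 𝓟.F n, b - φR a ∈ 𝓡.F (n + 1))
    (sA : ∀ n, ∀ b ∈ 𝓐.F n, ∃ a ∈ 𝓟.F n, b - φA a ∈ 𝓐.F (n + 1))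
    (hker : ∀ n, ∀ a ∈ 𝓟.F n, φR a ∈ 𝓡.F (n + 1) ↔ φA a ∈ 𝓐.F (n + 1)) :
    ∃ e : GrRing 𝓡 ≃+* GrRing 𝓐, (∀ x, e (AssocGr.map hR x) = AssocGr.map hA x) ∧
      (∀ n x, x ∈ gr 𝓡 n → e x ∈ gr 𝓐 n) ∧ (∀ n y, y ∈ gr 𝓐 n → e.symm y ∈ gr 𝓡 n) := by
  have hsR := Groth.Agent.H8.GrMapBij.map_surjective hR sR
  have hsA := Groth.Agent.H8.GrMapBij.map_surjective hA sA
  have hk := ker_map_eq hR hA hker
  let e : GrRing 𝓡 ≃+* GrRing 𝓐 :=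
    (RingHom.quotientKerEquivOfSurjective hsR).symm.trans
      ((Ideal.quotEquivOfEq hk).trans (RingHom.quotientKerEquivOfSurjective hsA))
  have he : ∀ x, e (AssocGr.map hR x) = AssocGr.map hA x := by
    intro x
    have h1 : (RingHom.quotientKerEquivOfSurjective hsR).symm (AssocGr.map hR x) =
        Ideal.Quotient.mk _ x := by
      rw [RingEquiv.symm_apply_eq]; rfl
    show (RingHom.quotientKerEquivOfSurjective hsA) ((Ideal.quotEquivOfEq hk)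
      ((RingHom.quotientKerEquivOfSurjective hsR).symm (AssocGr.map hR x))) = _
    rw [h1, Ideal.quotEquivOfEq_mk]
    rfl
  refine ⟨e, he, fun n x hx => ?_, fun n y hy => ?_⟩
  · obtain ⟨z, hz, rfl⟩ := exists_preimage_gr hR sR n x hx
    rw [he]
    exact map_mem_gr hA hz
  · obtain ⟨z, hz, rfl⟩ := exists_preimage_gr hA sA n y hy
    rw [← he, RingEquiv.symm_apply_apply]
    exact map_mem_gr hR hz

end Groth.Agent.H5.Pop.CdJ
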