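import Mathlib
import Groth.Agent.Lib.Helper1.ComplQuot

/-!
# Comparison of adic completions (helper5)

If `f : A → B` induces bijections `A/𝔞ⁿ → B/𝔫ⁿ` (`𝔫 = 𝔞B`), the completions agree.  Applied to the
localization at a maximal ideal.
-/

set_option autoImplicit false
universe u
open IsLocalRing

namespace Groth.Agent.H5.Pop

open Groth.Agent.H1.ComplQuot

section

variable {A B : Type u} [CommRing A] [CommRing B] (f : A →+* B) (𝔞 : Ideal A) (𝔫 : Ideal B)

theorem compMap_injective_of (h𝔫 : 𝔫 = 𝔞.map f)
    (hinj : ∀ (n : ℕ) (a : A), f a ∈ 𝔫 ^ n → a ∈ 𝔞 ^ n) :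
    Function.Injective (compMap f 𝔞 𝔫 h𝔫) := by
  rw [injective_iff_map_eq_zero]
  intro x hx
  apply AdicCompletion.ext_evalₐ
  intro n
  have h1 := evalₐ_compMap f 𝔞 𝔫 h𝔫 n x
  rw [hx, map_zero] at h1
  induction x using AdicCompletion.induction_on with
  | h s =>
    rw [level_mk] at h1
    rw [AdicCompletion.evalₐ_mk, map_zero, Ideal.Quotient.eq_zero_iff_mem]
    exact hinj n _ (Ideal.Quotient.eq_zero_iff_mem.mp h1.symm)

theorem compMap_surjective_of (h𝔫 : 𝔫 = 𝔞.map f)
    (hinj : ∀ (n : ℕ) (a : A), f a ∈ 𝔫 ^ n → a ∈ 𝔞 ^ n)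
    (hsurj : ∀ (n : ℕ) (b : B), ∃ a : A, b - f a ∈ 𝔫 ^ n) :
    Function.Surjective (compMap f 𝔞 𝔫 h𝔫) := by
  intro y
  induction y using AdicCompletion.induction_on with
  | h t =>
    choose a ha using fun n => hsurj n (t n)
    have hcauchy : ∀ {m n : ℕ}, m ≤ n → a m ≡ a n [SMOD (𝔞 ^ m • ⊤ : Submodule A A)] := by
      intro m n hmn
      rw [SModEq.sub_mem, smul_eq_mul, Ideal.mul_top]
      apply hinj
      rw [map_sub]
      have h1 : t m - f (a m) ∈ 𝔫 ^ m := ha m
      have h2 : t n - f (a n) ∈ 𝔫 ^ m := Ideal.pow_le_pow_right hmn (ha n)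
      have h3 : t m - t n ∈ 𝔫 ^ m := by
        have := t.2 hmn
        rw [SModEq.sub_mem, smul_eq_mul, Ideal.mul_top] at this
        exact this
      have : f (a m) - f (a n) = (t m - t n) - (t m - f (a m)) + (t n - f (a n)) := by ring
      rw [this]
      exact Ideal.add_mem _ (Ideal.sub_mem _ h3 h1) h2
    refine ⟨AdicCompletion.mk 𝔞 A ⟨a, hcauchy⟩, ?_⟩
    apply AdicCompletion.ext_evalₐ
    intro n
    rw [evalₐ_compMap, level_mk, AdicCompletion.evalₐ_mk, Ideal.Quotient.eq]
    have := ha n
    rw [← neg_sub] at this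
    exact (Ideal.neg_mem_iff _).mp this

end

section AtMaximal

variable {A : Type u} [CommRing A] (m : Ideal A) [m.IsMaximal]

theorem maximalIdeal_atPrime_eq :
    maximalIdeal (Localization.AtPrime m) = m.map (algebraMap A (Localization.AtPrime m)) :=
  (Localization.AtPrime.map_eq_maximalIdeal).symm

/-- The completion of a ring at a maximal ideal is the completion of the local ring. -/
noncomputable def cplAtMaximal :
    AdicCompletion m A →+* AdicCompletion (maximalIdeal (Localization.AtPrime m))
      (Localization.AtPrime m) :=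
  compMap (algebraMap A (Localization.AtPrime m)) m _ (maximalIdeal_atPrime_eq m)

theorem cplAtMaximal_of (a : A) :
    cplAtMaximal m (algebraMap A (AdicCompletion m A) a) =
      algebraMap (Localization.AtPrime m) _ (algebraMap A (Localization.AtPrime m) a) :=
  compMap_of _ _ _ _ a

theorem evalₐ_cplAtMaximal (n : ℕ) (x : AdicCompletion m A) :
    AdicCompletion.evalₐ (maximalIdeal (Localization.AtPrime m)) n (cplAtMaximal m x) =
      IsLocalization.AtPrime.equivQuotMaximalIdealPow m (Localization.AtPrime m) n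
        (AdicCompletion.evalₐ m n x) := by
  rw [cplAtMaximal, evalₐ_compMap]
  induction x using AdicCompletion.induction_on with
  | h s =>
    rw [level_mk, AdicCompletion.evalₐ_mk]
    rfl

theorem cplAtMaximal_bijective : Function.Bijective (cplAtMaximal m) := by
  have hinj : ∀ (n : ℕ) (a : A), algebraMap A (Localization.AtPrime m) a ∈
      maximalIdeal (Localization.AtPrime m) ^ n → a ∈ m ^ n := by
    intro n a ha
    have h1 : IsLocalization.AtPrime.equivQuotMaximalIdealPow m (Localization.AtPrime m) n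
        (Ideal.Quotient.mk _ a) = 0 := by
      rw [IsLocalization.AtPrime.equivQuotMaximalIdealPow_apply_mk]
      exact Ideal.Quotient.eq_zero_iff_mem.mpr ha
    have h2 := (IsLocalization.AtPrime.equivQuotMaximalIdealPow m
      (Localization.AtPrime m) n).injective (h1.trans (map_zero _).symm)
    exact Ideal.Quotient.eq_zero_iff_mem.mp h2
  have hsurj : ∀ (n : ℕ) (b : Localization.AtPrime m), ∃ a : A,
      b - algebraMap A (Localization.AtPrime m) a ∈ maximalIdeal (Localization.AtPrime m) ^ n := by
    intro n b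
    obtain ⟨a, ha⟩ := Ideal.Quotient.mk_surjective
      ((IsLocalization.AtPrime.equivQuotMaximalIdealPow m (Localization.AtPrime m) n).symm
        (Ideal.Quotient.mk _ b))
    refine ⟨a, ?_⟩
    rw [← Ideal.Quotient.eq, ← IsLocalization.AtPrime.equivQuotMaximalIdealPow_apply_mk m
      (Localization.AtPrime m) n a, ha, AlgEquiv.apply_symm_apply]
  exact ⟨compMap_injective_of _ _ _ _ hinj, compMap_surjective_of _ _ _ _ hinj hsurj⟩

end AtMaximal

end Groth.Agent.H5.Pop
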