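import Mathlib
import Groth.Prelude.Def_Smoothing
import Groth.Agent.Lib.Helper5.Sep.A

/-! From local resolutions to ind-smoothness (Noetherian induction on the singular radical). -/

set_option autoImplicit false
universe u

namespace Groth.Agent.H5.Pop

open Groth.Agent.H5.Sep MvPolynomial


/-- smoothness at a prime passes up along a formally smooth extension. -/
theorem isSmoothAt_of_formallySmooth {R B B' : Type u} [CommRing R] [CommRing B] [CommRing B']
    [Algebra R B] [Algebra B B'] [Algebra R B'] [IsScalarTower R B B'] [Algebra.FormallySmooth B B']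
    (Q : Ideal B') [Q.IsPrime] (h : Algebra.IsSmoothAt R (Q.comap (algebraMap B B'))) :
    Algebra.IsSmoothAt R Q := by
  letI alg : Algebra (Localization.AtPrime (Q.comap (algebraMap B B'))) (Localization.AtPrime Q) :=
    (Localization.localRingHom (Q.comap (algebraMap B B')) Q (algebraMap B B') rfl).toAlgebra
  haveI tw : IsScalarTower B (Localization.AtPrime (Q.comap (algebraMap B B')))
      (Localization.AtPrime Q) := by
    refine IsScalarTower.of_algebraMap_eq fun b => ?_
    show _ = Localization.localRingHom (Q.comap (algebraMap B B')) Q (algebraMap B B') rfl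
      (algebraMap B _ b)
    rw [Localization.localRingHom_to_map, ← IsScalarTower.algebraMap_apply]
  haveI : Algebra.FormallySmooth B (Localization.AtPrime Q) :=
    Algebra.FormallySmooth.comp B B' _
  haveI : Algebra.FormallySmooth (Localization.AtPrime (Q.comap (algebraMap B B')))
      (Localization.AtPrime Q) :=
    Algebra.FormallySmooth.localization_base (Q.comap (algebraMap B B')).primeCompl
  haveI tw2 : IsScalarTower R (Localization.AtPrime (Q.comap (algebraMap B B')))
      (Localization.AtPrime Q) := by
    refine IsScalarTower.of_algebraMap_eq fun r => ?_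
    rw [IsScalarTower.algebraMap_apply R B (Localization.AtPrime (Q.comap (algebraMap B B'))),
      ← IsScalarTower.algebraMap_apply B, ← IsScalarTower.algebraMap_apply R B]
  haveI : Algebra.FormallySmooth R (Localization.AtPrime (Q.comap (algebraMap B B'))) := h
  exact Algebra.FormallySmooth.comp R (Localization.AtPrime (Q.comap (algebraMap B B'))) _

/-- **Step A**: a finitely presented algebra whose singular ideal generates the unit ideal of `Λ`
maps to `Λ` through a smooth algebra. -/
theorem exists_smooth_of_map_singularIdeal_eq_top {R B Λ : Type u} [CommRing R] [CommRing B]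
    [Algebra R B] [Algebra.FinitePresentation R B] [CommRing Λ] [Algebra R Λ] (h : B →ₐ[R] Λ)
    (htop : (Smoothing.singularIdeal R B).map h = ⊤) :
    ∃ (B' : Type u) (_ : CommRing B') (_ : Algebra R B'), Algebra.Smooth R B' ∧
      ∃ (g : B →ₐ[R] B') (h' : B' →ₐ[R] Λ), h'.comp g = h := by
  classical
  have h1 : (1 : Λ) ∈ Ideal.span (h '' (Smoothing.singularIdeal R B : Set B)) := by
    have : (1 : Λ) ∈ (Smoothing.singularIdeal R B).map h := by rw [htop]; trivial
    exact this
  obtain ⟨m, lam, gg, hsum⟩ := Submodule.mem_span_set'.mp h1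
  have hb : ∀ i, ∃ b ∈ Smoothing.singularIdeal R B, h b = (gg i : Λ) := fun i => (gg i).2
  choose b hbmem hbeq using hb
  -- the algebra `B' = B[x]_{Σ x_i b_i}`
  obtain ⟨bb, hbb⟩ : ∃ bb : MvPolynomial (Fin m) B, bb = ∑ i, X i * C (b i) := ⟨_, rfl⟩
  letI algBΛ : Algebra B Λ := h.toRingHom.toAlgebra
  haveI : IsScalarTower R B Λ := IsScalarTower.of_algebraMap_eq fun r => (h.commutes r).symm
  let h₁ : MvPolynomial (Fin m) B →ₐ[R] Λ := (aeval lam : MvPolynomial (Fin m) B →ₐ[B] Λ).restrictScalars R
  have hh₁C : ∀ x : B, h₁ (C x) = h x := fun x => by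
    show aeval lam (C x) = h x
    rw [aeval_C]; rfl
  have hh₁bb : h₁ bb = 1 := by
    rw [hbb, map_sum, ← hsum]
    refine Finset.sum_congr rfl fun i _ => ?_
    rw [map_mul, hh₁C, hbeq]
    show aeval lam (X i) * _ = _
    rw [aeval_X, smul_eq_mul]
  have hunit : ∀ y : Submonoid.powers bb, IsUnit (h₁ y) := by
    rintro ⟨_, n, rfl⟩
    show IsUnit (h₁ (bb ^ n))
    rw [map_pow, hh₁bb, one_pow]
    exact isUnit_one
  haveI : Algebra.FinitePresentation R (MvPolynomial (Fin m) B) :=
    Algebra.FinitePresentation.trans R B _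
  haveI : Algebra.FinitePresentation R (Localization.Away bb) :=
    Algebra.FinitePresentation.trans R (MvPolynomial (Fin m) B) _
  haveI : Algebra.FormallySmooth B (Localization.Away bb) :=
    Algebra.FormallySmooth.comp B (MvPolynomial (Fin m) B) _
  obtain ⟨g, hg⟩ : ∃ g : B →ₐ[R] Localization.Away bb, ∀ x, g x =
      algebraMap (MvPolynomial (Fin m) B) (Localization.Away bb) (C x) :=
    ⟨(IsScalarTower.toAlgHom R (MvPolynomial (Fin m) B) (Localization.Away bb)).comp
      (IsScalarTower.toAlgHom R B (MvPolynomial (Fin m) B)), fun x => rfl⟩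
  obtain ⟨h', hh'⟩ : ∃ h' : Localization.Away bb →ₐ[R] Λ, ∀ y,
      h' (algebraMap (MvPolynomial (Fin m) B) (Localization.Away bb) y) = h₁ y :=
    ⟨IsLocalization.liftAlgHom (M := Submonoid.powers bb) (f := h₁) hunit, fun y => by
      rw [IsLocalization.liftAlgHom_apply, IsLocalization.lift_eq]
      rfl⟩
  refine ⟨Localization.Away bb, inferInstance, inferInstance, ⟨?_, inferInstance⟩, g, h', ?_⟩
  · -- smoothness
    rw [← Algebra.smoothLocus_eq_univ_iff, Set.eq_univ_iff_forall]
    intro Q
    haveI := Q.2
    show Algebra.IsSmoothAt R Q.asIdeal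
    refine isSmoothAt_of_formallySmooth (B := B) Q.asIdeal ?_
    -- some `b i` is not in the contraction
    have hex : ∃ i, b i ∉ Q.asIdeal.comap (algebraMap B (Localization.Away bb)) := by
      by_contra hcon
      push Not at hcon
      have hmem : algebraMap (MvPolynomial (Fin m) B) (Localization.Away bb) bb ∈ Q.asIdeal := by
        rw [congrArg (algebraMap (MvPolynomial (Fin m) B) (Localization.Away bb)) hbb, map_sum]
        refine Ideal.sum_mem _ fun i _ => ?_
        rw [map_mul]
        refine Ideal.mul_mem_left _ _ ?_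
        have := hcon i
        rw [Ideal.mem_comap, IsScalarTower.algebraMap_apply B (MvPolynomial (Fin m) B)] at this
        exact this
      have hu : IsUnit (algebraMap (MvPolynomial (Fin m) B) (Localization.Away bb) bb) :=
        IsLocalization.map_units _ (⟨bb, Submonoid.mem_powers bb⟩ : Submonoid.powers bb)
      exact Q.2.ne_top (Ideal.eq_top_of_isUnit_mem _ hmem hu)
    obtain ⟨i, hi⟩ := hex
    by_contra hns
    have h2 := hbmem i
    unfold Smoothing.singularIdeal at h2
    rw [PrimeSpectrum.mem_vanishingIdeal] at h2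
    exact hi (h2 ⟨Q.asIdeal.comap (algebraMap B (Localization.Away bb)), inferInstance⟩ hns)
  · ext x
    rw [AlgHom.comp_apply, hg, hh', hh₁C]

/-- **Step B**: if all local problems can be resolved, the algebra is ind-smooth. -/
theorem indSmooth_of_resolvable {R Λ : Type u} [CommRing R] [CommRing Λ] [IsNoetherianRing Λ]
    [Algebra R Λ]
    (hres : ∀ (A : Type u) [CommRing A] [Algebra R A] [Algebra.FinitePresentation R A]
      (φ : A →ₐ[R] Λ) (𝔮 : Ideal Λ) [𝔮.IsPrime],
      𝔮 ∈ (Smoothing.singRad R φ).minimalPrimes → Smoothing.Resolvable R φ 𝔮) :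
    Smoothing.IndSmooth R Λ := by
  have key : ∀ J : Ideal Λ, ∀ (A : Type u) [CommRing A] [Algebra R A]
      [Algebra.FinitePresentation R A] (φ : A →ₐ[R] Λ), Smoothing.singRad R φ = J →
      ∃ (B : Type u) (_ : CommRing B) (_ : Algebra R B), Algebra.Smooth R B ∧
        ∃ (g : A →ₐ[R] B) (h : B →ₐ[R] Λ), h.comp g = φ := by
    intro J
    induction J using IsNoetherian.induction with
    | hgt J ih =>
      intro A _ _ _ φ hφ
      by_cases hJ : J = ⊤
      · refine exists_smooth_of_map_singularIdeal_eq_top φ ?_
        rw [← Ideal.radical_eq_top]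
        rw [hJ] at hφ
        exact hφ
      · obtain ⟨𝔮, h𝔮⟩ := Ideal.nonempty_minimalPrimes hJ
        haveI := h𝔮.1.1
        obtain ⟨B, _, _, fpB, g, h, hgh, hle, hnot⟩ := hres A φ 𝔮 (hφ ▸ h𝔮)
        haveI := fpB
        have hlt : J < Smoothing.singRad R h := by
          refine lt_of_le_of_ne (hφ ▸ hle) ?_
          intro heq
          exact hnot (heq ▸ h𝔮.1.2)
        obtain ⟨B', _, _, smB', g', h', hgh'⟩ := ih _ hlt B h rfl
        refine ⟨B', inferInstance, inferInstance, smB', g'.comp g, h', ?_⟩
        rw [← AlgHom.comp_assoc, hgh', hgh]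
  intro A _ _ fpA φ
  haveI := fpA
  exact key _ A φ rfl

end Groth.Agent.H5.Pop
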