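import Mathlib
import Groth.Prelude.Def_Smoothing
import Groth.Agent.Lib.Helper5.Pop.P1
import Groth.Agent.Lib.Helper5.Ins.K2
import Groth.Agent.Lib.Helper5.CA.PerfGR

/-! Popescu's theorem over a field. -/

set_option autoImplicit false
universe u

namespace Groth.Agent.H5.Pop

open Groth.Agent.H5.Sep

/-- all local problems over a field with geometrically regular target can be resolved. -/
theorem resolvable_of_isGeometricallyRegular {k A Λ : Type u} [Field k] [CommRing A] [Algebra k A]
    [Algebra.FinitePresentation k A] [CommRing Λ] [Algebra k Λ] [IsNoetherianRing Λ]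
    (hreg : CAlg.IsGeometricallyRegular k Λ) (φ : A →ₐ[k] Λ) (𝔮 : Ideal Λ) [𝔮.IsPrime]
    (hmin : 𝔮 ∈ (Smoothing.singRad k φ).minimalPrimes) : Smoothing.Resolvable k φ 𝔮 := by
  obtain ⟨p, hp⟩ := CharP.exists k
  rcases CharP.char_is_prime_or_zero k p with hpp | hp0
  · haveI : Fact p.Prime := ⟨hpp⟩
    exact Groth.Agent.H5.Ins.main6824 p hreg φ 𝔮 hmin
  · subst hp0
    haveI : CharZero k := CharP.charP_to_charZero k
    haveI : IsRegularRing Λ :=
      Groth.Agent.H3.GRingFF.isRegularRing_of_isGeometricallyRegular k Λ hreg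
    haveI : Algebra.IsGeometricallyReduced k 𝔮.ResidueField :=
      Groth.Agent.H5.isGeometricallyReduced_of_perfectField k 𝔮.ResidueField
    exact main6823 φ 𝔮 hmin

/-- **Popescu's theorem over a field.** -/
theorem indSmooth_of_isGeometricallyRegular {k Λ : Type u} [Field k] [CommRing Λ] [Algebra k Λ]
    [IsNoetherianRing Λ] (hreg : CAlg.IsGeometricallyRegular k Λ) : Smoothing.IndSmooth k Λ :=
  indSmooth_of_resolvable fun A _ _ _ φ 𝔮 _ hmin =>
    resolvable_of_isGeometricallyRegular hreg φ 𝔮 hmin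

end Groth.Agent.H5.Pop
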