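import Mathlib
import Groth.Prelude.Def_Smoothing
import Groth.Prelude.Def_Found
import Groth.Agent.Lib.Helper5.Pop.P2
import Groth.Agent.Lib.Helper5.Des.Y1
import Groth.Agent.Lib.Helper5.Des.Z4
import Groth.Agent.Lib.Helper3.CA.RegHomLoc
import Groth.Agent.Lib.Helper8.StdEl.E
import Groth.Agent.Lib.Helper8.SmLift.IndSmoothNil
import Groth.Agent.S2029

/-! The reduction of Popescu's theorem to the case of a base field. -/

set_option autoImplicit false
universe u

namespace Groth.Agent.H5.Pop

open Groth.Agent.H5.Sep TensorProduct IsLocalRing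

/-- regular homomorphisms pass to quotients of the base. -/
theorem isRegularHom_quotient {R Λ : Type u} [CommRing R] [CommRing Λ] [IsNoetherianRing Λ]
    [Algebra R Λ] (hreg : CAlg.IsRegularHom R Λ) (I : Ideal R) :
    CAlg.IsRegularHom (R ⧸ I) (Λ ⧸ I.map (algebraMap R Λ)) := by
  haveI : IsNoetherianRing ((R ⧸ I) ⊗[R] Λ) :=
    isNoetherianRing_of_ringEquiv (Λ ⧸ I.map (algebraMap R Λ))
      (Algebra.TensorProduct.quotIdealMapEquivQuotTensor Λ I).toRingEquiv
  exact Groth.Agent.H3.RegHomBC.isRegularHom_of_algEquiv (R ⧸ I) ((R ⧸ I) ⊗[R] Λ) _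
    (Algebra.TensorProduct.quotIdealMapEquivQuotTensor Λ I).symm
    (Groth.Agent.H3.RegHomBC.isRegularHom_baseChange_of_isNoetherianRing R Λ (R ⧸ I) hreg)

/-- annihilators in a flat module. -/
theorem smul_eq_zero_of_flat {R M : Type*} [CommRing R] [AddCommGroup M] [Module R M]
    [Module.Flat R M] (π : R) (hR : ∀ r : R, π ^ 2 * r = 0 → π * r = 0) (x : M)
    (hx : π ^ 2 • x = 0) : π • x = 0 := by
  obtain ⟨k, a, y, hxy, ha⟩ := Module.Flat.isTrivialRelation_of_sum_smul_eq_zero (ι := Unit)
    (f := fun _ => π ^ 2) (x := fun _ => x) (by simpa using hx)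
  have hx' : x = ∑ j, a () j • y j := hxy ()
  rw [hx', Finset.smul_sum]
  refine Finset.sum_eq_zero fun j _ => ?_
  have h1 : π ^ 2 * a () j = 0 := by simpa using ha j
  rw [smul_smul, hR _ h1, zero_smul]

/-- the residue field at a minimal prime of a reduced ring is a localization. -/
theorem isLocalization_residueField_of_minimal {R : Type u} [CommRing R] [IsReduced R]
    (𝔭 : Ideal R) [𝔭.IsPrime] (h𝔭 : 𝔭 ∈ minimalPrimes R) :
    IsLocalization 𝔭.primeCompl 𝔭.ResidueField := by
  have hbot : maximalIdeal (Localization.AtPrime 𝔭) = ⊥ := by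
    have h1 := IsLocalization.AtPrime.radical_map_of_mem_minimalPrimes
      (A := Localization.AtPrime 𝔭) 𝔭 ⊥ h𝔭
    rw [Ideal.map_bot, Localization.AtPrime.map_eq_maximalIdeal] at h1
    rw [← h1]
    exact nilradical_eq_bot_iff.mpr inferInstance
  have hinj : Function.Injective (IsLocalRing.residue (Localization.AtPrime 𝔭)) := by
    rw [injective_iff_map_eq_zero]
    intro x hx
    have : x ∈ maximalIdeal (Localization.AtPrime 𝔭) := (IsLocalRing.residue_eq_zero_iff x).mp hx
    rw [hbot] at this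
    exact this
  have hbij : Function.Bijective (IsScalarTower.toAlgHom R (Localization.AtPrime 𝔭)
      𝔭.ResidueField) := ⟨hinj, IsLocalRing.residue_surjective⟩
  exact IsLocalization.isLocalization_of_algEquiv 𝔭.primeCompl (AlgEquiv.ofBijective _ hbij)

/-- a marked presentation gives a finite presentation. -/
theorem finitePresentation_of_markedPresentation {R B : Type u} [CommRing R] [CommRing B]
    [Algebra R B] (P : Smoothing.MarkedPresentation R B) : Algebra.FinitePresentation R B := by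
  refine Algebra.FinitePresentation.of_surjective P.surj ?_
  rw [P.ker_eq]
  exact Submodule.fg_span (Set.finite_range _)

set_option maxHeartbeats 2000000 in
/-- **The key step** of the reduction to a base field. -/
theorem keyStep {R Λ : Type u} [CommRing R] [IsNoetherianRing R] [CommRing Λ] [IsNoetherianRing Λ]
    [Algebra R Λ] (hreg : CAlg.IsRegularHom R Λ)
    (IH : ∀ J : Ideal R, J ≠ ⊥ → Smoothing.IndSmooth (R ⧸ J) (Λ ⧸ J.map (algebraMap R Λ))) :
    Smoothing.IndSmooth R Λ := by
  classical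
  haveI : Module.Flat R Λ := hreg.1
  by_cases hsub : Subsingleton R
  · -- the zero ring
    intro A _ _ fpA φ
    haveI : Subsingleton A := (algebraMap R A).codomain_trivial
    haveI : Subsingleton Λ := (algebraMap R Λ).codomain_trivial
    refine ⟨R, inferInstance, inferInstance, inferInstance,
      { toFun := fun _ => 0, map_one' := Subsingleton.elim _ _, map_mul' := fun _ _ => by simp,
        map_zero' := rfl, map_add' := fun _ _ => by simp,
        commutes' := fun _ => Subsingleton.elim _ _ }, Algebra.ofId R Λ, ?_⟩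
    ext a
    exact Subsingleton.elim _ _
  by_cases hred : IsReduced R
  swap
  · have hN : nilradical R ≠ ⊥ := fun h => hred (nilradical_eq_bot_iff.mp h)
    exact Groth.Agent.H8.SmLift.indSmooth_of_nilpotent (nilradical R)
      (IsNoetherianRing.isNilpotent_nilradical R) (IH _ hN)
  haveI := hred
  haveI : Nontrivial R := not_subsingleton_iff_nontrivial.mp hsub
  obtain ⟨𝔭, h𝔭⟩ := Ideal.nonempty_minimalPrimes (R := R) (I := ⊥) bot_ne_top
  haveI := h𝔭.1.1
  haveI := isLocalization_residueField_of_minimal 𝔭 h𝔭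
  intro A _ _ fpA φ
  haveI := fpA
  -- the field case on the fibre
  obtain ⟨hNf, hGf⟩ := hreg.2 𝔭
  haveI := hNf
  have hindF : Smoothing.IndSmooth 𝔭.ResidueField (𝔭.Fiber Λ) :=
    indSmooth_of_isGeometricallyRegular hGf
  obtain ⟨B', _, _, smB', g, h, hgh⟩ := hindF (𝔭.ResidueField ⊗[R] A) inferInstance
    (Algebra.TensorProduct.map (AlgHom.id 𝔭.ResidueField 𝔭.ResidueField) φ)
  haveI := smB'
  obtain ⟨B, _, _, α, β, hβα, π, hπ, hstdE⟩ := Groth.Agent.S2029.result φ 𝔭.primeCompl g h hgh
  have hstd : Smoothing.IsStrictlyStandard R B (algebraMap R B π) :=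
    Groth.Agent.H8.StdEl.isElementaryStandard.isStrictlyStandard hstdE
  haveI fpB : Algebra.FinitePresentation R B := by
    obtain ⟨P, -, -⟩ := hstdE
    exact finitePresentation_of_markedPresentation P
  -- the element `π`
  have hπ0 : π ≠ 0 := fun h0 => hπ (h0 ▸ 𝔭.zero_mem)
  have hπ8 : Ideal.span {π ^ 8} ≠ (⊥ : Ideal R) := by
    intro h0
    rw [Ideal.span_singleton_eq_bot] at h0
    exact hπ0 (IsReduced.eq_zero π ⟨8, h0⟩)
  have hR : ∀ r : R, π ^ 2 * r = 0 → π * r = 0 := by
    intro r hr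
    refine IsReduced.eq_zero _ ⟨2, ?_⟩
    rw [show (π * r) ^ 2 = π ^ 2 * r * r by ring, hr, zero_mul]
  have hΛ : ∀ x : Λ, π ^ 2 • x = 0 → π • x = 0 := fun x hx => smul_eq_zero_of_flat π hR x hx
  -- resolve modulo `π ^ 8`
  have hind8 := IH _ hπ8
  obtain ⟨C, _, _, smC, g₀, h₀, hgh₀⟩ := hind8
    (B ⧸ (Ideal.span {π ^ 8}).map (algebraMap R B)) inferInstance
    (Groth.Agent.H5.Des.phiK (Ideal.span {π ^ 8}) β)
  haveI := smC
  letI algRC : Algebra R C := ((algebraMap (R ⧸ Ideal.span {π ^ 8}) C).comp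
    (Ideal.Quotient.mk _)).toAlgebra
  haveI twC : IsScalarTower R (R ⧸ Ideal.span {π ^ 8}) C := IsScalarTower.of_algebraMap_eq fun _ => rfl
  have e8 : (Ideal.span {π ^ 8}).map (algebraMap R Λ) = Ideal.span {algebraMap R Λ (π ^ 8)} := by
    rw [Ideal.map_span, Set.image_singleton]
  let γ : B →ₐ[R] C :=
    { toRingHom := g₀.toRingHom.comp
        (Ideal.Quotient.mk ((Ideal.span {π ^ 8}).map (algebraMap R B)))
      commutes' := fun r => by
        show g₀ (Ideal.Quotient.mk _ (algebraMap R B r)) = algebraMap _ C (Ideal.Quotient.mk _ r)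
        rw [← g₀.commutes]
        rfl }
  let gC : C →ₐ[R] Λ ⧸ Ideal.span {algebraMap R Λ (π ^ 8)} :=
    { toRingHom := (Ideal.quotientEquivAlgOfEq R e8).toAlgHom.toRingHom.comp h₀.toRingHom
      commutes' := fun r => by
        show Ideal.quotientEquivAlgOfEq R e8 (h₀ (algebraMap _ C (Ideal.Quotient.mk _ r))) = _
        rw [h₀.commutes]
        rfl }
  have hfac : ∀ b : B, gC (γ b) = Ideal.Quotient.mk (Ideal.span {algebraMap R Λ (π ^ 8)}) (β b) := by
    intro b
    show Ideal.quotientEquivAlgOfEq R e8 (h₀ (g₀ (Ideal.Quotient.mk _ b))) = _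
    have := DFunLike.congr_fun hgh₀ (Ideal.Quotient.mk _ b)
    rw [AlgHom.comp_apply] at this
    rw [this, Groth.Agent.H5.Des.phiK_mk, Ideal.quotientEquivAlgOfEq_mk]
  obtain ⟨B₂, _, _, fpB₂, α₂, β₂, hβα₂, hsm₂, hsing₂⟩ :=
    Groth.Agent.H5.Des.main19959 π hR hΛ β hstd γ gC hfac
  haveI := fpB₂
  -- the singular ideal of `B₂` generates the unit ideal of `Λ`
  have htop : (Smoothing.singularIdeal R B₂).map β₂ = ⊤ := by
    rw [← Ideal.radical_eq_top]
    have h1 : algebraMap R Λ π ∈ ((Smoothing.singularIdeal R B₂).map β₂).radical := by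
      refine Ideal.le_radical ?_
      rw [← β₂.commutes]
      refine Ideal.mem_map_of_mem _ ?_
      unfold Smoothing.singularIdeal
      rw [PrimeSpectrum.mem_vanishingIdeal]
      intro Q hQ
      by_contra hcon
      haveI := Q.2
      exact hQ (hsm₂ Q.asIdeal hcon)
    have h2 : (⊤ : Ideal (Λ ⧸ Ideal.span {algebraMap R Λ (π ^ 8)})) ≤
        ((Smoothing.singularIdeal R B₂).map β₂).radical.map
          (Ideal.Quotient.mk (Ideal.span {algebraMap R Λ (π ^ 8)})) := by
      refine le_trans ?_ hsing₂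
      rw [singularIdeal_eq_top, Ideal.map_top]
    have h3 := Ideal.comap_mono (f := Ideal.Quotient.mk (Ideal.span {algebraMap R Λ (π ^ 8)})) h2
    rw [Ideal.comap_top, Ideal.comap_map_of_surjective _ Ideal.Quotient.mk_surjective,
      ← RingHom.ker_eq_comap_bot, Ideal.mk_ker] at h3
    have h4 : Ideal.span {algebraMap R Λ (π ^ 8)} ≤
        ((Smoothing.singularIdeal R B₂).map β₂).radical := by
      rw [Ideal.span_le, Set.singleton_subset_iff, map_pow]
      exact Ideal.pow_mem_of_mem _ h1 8 (by norm_num)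
    rw [sup_eq_left.mpr h4] at h3
    exact top_le_iff.mp h3
  obtain ⟨B₃, _, _, smB₃, g₃, h₃, hgh₃⟩ := exists_smooth_of_map_singularIdeal_eq_top β₂ htop
  refine ⟨B₃, inferInstance, inferInstance, smB₃, g₃.comp (α₂.comp α), h₃, ?_⟩
  rw [← AlgHom.comp_assoc, hgh₃, ← AlgHom.comp_assoc, hβα₂, hβα]

end Groth.Agent.H5.Pop
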