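import Mathlib
import Groth.Prelude.Def_Smoothing
import Groth.Prelude.Def_Found
import Groth.Agent.Lib.Helper5.Pop.P3

/-! Popescu's theorem. -/

set_option autoImplicit false
universe u

namespace Groth.Agent.H5.Pop

open Groth.Agent.H5.Sep TensorProduct

/-- **Popescu's theorem**: a regular homomorphism of Noetherian rings is ind-smooth. -/
theorem popescu {R Λ : Type u} [CommRing R] [IsNoetherianRing R] [CommRing Λ] [IsNoetherianRing Λ]
    [Algebra R Λ] (hreg : CAlg.IsRegularHom R Λ) : Smoothing.IndSmooth R Λ := by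
  have key : ∀ K : Ideal R, Smoothing.IndSmooth (R ⧸ K) (Λ ⧸ K.map (algebraMap R Λ)) := by
    intro K
    induction K using IsNoetherian.induction with
    | hgt K ih =>
      refine keyStep (isRegularHom_quotient hreg K) ?_
      intro J hJ
      obtain ⟨I, hI⟩ : ∃ I : Ideal R, I = J.comap (Ideal.Quotient.mk K) := ⟨_, rfl⟩
      have hJI : J = I.map (Ideal.Quotient.mk K) := by
        rw [hI, Ideal.map_comap_of_surjective _ Ideal.Quotient.mk_surjective]
      have hKI : K ≤ I := by
        intro x hx
        rw [hI, Ideal.mem_comap, Ideal.Quotient.eq_zero_iff_mem.mpr hx]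
        exact J.zero_mem
      have hlt : K < I := by
        refine lt_of_le_of_ne hKI ?_
        intro heq
        apply hJ
        rw [hJI, ← heq, Ideal.map_quotient_self]
      clear hI
      subst hJI
      exact Groth.Agent.H8.SmLift.indSmooth_doubleQuot K I hKI (ih I hlt)
  refine Groth.Agent.H8.SmLift.indSmooth_of_ringEquiv' (R := R ⧸ (⊥ : Ideal R))
    (Λ := Λ ⧸ (⊥ : Ideal R).map (algebraMap R Λ))
    (RingEquiv.quotientBot R).symm
    ((Ideal.quotEquivOfEq (Ideal.map_bot)).trans (RingEquiv.quotientBot Λ)).symm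
    (fun r => ?_) (key ⊥)
  rfl

end Groth.Agent.H5.Pop
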