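import Mathlib
import Groth.Prelude.Def_Smoothing
import Groth.Prelude.Def_Found
import Groth.Agent.Lib.Helper5.Pop.P4
import Groth.Agent.Lib.Helper8.HensPair.SmoothLift
import Groth.Agent.Lib.Helper8.Japanese.ComplRed9
import Groth.Agent.Lib.Helper8.Hens.Noeth
import Groth.Agent.Lib.Helper1.Henselian

/-! Artin approximation for henselian pairs with regular completion map. -/

set_option autoImplicit false
universe u

namespace Groth.Agent.H5.Pop

open MvPolynomial

/-- **Artin approximation**, in the form of algebra maps. -/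
theorem artin_approx {A : Type u} [CommRing A] [IsNoetherianRing A] (I : Ideal A)
    [HenselianRing A I] (hreg : CAlg.IsRegularHom A (AdicCompletion I A)) {C : Type u}
    [CommRing C] [Algebra A C] [Algebra.FinitePresentation A C]
    (f : C →ₐ[A] AdicCompletion I A) (N : ℕ) :
    ∃ τ : C →ₐ[A] A, ∀ c, f c - algebraMap A (AdicCompletion I A) (τ c) ∈
      (I ^ N).map (algebraMap A (AdicCompletion I A)) := by
  have hfg : I.FG := IsNoetherian.noetherian I
  haveI : IsNoetherianRing (AdicCompletion I A) :=
    Groth.Agent.H8.Hens.isNoetherianRing_adicCompletion_of_fg A I hfg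
  obtain ⟨B, _, _, smB, g, h, hgh⟩ := popescu hreg C inferInstance f
  haveI := smB
  haveI : HenselianRing A (I ^ (N + 1)) :=
    Groth.Agent.H1.HenselianRing.of_le (Ideal.pow_le_self (Nat.succ_ne_zero N))
  obtain ⟨τ₀, hτ₀⟩ := Groth.Agent.H8.SmoothLift.exists_lift_of_smooth' A B A (I ^ (N + 1))
    ((AdicCompletion.evalₐ I (N + 1)).comp h)
  refine ⟨τ₀.comp g, fun c => ?_⟩
  have h0 : AdicCompletion.evalₐ I (N + 1)
      (f c - algebraMap A (AdicCompletion I A) ((τ₀.comp g) c)) = 0 := by
    rw [map_sub, AlgHom.commutes, sub_eq_zero, ← hgh]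
    have := DFunLike.congr_fun hτ₀ (g c)
    simp only [AlgHom.comp_apply] at this ⊢
    rw [← this]
    rfl
  have h1 := Groth.Agent.H8.Jap.ComplRed.mem_map_pow_of_evalₐ_eq_zero I hfg (N + 1) _ h0
  exact Ideal.map_mono (Ideal.pow_le_pow_right (Nat.le_succ N)) h1

/-- **Artin approximation** for systems of polynomial equations. -/
theorem artin_approx_system {A : Type u} [CommRing A] [IsNoetherianRing A] (I : Ideal A)
    [HenselianRing A I] (hreg : CAlg.IsRegularHom A (AdicCompletion I A)) (n m : ℕ)
    (F : Fin m → MvPolynomial (Fin n) A) (a : Fin n → AdicCompletion I A)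
    (ha : ∀ j, MvPolynomial.eval a
      (MvPolynomial.map (algebraMap A (AdicCompletion I A)) (F j)) = 0) (N : ℕ) :
    ∃ b : Fin n → A, (∀ j, MvPolynomial.eval b (F j) = 0) ∧
      ∀ i, a i - algebraMap A (AdicCompletion I A) (b i) ∈
        (I ^ N).map (algebraMap A (AdicCompletion I A)) := by
  have hker : ∀ p ∈ Ideal.span (Set.range F), (aeval a : MvPolynomial (Fin n) A →ₐ[A] _) p = 0 := by
    intro p hp
    have hle : Ideal.span (Set.range F) ≤
        RingHom.ker (aeval a : MvPolynomial (Fin n) A →ₐ[A] AdicCompletion I A).toRingHom := by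
      rw [Ideal.span_le]
      rintro _ ⟨j, rfl⟩
      show aeval a (F j) = 0
      rw [aeval_def, ← eval_map]
      exact ha j
    exact hle hp
  haveI : Algebra.FinitePresentation A (MvPolynomial (Fin n) A ⧸ Ideal.span (Set.range F)) :=
    Algebra.FinitePresentation.quotient (Submodule.fg_span (Set.finite_range F))
  obtain ⟨τ, hτ⟩ := artin_approx I hreg
    (Ideal.Quotient.liftₐ (Ideal.span (Set.range F)) (aeval a) hker) N
  refine ⟨fun i => τ (Ideal.Quotient.mk _ (X i)), fun j => ?_, fun i => ?_⟩
  · have h1 : ∀ p : MvPolynomial (Fin n) A,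
        MvPolynomial.eval (fun i => τ (Ideal.Quotient.mk _ (X i))) p = τ (Ideal.Quotient.mk _ p) := by
      intro p
      have : (aeval (fun i => τ (Ideal.Quotient.mk (Ideal.span (Set.range F)) (X i))) :
          MvPolynomial (Fin n) A →ₐ[A] A) = τ.comp (Ideal.Quotient.mkₐ A _) := by
        apply MvPolynomial.algHom_ext
        intro i
        rw [aeval_X]
        rfl
      have h2 := DFunLike.congr_fun this p
      rw [← MvPolynomial.coe_aeval_eq_eval]
      exact h2
    have h3 : Ideal.Quotient.mk (Ideal.span (Set.range F)) (F j) = 0 :=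
      Ideal.Quotient.eq_zero_iff_mem.mpr (Ideal.subset_span ⟨j, rfl⟩)
    rw [h1, h3, map_zero]
  · have := hτ (Ideal.Quotient.mk _ (X i))
    rw [Ideal.Quotient.liftₐ_apply, Ideal.Quotient.lift_mk] at this
    simpa using this

end Groth.Agent.H5.Pop
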