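import Mathlib
import Groth.Prelude.Def_Found
import Groth.Prelude.Def_Hensel
import Groth.Agent.Lib.Helper5.Pop.Approx
import Groth.Agent.H4.IndEtCrit
import Groth.Agent.Lib.Helper8.Japanese.HensNag6
import Groth.Agent.Lib.Helper3.CA.HensRegFF3
import Groth.Agent.Lib.Helper8.Hens.Noeth
import Groth.Agent.Lib.Helper8.Hens.Henselization

/-!
# Artin approximation in étale neighbourhoods (helper5)
-/

set_option autoImplicit false
universe u
open IsLocalRing

namespace Groth.Agent.H5.Pop

open Groth.Agent.H4.IndEtCrit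

/-- A map from a finitely presented algebra to an ind-étale algebra factors through an étale
algebra. -/
theorem crit_factor {A B : Type u} [CommRing A] [CommRing B] [Algebra A B] (h : Crit A B)
    (C : Type u) [CommRing C] [Algebra A C] [Algebra.FinitePresentation A C] (g : C →ₐ[A] B) :
    ∃ (C' : Type u) (_ : CommRing C') (_ : Algebra A C') (_ : Algebra.Etale A C')
      (h : C →ₐ[A] C') (g' : C' →ₐ[A] B), g'.comp h = g := by
  obtain ⟨J, _, _, D, c, hc, het, ⟨e⟩⟩ := isIndEtale_of_crit h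
  obtain ⟨j, gj, hgj⟩ := factor_fp D c hc e C g
  exact ⟨(D.obj j).right, inferInstance, stageAlg D j, het j, gj, γₐ D c e j, hgj⟩

open MvPolynomial in
/-- **Artin approximation in étale neighbourhoods**, general form. -/
theorem approx_etale {A : Type u} [CommRing A] (Rl : Type u) [CommRing Rl] [IsLocalRing Rl]
    [IsNoetherianRing Rl] [Algebra A Rl]
    (hreg : CAlg.IsRegularHom Rl (AdicCompletion (maximalIdeal Rl) Rl))
    (Rh : Type u) [CommRing Rh] [IsLocalRing Rh] [Algebra Rl Rh] [IsLocalHom (algebraMap Rl Rh)]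
    [hS : Hensel.IsHenselization Rl Rh] [Algebra A Rh] [IsScalarTower A Rl Rh] (hcrit : Crit A Rh)
    {n m : ℕ} (F : Fin m → MvPolynomial (Fin n) A)
    (a : Fin n → AdicCompletion (maximalIdeal Rl) Rl)
    (ha : ∀ j, MvPolynomial.eval₂ ((algebraMap Rl (AdicCompletion (maximalIdeal Rl) Rl)).comp
      (algebraMap A Rl)) a (F j) = 0) (N : ℕ) :
    ∃ (R' : Type u) (_ : CommRing R') (_ : Algebra A R') (_ : Algebra.Etale A R')
      (γ : R' →ₐ[A] Rh) (ψ : R' →+* AdicCompletion (maximalIdeal Rl) Rl) (b : Fin n → R'),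
      (∀ r : A, ψ (algebraMap A R' r) =
        algebraMap Rl (AdicCompletion (maximalIdeal Rl) Rl) (algebraMap A Rl r)) ∧
      (∀ x, γ x ∈ maximalIdeal Rh → ψ x ∈ (maximalIdeal Rl).map
        (algebraMap Rl (AdicCompletion (maximalIdeal Rl) Rl))) ∧
      (∀ j, MvPolynomial.aeval b (F j) = 0) ∧
      ∀ i, a i - ψ (b i) ∈ (maximalIdeal Rl ^ N).map
        (algebraMap Rl (AdicCompletion (maximalIdeal Rl) Rl)) := by
  haveI : HenselianLocalRing Rh := hS.henselian
  haveI : IsNoetherianRing Rh :=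
    (Groth.Agent.H8.Hens.isNoetherianRing_iff_of_isHenselization (R := Rl) Rh).mp inferInstance
  have hregh := Groth.Agent.H3.HensRegFF.regular_hens_of_regular Rl Rh hreg
  obtain ⟨ψh, hbij, hcomm⟩ := Groth.Agent.H8.Jap.HensNag.exists_cpl_bijective Rl Rh
  obtain ⟨ε, hε⟩ : ∃ ε : AdicCompletion (maximalIdeal Rl) Rl ≃+* AdicCompletion (maximalIdeal Rh) Rh,
      ∀ x, ε x = ψh x := ⟨RingEquiv.ofBijective ψh hbij, fun _ => rfl⟩
  have hcomm' : ∀ r : Rl, ε (algebraMap Rl _ r) =
      algebraMap Rh (AdicCompletion (maximalIdeal Rh) Rh) (algebraMap Rl Rh r) := fun r => by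
    rw [hε]; exact hcomm r
  have hmh : (maximalIdeal Rl).map (algebraMap Rl Rh) = maximalIdeal Rh :=
    Groth.Agent.H8.Hens.map_maximalIdeal_of_isHenselization (R := Rl) Rh
  have hI : ∀ (k : ℕ) (z : AdicCompletion (maximalIdeal Rh) Rh),
      z ∈ (maximalIdeal Rh ^ k).map (algebraMap Rh (AdicCompletion (maximalIdeal Rh) Rh)) →
      ε.symm z ∈ (maximalIdeal Rl ^ k).map
        (algebraMap Rl (AdicCompletion (maximalIdeal Rl) Rl)) := by
    intro k z hz
    have hpow : maximalIdeal Rh ^ k = (maximalIdeal Rl ^ k).map (algebraMap Rl Rh) := by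
      rw [Ideal.map_pow, hmh]
    rw [hpow, Ideal.map_map] at hz
    have h1 : (algebraMap Rh (AdicCompletion (maximalIdeal Rh) Rh)).comp (algebraMap Rl Rh) =
        ε.toRingHom.comp (algebraMap Rl (AdicCompletion (maximalIdeal Rl) Rl)) :=
      RingHom.ext fun r => (hcomm' r).symm
    rw [h1, ← Ideal.map_map] at hz
    have h2 := Ideal.mem_map_of_mem ε.symm.toRingHom hz
    rw [Ideal.map_map] at h2
    have h3 : (ε.symm.toRingHom.comp ε.toRingHom) =
        RingHom.id _ := RingHom.ext fun x => ε.symm_apply_apply x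
    rw [h3, Ideal.map_id] at h2
    exact h2
  -- the system over the henselization
  obtain ⟨Fh, hFh⟩ : ∃ Fh : Fin m → MvPolynomial (Fin n) Rh,
      ∀ j, Fh j = MvPolynomial.map (algebraMap A Rh) (F j) := ⟨_, fun _ => rfl⟩
  obtain ⟨ah, hah⟩ : ∃ ah : Fin n → AdicCompletion (maximalIdeal Rh) Rh, ∀ i, ah i = ε (a i) :=
    ⟨_, fun _ => rfl⟩
  have hsol : ∀ j, MvPolynomial.eval ah (MvPolynomial.map
      (algebraMap Rh (AdicCompletion (maximalIdeal Rh) Rh)) (Fh j)) = 0 := by
    intro j
    rw [hFh, MvPolynomial.map_map, MvPolynomial.eval_map]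
    have h1 := congrArg ε.toRingHom (ha j)
    rw [MvPolynomial.eval₂_comp_left, map_zero] at h1
    have h2 : (ε.toRingHom.comp
        ((algebraMap Rl (AdicCompletion (maximalIdeal Rl) Rl)).comp (algebraMap A Rl))) =
        (algebraMap Rh (AdicCompletion (maximalIdeal Rh) Rh)).comp (algebraMap A Rh) := by
      refine RingHom.ext fun r => ?_
      show ε (algebraMap Rl _ (algebraMap A Rl r)) = algebraMap Rh _ (algebraMap A Rh r)
      rw [hcomm', ← IsScalarTower.algebraMap_apply A Rl Rh]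
    have h3 : (ε.toRingHom ∘ a) = ah := by
      funext i
      exact (hah i).symm
    rw [h2, h3] at h1
    exact h1
  obtain ⟨bh, hbh, hab⟩ := artin_approx_system (maximalIdeal Rh) hregh n m Fh ah hsol N
  -- descend to an étale algebra
  have hker : ∀ p ∈ Ideal.span (Set.range F), (aeval bh : MvPolynomial (Fin n) A →ₐ[A] Rh) p = 0 := by
    intro p hp
    have hle : Ideal.span (Set.range F) ≤
        RingHom.ker (aeval bh : MvPolynomial (Fin n) A →ₐ[A] Rh).toRingHom := by
      rw [Ideal.span_le]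
      rintro _ ⟨j, rfl⟩
      show aeval bh (F j) = 0
      rw [aeval_def, ← eval_map, ← hFh]
      exact hbh j
    exact hle hp
  haveI : Algebra.FinitePresentation A (MvPolynomial (Fin n) A ⧸ Ideal.span (Set.range F)) :=
    Algebra.FinitePresentation.quotient (Submodule.fg_span (Set.finite_range F))
  obtain ⟨R', _, _, hEt, h, γ, hγ⟩ := crit_factor hcrit _
    (Ideal.Quotient.liftₐ (Ideal.span (Set.range F)) (aeval bh) hker)
  have hγb : ∀ i, γ (h (Ideal.Quotient.mk _ (X i))) = bh i := by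
    intro i
    have := DFunLike.congr_fun hγ (Ideal.Quotient.mk _ (X i))
    rw [AlgHom.comp_apply] at this
    rw [this]
    show (Ideal.Quotient.liftₐ (Ideal.span (Set.range F)) (aeval bh) hker)
      (Ideal.Quotient.mkₐ A _ (X i)) = _
    rw [Ideal.Quotient.liftₐ_apply, Ideal.Quotient.mkₐ_eq_mk, Ideal.Quotient.lift_mk]
    exact aeval_X _ _
  refine ⟨R', inferInstance, inferInstance, hEt, γ,
    ε.symm.toRingHom.comp ((algebraMap Rh (AdicCompletion (maximalIdeal Rh) Rh)).comp
      γ.toRingHom), fun i => h (Ideal.Quotient.mk _ (X i)), ?_, ?_, ?_, ?_⟩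
  · intro r
    show ε.symm (algebraMap Rh _ (γ (algebraMap A R' r))) = _
    rw [γ.commutes, IsScalarTower.algebraMap_apply A Rl Rh, ← hcomm', RingEquiv.symm_apply_apply]
  · intro x hx
    have := hI 1 (algebraMap Rh _ (γ x)) (Ideal.mem_map_of_mem _ (by rwa [pow_one]))
    rwa [pow_one] at this
  · intro j
    have h1 : (aeval (fun i => h (Ideal.Quotient.mk (Ideal.span (Set.range F)) (X i))) :
        MvPolynomial (Fin n) A →ₐ[A] R') = h.comp (Ideal.Quotient.mkₐ A _) := by
      apply MvPolynomial.algHom_ext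
      intro i
      rw [aeval_X]
      rfl
    rw [h1, AlgHom.comp_apply, Ideal.Quotient.mkₐ_eq_mk,
      Ideal.Quotient.eq_zero_iff_mem.mpr (Ideal.subset_span (Set.mem_range_self j)), map_zero]
  · intro i
    show a i - ε.symm (algebraMap Rh _ (γ (h (Ideal.Quotient.mk _ (X i))))) ∈ _
    rw [hγb]
    have := hI N _ (hab i)
    rw [map_sub, hah, RingEquiv.symm_apply_apply] at this
    exact this

end Groth.Agent.H5.Pop
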