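import Mathlib
import Groth.Prelude.Def_Found
import Groth.Prelude.Def_Hensel
import Groth.Agent.Lib.Helper5.Pop.EtApprox
import Groth.Agent.Lib.Helper3.CA.GRingTransfer
import Groth.Agent.Lib.Helper8.Hens.AtPrimeColim
import Groth.Agent.Lib.Helper8.Hens.IndEtale

/-!
# Artin approximation in étale neighbourhoods: local G-rings (helper5)
-/

set_option autoImplicit false
universe u
open IsLocalRing

namespace Groth.Agent.H5.Pop

/-- A local G-ring has a regular completion map. -/
theorem isRegularHom_cpl_of_isGRing {R : Type u} [CommRing R] [IsLocalRing R]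
    (hG : CAlg.IsGRing R) : CAlg.IsRegularHom R (AdicCompletion (maximalIdeal R) R) := by
  have hN : IsNoetherianRing R := hG.1
  have h1 := hG.2 (maximalIdeal R)
  have hN' : IsNoetherianRing (Localization.AtPrime (maximalIdeal R)) :=
    IsLocalization.isNoetherianRing (maximalIdeal R).primeCompl _ inferInstance
  have hu : (maximalIdeal R).primeCompl ≤ IsUnit.submonoid R := by
    intro x hx
    rw [Ideal.mem_primeCompl_iff, IsLocalRing.mem_maximalIdeal, mem_nonunits_iff, not_not] at hx
    exact hx
  let e : Localization.AtPrime (maximalIdeal R) ≃+* R :=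
    (IsLocalization.atUnits R (maximalIdeal R).primeCompl hu
      (S := Localization.AtPrime (maximalIdeal R))).symm.toRingEquiv
  exact Groth.Agent.H3.GRing.isRegularHom_cpl_of_ringEquiv e h1

open Groth.Agent.H8.Hens in
/-- S6825. -/
theorem approx_etale_local {R : Type u} [CommRing R] [IsLocalRing R] (hG : CAlg.IsGRing R)
    {n m : ℕ} (F : Fin m → MvPolynomial (Fin n) R)
    (a : Fin n → AdicCompletion (IsLocalRing.maximalIdeal R) R) (ha : ∀ j, MvPolynomial.aeval a (F j) = 0)
    (N : ℕ) :
    ∃ (R' : Type u) (_ : CommRing R') (_ : Algebra R R'), Algebra.Etale R R' ∧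
      ∃ (ψ : R' →ₐ[R] AdicCompletion (IsLocalRing.maximalIdeal R) R) (m' : Ideal R'), m'.IsMaximal ∧
        m'.comap (algebraMap R R') = IsLocalRing.maximalIdeal R ∧
        (∀ x : R', ∃ r : R, x - algebraMap R R' r ∈ m') ∧
        (∀ x ∈ m', ψ x ∈ (IsLocalRing.maximalIdeal R).map
          (algebraMap R (AdicCompletion (IsLocalRing.maximalIdeal R) R))) ∧
        ∃ b : Fin n → R', (∀ j, MvPolynomial.aeval b (F j) = 0) ∧
          ∀ i, a i - ψ (b i) ∈ (IsLocalRing.maximalIdeal R ^ N).map
            (algebraMap R (AdicCompletion (IsLocalRing.maximalIdeal R) R)) := by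
  haveI : IsNoetherianRing R := hG.1
  have hreg := isRegularHom_cpl_of_isGRing hG
  haveI := isHenselization (R := R)
  have ha' : ∀ j, MvPolynomial.eval₂ ((algebraMap R (AdicCompletion (maximalIdeal R) R)).comp
      (algebraMap R R)) a (F j) = 0 := by
    intro j
    rw [Algebra.algebraMap_self, RingHom.comp_id, ← MvPolynomial.aeval_def]
    exact ha j
  obtain ⟨R', _, _, hEt, γ, ψ, b, h1, h2, h3, h4⟩ :=
    approx_etale (A := R) R hreg (Henselization R) crit_H F a ha' N
  have hcomap : ((maximalIdeal (Henselization R)).comap γ.toRingHom).comap (algebraMap R R') =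
      maximalIdeal R := by
    rw [Ideal.comap_comap]
    have : γ.toRingHom.comp (algebraMap R R') = algebraMap R (Henselization R) :=
      RingHom.ext fun r => γ.commutes r
    rw [this]
    exact IsLocalRing.maximalIdeal_comap (algebraMap R (Henselization R))
  have hres : ∀ x : R', ∃ r : R, x - algebraMap R R' r ∈
      (maximalIdeal (Henselization R)).comap γ.toRingHom := by
    intro x
    obtain ⟨r, hr⟩ := residue_surjective_of_isHenselization (R := R) (Henselization R) (γ x)
    refine ⟨r, ?_⟩
    rw [Ideal.mem_comap]
    show γ (x - algebraMap R R' r) ∈ _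
    rw [map_sub, γ.commutes]
    exact hr
  have hψ : ∀ r : R, ψ (algebraMap R R' r) =
      algebraMap R (AdicCompletion (maximalIdeal R) R) r := fun r => by
    rw [h1]
    rfl
  let ψ' : R' →ₐ[R] AdicCompletion (maximalIdeal R) R := { ψ with commutes' := hψ }
  refine ⟨R', inferInstance, inferInstance, hEt, ψ',
    (maximalIdeal (Henselization R)).comap γ.toRingHom, ?_, hcomap, hres, ?_, b, h3, h4⟩
  · haveI hp : ((maximalIdeal (Henselization R)).comap γ.toRingHom).IsPrime :=
      Ideal.comap_isPrime _ _
    rw [Ideal.isMaximal_iff]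
    refine ⟨fun h => hp.ne_top ((Ideal.eq_top_iff_one _).mpr h), fun J x hJ hx hxJ => ?_⟩
    obtain ⟨r, hr⟩ := hres x
    have hrJ : algebraMap R R' r ∈ J := by
      have := J.sub_mem hxJ (hJ hr)
      rwa [sub_sub_cancel] at this
    have hru : IsUnit r := by
      by_contra hnu
      have hrm : r ∈ maximalIdeal R := (IsLocalRing.mem_maximalIdeal r).mpr hnu
      rw [← hcomap, Ideal.mem_comap] at hrm
      apply hx
      have := Ideal.add_mem _ hr hrm
      rwa [sub_add_cancel] at this
    exact (Ideal.eq_top_iff_one J).mp (Ideal.eq_top_of_isUnit_mem J hrJ (hru.map _))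
  · intro x hx
    exact h2 x hx

open Groth.Agent.H8.Hens in
/-- S6843. -/
theorem approx_etale_atPrime {R : Type u} [CommRing R] [IsNoetherianRing R]
    (p : Ideal R) [p.IsPrime] (hG : CAlg.IsGRing (Localization.AtPrime p)) {n m : ℕ}
    (F : Fin m → MvPolynomial (Fin n) R)
    (a : Fin n → AdicCompletion (IsLocalRing.maximalIdeal (Localization.AtPrime p)) (Localization.AtPrime p))
    (ha : ∀ j, MvPolynomial.aeval a (MvPolynomial.map (algebraMap R (Localization.AtPrime p)) (F j)) = 0) (N : ℕ) :
    ∃ (R' : Type u) (_ : CommRing R') (_ : Algebra R R'), Algebra.Etale R R' ∧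
      ∃ (ψ : R' →+* AdicCompletion (IsLocalRing.maximalIdeal (Localization.AtPrime p)) (Localization.AtPrime p))
        (p' : Ideal R'), p'.IsPrime ∧
        (∀ r : R, ψ (algebraMap R R' r) =
          algebraMap (Localization.AtPrime p) _ (algebraMap R (Localization.AtPrime p) r)) ∧
        p'.comap (algebraMap R R') = p ∧
        (∀ x : R', ∃ r s : R, s ∉ p ∧ algebraMap R R' s * x - algebraMap R R' r ∈ p') ∧
        (∀ x ∈ p', ψ x ∈ (IsLocalRing.maximalIdeal (Localization.AtPrime p)).map
          (algebraMap (Localization.AtPrime p)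
            (AdicCompletion (IsLocalRing.maximalIdeal (Localization.AtPrime p)) (Localization.AtPrime p)))) ∧
        ∃ b : Fin n → R', (∀ j, MvPolynomial.aeval b (F j) = 0) ∧
          ∀ i, a i - ψ (b i) ∈ (IsLocalRing.maximalIdeal (Localization.AtPrime p) ^ N).map
            (algebraMap (Localization.AtPrime p)
              (AdicCompletion (IsLocalRing.maximalIdeal (Localization.AtPrime p)) (Localization.AtPrime p))) := by
  haveI : IsNoetherianRing (Localization.AtPrime p) := hG.1
  have hreg := isRegularHom_cpl_of_isGRing hG
  haveI := isHenselization (R := Localization.AtPrime p)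
  letI : Algebra R (Henselization (Localization.AtPrime p)) :=
    ((algebraMap (Localization.AtPrime p) (Henselization (Localization.AtPrime p))).comp
      (algebraMap R (Localization.AtPrime p))).toAlgebra
  haveI : IsScalarTower R (Localization.AtPrime p) (Henselization (Localization.AtPrime p)) :=
    IsScalarTower.of_algebraMap_eq fun _ => rfl
  have hcrit := crit_henselization_atPrime R p (Henselization (Localization.AtPrime p))
  have ha' : ∀ j, MvPolynomial.eval₂ ((algebraMap (Localization.AtPrime p)
      (AdicCompletion (maximalIdeal (Localization.AtPrime p)) (Localization.AtPrime p))).comp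
      (algebraMap R (Localization.AtPrime p))) a (F j) = 0 := by
    intro j
    rw [← MvPolynomial.eval₂_map, ← MvPolynomial.aeval_def]
    exact ha j
  obtain ⟨R', _, _, hEt, γ, ψ, b, h1, h2, h3, h4⟩ :=
    approx_etale (A := R) (Localization.AtPrime p) hreg (Henselization (Localization.AtPrime p))
      hcrit F a ha' N
  refine ⟨R', inferInstance, inferInstance, hEt, ψ,
    (maximalIdeal (Henselization (Localization.AtPrime p))).comap γ.toRingHom,
    Ideal.comap_isPrime _ _, h1, ?_, ?_, fun x hx => h2 x hx, b, h3, h4⟩
  · rw [Ideal.comap_comap]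
    have : γ.toRingHom.comp (algebraMap R R') =
        (algebraMap (Localization.AtPrime p) (Henselization (Localization.AtPrime p))).comp
          (algebraMap R (Localization.AtPrime p)) :=
      RingHom.ext fun r => γ.commutes r
    rw [this, ← Ideal.comap_comap, IsLocalRing.maximalIdeal_comap]
    exact Localization.AtPrime.comap_maximalIdeal
  · intro x
    obtain ⟨y, hy⟩ := residue_surjective_of_isHenselization (R := Localization.AtPrime p)
      (Henselization (Localization.AtPrime p)) (γ x)
    obtain ⟨r, s, rfl⟩ := IsLocalization.exists_mk'_eq p.primeCompl y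
    refine ⟨r, s, s.2, ?_⟩
    rw [Ideal.mem_comap]
    show γ (algebraMap R R' s * x - algebraMap R R' r) ∈ _
    rw [map_sub, map_mul, γ.commutes, γ.commutes]
    have e1 : algebraMap R (Henselization (Localization.AtPrime p)) r =
        algebraMap R (Henselization (Localization.AtPrime p)) s *
          algebraMap (Localization.AtPrime p) (Henselization (Localization.AtPrime p))
            (IsLocalization.mk' (Localization.AtPrime p) r s) := by
      rw [IsScalarTower.algebraMap_apply R (Localization.AtPrime p)
        (Henselization (Localization.AtPrime p)) s, ← map_mul, mul_comm,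
        IsLocalization.mk'_spec, ← IsScalarTower.algebraMap_apply]
    rw [e1, ← mul_sub]
    exact Ideal.mul_mem_left _ _ hy

end Groth.Agent.H5.Pop
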