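import Mathlib
import Groth.Prelude.Def_Found
import Groth.Agent.Lib.Helper5.Pop.Approx
import Groth.Agent.Lib.Helper5.Lim.FPConverse

/-!
# Artin approximation for functors preserving filtered colimits (helper5)
-/

set_option autoImplicit false
universe u
open CategoryTheory CategoryTheory.Limits Opposite

namespace Groth.Agent.H5.Pop

section FG

variable (A : Type u) [CommRing A] (B : Type u) [CommRing B] [Algebra A B]

/-- index poset of finitely generated subalgebras -/
abbrev FGS : Type u := {S : Subalgebra A B // S.FG}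

instance : IsDirected (FGS A B) (· ≤ ·) :=
  ⟨fun S T => ⟨⟨S.1 ⊔ T.1, S.2.sup T.2⟩, le_sup_left (a := S.1), le_sup_right (b := T.1)⟩⟩

instance : Nonempty (FGS A B) := ⟨⟨⊥, Subalgebra.fg_bot⟩⟩

/-- the system of f.g. subalgebras -/
noncomputable def fgD : FGS A B ⥤ Under (CommRingCat.of A) where
  obj S := Under.mk (CommRingCat.ofHom (algebraMap A S.1))
  map {S T} h := Under.homMk
    (CommRingCat.ofHom (Subalgebra.inclusion (leOfHom h)).toRingHom) (by ext; rfl)
  map_id S := by ext; rfl
  map_comp h h' := by ext; rfl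

noncomputable def fgC : Cocone (fgD A B) where
  pt := Under.mk (CommRingCat.ofHom (algebraMap A B))
  ι :=
    { app := fun S => Under.homMk (CommRingCat.ofHom S.1.val.toRingHom) (by ext; rfl)
      naturality := fun S T h => by ext; rfl }

noncomputable def isColimitFgC : IsColimit (fgC A B) := by
  apply Groth.Agent.H5.FPConv.isColimitUnderOfForget
  · intro x
    change B at x
    refine ⟨⟨Algebra.adjoin A {x}, ⟨{x}, by rw [Finset.coe_singleton]⟩⟩,
      ⟨x, Algebra.subset_adjoin (Set.mem_singleton x)⟩, rfl⟩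
  · intro S x y hxy
    exact ⟨S, 𝟙 S, by rw [(fgD A B).map_id]; exact congrArg _ (Subtype.ext hxy)⟩

variable {A B}

theorem exists_fg_lift (F : Under (CommRingCat.of A) ⥤ Type u)
    (hF : ∀ (J : Type u) [SmallCategory J] [IsFiltered J], PreservesColimitsOfShape J F)
    (ξ : F.obj (Under.mk (CommRingCat.ofHom (algebraMap A B)))) :
    ∃ (S : FGS A B) (ξS : F.obj ((fgD A B).obj S)), F.map ((fgC A B).ι.app S) ξS = ξ := by
  haveI := hF (FGS A B)
  obtain ⟨S, s, hs⟩ := Types.jointly_surjective_of_isColimit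
    (isColimitOfPreserves F (isColimitFgC A B)) ξ
  exact ⟨S, s, hs⟩

theorem exists_fg_eq (F : Under (CommRingCat.of A) ⥤ Type u)
    (hF : ∀ (J : Type u) [SmallCategory J] [IsFiltered J], PreservesColimitsOfShape J F)
    (S : FGS A B) (x y : F.obj ((fgD A B).obj S))
    (h : F.map ((fgC A B).ι.app S) x = F.map ((fgC A B).ι.app S) y) :
    ∃ (T : FGS A B) (e : S ⟶ T), F.map ((fgD A B).map e) x = F.map ((fgD A B).map e) y := by
  haveI := hF (FGS A B)
  obtain ⟨T, e, e', h⟩ := (Types.FilteredColimit.isColimit_eq_iff _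
    (isColimitOfPreserves F (isColimitFgC A B))).mp h
  have : e = e' := Subsingleton.elim _ _
  subst this
  exact ⟨T, e, h⟩

end FG

section Approx

variable {A : Type u} [CommRing A] [IsNoetherianRing A] (I : Ideal A) [HenselianRing A I]

/-- A retraction from a f.g. subalgebra of the completion, close to the inclusion. -/
theorem exists_retraction (hreg : CAlg.IsRegularHom A (AdicCompletion I A))
    (S : FGS A (AdicCompletion I A)) (N : ℕ) :
    ∃ τ : S.1 →ₐ[A] A, ∀ c : S.1, (c : AdicCompletion I A) -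
      algebraMap A (AdicCompletion I A) (τ c) ∈ (I ^ N).map (algebraMap A (AdicCompletion I A)) := by
  haveI : Algebra.FiniteType A S.1 := (Subalgebra.fg_iff_finiteType S.1).mp S.2
  haveI : Algebra.FinitePresentation A S.1 := Algebra.FinitePresentation.of_finiteType.mp inferInstance
  exact artin_approx I hreg S.1.val N

/-- the morphism in `Under A` given by an algebra map to `A`. -/
noncomputable def toSelf {C : Type u} [CommRing C] [Algebra A C] (τ : C →ₐ[A] A) :
    Under.mk (CommRingCat.ofHom (algebraMap A C)) ⟶ Under.mk (𝟙 (CommRingCat.of A)) :=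
  Under.homMk (CommRingCat.ofHom τ.toRingHom) (by
    ext a
    exact τ.commutes a)

/-- **Artin approximation for functors** on `Under A` preserving filtered colimits. -/
theorem functor_approx (hreg : CAlg.IsRegularHom A (AdicCompletion I A))
    (F : Under (CommRingCat.of A) ⥤ Type u)
    (hF : ∀ (J : Type u) [SmallCategory J] [IsFiltered J], PreservesColimitsOfShape J F)
    (N : ℕ)
    (π : Under.mk (CommRingCat.ofHom (algebraMap A (AdicCompletion I A))) ⟶
      Under.mk (CommRingCat.ofHom (algebraMap A (A ⧸ I ^ N))))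
    (hπ : π.right = CommRingCat.ofHom
      (AdicCompletion.evalₐ I N : AdicCompletion I A →ₐ[A] A ⧸ I ^ N).toRingHom)
    (ρ : Under.mk (𝟙 (CommRingCat.of A)) ⟶
      Under.mk (CommRingCat.ofHom (algebraMap A (A ⧸ I ^ N))))
    (ξ : F.obj (Under.mk (CommRingCat.ofHom (algebraMap A (AdicCompletion I A))))) :
    ∃ η : F.obj (Under.mk (𝟙 (CommRingCat.of A))), F.map ρ η = F.map π ξ := by
  obtain ⟨S, ξS, hξ⟩ := exists_fg_lift F hF ξ
  obtain ⟨τ, hτ⟩ := exists_retraction I hreg S N
  refine ⟨F.map (toSelf τ) ξS, ?_⟩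
  have e1 : F.map ρ (F.map (toSelf τ) ξS) = F.map (toSelf τ ≫ ρ) ξS :=
    (FunctorToTypes.map_comp_apply F (toSelf τ) ρ ξS).symm
  have e2 : F.map π ξ = F.map ((fgC A (AdicCompletion I A)).ι.app S ≫ π) ξS := by
    rw [← hξ]
    exact (FunctorToTypes.map_comp_apply F ((fgC A (AdicCompletion I A)).ι.app S) π ξS).symm
  rw [e1, e2]
  have key : toSelf τ ≫ ρ = (fgC A (AdicCompletion I A)).ι.app S ≫ π := ?_
  · exact congrArg (fun t => F.map t ξS) key
  apply Under.UnderMorphism.ext
  apply CommRingCat.hom_ext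
  refine RingHom.ext fun (c : S.1) => ?_
  have hρ : ρ.right = CommRingCat.ofHom (algebraMap A (A ⧸ I ^ N)) := by
    have := Under.w ρ
    simpa using this
  change ρ.right.hom (τ c) = π.right.hom (c : AdicCompletion I A)
  rw [hρ, hπ]
  change algebraMap A (A ⧸ I ^ N) (τ c) = AdicCompletion.evalₐ I N (c : AdicCompletion I A)
  have h0 : AdicCompletion.evalₐ I N ((c : AdicCompletion I A) -
      algebraMap A (AdicCompletion I A) (τ c)) = 0 := by
    have hle : (I ^ N).map (algebraMap A (AdicCompletion I A)) ≤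
        RingHom.ker (AdicCompletion.evalₐ I N : AdicCompletion I A →ₐ[A] A ⧸ I ^ N).toRingHom := by
      rw [Ideal.map_le_iff_le_comap]
      intro a ha
      show AdicCompletion.evalₐ I N (algebraMap A (AdicCompletion I A) a) = 0
      rw [AlgHom.commutes]
      exact Ideal.Quotient.eq_zero_iff_mem.mpr ha
    exact hle (hτ c)
  rw [map_sub, AlgHom.commutes, sub_eq_zero] at h0
  exact h0.symm

end Approx

end Groth.Agent.H5.Pop
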