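import Mathlib
import Groth.Prelude.Def_Found
import Groth.Agent.Lib.Helper5.Pop.FunApprox

/-!
# Artin approximation for functors on `CommAlgCat A` preserving filtered colimits (helper5)
-/

set_option autoImplicit false
universe u
open CategoryTheory CategoryTheory.Limits Opposite

namespace Groth.Agent.H5.Pop

section FG

variable (A : Type u) [CommRing A] (B : Type u) [CommRing B] [Algebra A B]

/-- the system of f.g. subalgebras, in `CommAlgCat A` -/
noncomputable def fgD' : FGS A B ⥤ CommAlgCat.{u} A where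
  obj S := CommAlgCat.of A S.1
  map {S T} h := CommAlgCat.ofHom (Subalgebra.inclusion (leOfHom h))
  map_id S := by ext; rfl
  map_comp h h' := by ext; rfl

noncomputable def fgC' : Cocone (fgD' A B) where
  pt := CommAlgCat.of A B
  ι :=
    { app := fun S => CommAlgCat.ofHom S.1.val
      naturality := fun S T h => by ext; rfl }

noncomputable def isColimitFgC' : IsColimit (fgC' A B) := by
  apply isColimitOfReflects (commAlgCatEquivUnder (CommRingCat.of A)).functor
  exact isColimitFgC A B

variable {A B}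

theorem exists_fg_lift' (F : CommAlgCat.{u} A ⥤ Type u) [PreservesFilteredColimitsOfSize.{u, u} F]
    (ξ : F.obj (CommAlgCat.of A B)) :
    ∃ (S : FGS A B) (ξS : F.obj (CommAlgCat.of A S.1)), F.map (CommAlgCat.ofHom S.1.val) ξS = ξ := by
  haveI : PreservesColimitsOfShape (FGS A B) F :=
    PreservesFilteredColimitsOfSize.preserves_filtered_colimits _
  obtain ⟨S, s, hs⟩ := Types.jointly_surjective_of_isColimit
    (isColimitOfPreserves F (isColimitFgC' A B)) ξ
  exact ⟨S, s, hs⟩

theorem exists_fg_eq' (F : CommAlgCat.{u} A ⥤ Type u) [PreservesFilteredColimitsOfSize.{u, u} F]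
    (S : FGS A B) (x y : F.obj (CommAlgCat.of A S.1))
    (h : F.map (CommAlgCat.ofHom S.1.val) x = F.map (CommAlgCat.ofHom S.1.val) y) :
    ∃ (T : FGS A B) (e : S.1 ≤ T.1), F.map (CommAlgCat.ofHom (Subalgebra.inclusion e)) x =
      F.map (CommAlgCat.ofHom (Subalgebra.inclusion e)) y := by
  haveI : PreservesColimitsOfShape (FGS A B) F :=
    PreservesFilteredColimitsOfSize.preserves_filtered_colimits _
  obtain ⟨T, e, e', h⟩ := (Types.FilteredColimit.isColimit_eq_iff _
    (isColimitOfPreserves F (isColimitFgC' A B)) (i := S) (j := S) (xi := x) (xj := y)).mp h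
  have : e = e' := Subsingleton.elim _ _
  subst this
  exact ⟨T, leOfHom e, h⟩

end FG

section Approx

variable {A : Type u} [CommRing A] [IsNoetherianRing A] (I : Ideal A) [HenselianRing A I]

theorem functor_approx_alg (hreg : CAlg.IsRegularHom A (AdicCompletion I A))
    (F : CommAlgCat.{u} A ⥤ Type u) [PreservesFilteredColimitsOfSize.{u, u} F] :
    Function.Injective (F.map (CommAlgCat.ofHom (Algebra.ofId A (AdicCompletion I A)))) ∧
    ∀ xbar : F.obj (CommAlgCat.of A (A ⧸ I)),
      (∃ x : F.obj (CommAlgCat.of A A), F.map (CommAlgCat.ofHom (Ideal.Quotient.mkₐ A I)) x = xbar) ↔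
      (∃ y : F.obj (CommAlgCat.of A (AdicCompletion I A)),
        F.map (CommAlgCat.ofHom (AdicCompletion.evalOneₐ I)) y = xbar) := by
  refine ⟨fun x y hxy => ?_, fun xbar => ⟨?_, ?_⟩⟩
  · -- injectivity
    let S₀ : FGS A (AdicCompletion I A) := ⟨⊥, Subalgebra.fg_bot⟩
    let j : A →ₐ[A] S₀.1 := Algebra.ofId A S₀.1
    have hj : (S₀.1.val).comp j = Algebra.ofId A (AdicCompletion I A) := Subsingleton.elim _ _
    have h1 : F.map (CommAlgCat.ofHom S₀.1.val) (F.map (CommAlgCat.ofHom j) x) =
        F.map (CommAlgCat.ofHom S₀.1.val) (F.map (CommAlgCat.ofHom j) y) := by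
      rw [← Functor.map_comp_apply, ← Functor.map_comp_apply, ← CommAlgCat.ofHom_comp,
        hj]
      exact hxy
    obtain ⟨T, e, hT⟩ := exists_fg_eq' F S₀ _ _ h1
    obtain ⟨τ, -⟩ := exists_retraction I hreg T 0
    have hid : (τ.comp (Subalgebra.inclusion e)).comp j = AlgHom.id A A := Subsingleton.elim _ _
    have h2 := congrArg (F.map (CommAlgCat.ofHom τ)) hT
    rw [← Functor.map_comp_apply, ← Functor.map_comp_apply,
      ← Functor.map_comp_apply, ← Functor.map_comp_apply,
      ← CommAlgCat.ofHom_comp, ← CommAlgCat.ofHom_comp, hid, CommAlgCat.ofHom_id] at h2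
    simpa using h2
  · rintro ⟨x, rfl⟩
    refine ⟨F.map (CommAlgCat.ofHom (Algebra.ofId A (AdicCompletion I A))) x, ?_⟩
    rw [← Functor.map_comp_apply, ← CommAlgCat.ofHom_comp]
    have : (AdicCompletion.evalOneₐ I).comp (Algebra.ofId A (AdicCompletion I A)) =
        Ideal.Quotient.mkₐ A I := Subsingleton.elim _ _
    rw [this]
  · rintro ⟨y, rfl⟩
    obtain ⟨S, yS, rfl⟩ := exists_fg_lift' F y
    obtain ⟨τ, hτ⟩ := exists_retraction I hreg S 1
    refine ⟨F.map (CommAlgCat.ofHom τ) yS, ?_⟩
    rw [← Functor.map_comp_apply, ← Functor.map_comp_apply,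
      ← CommAlgCat.ofHom_comp, ← CommAlgCat.ofHom_comp]
    have key : (Ideal.Quotient.mkₐ A I).comp τ = (AdicCompletion.evalOneₐ I).comp S.1.val := ?_
    · rw [key]
    refine AlgHom.ext fun c => ?_
    show Ideal.Quotient.mk I (τ c) = AdicCompletion.evalOneₐ I (c : AdicCompletion I A)
    have h0 : AdicCompletion.evalOneₐ I ((c : AdicCompletion I A) -
        algebraMap A (AdicCompletion I A) (τ c)) = 0 := by
      have hle : (I ^ 1).map (algebraMap A (AdicCompletion I A)) ≤
          RingHom.ker (AdicCompletion.evalOneₐ I).toRingHom := by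
        rw [Ideal.map_le_iff_le_comap]
        intro a ha
        rw [pow_one] at ha
        show AdicCompletion.evalOneₐ I (algebraMap A (AdicCompletion I A) a) = 0
        rw [AlgHom.commutes]
        exact Ideal.Quotient.eq_zero_iff_mem.mpr ha
      exact hle (hτ c)
    rw [map_sub, AlgHom.commutes, sub_eq_zero] at h0
    exact h0.symm

end Approx

end Groth.Agent.H5.Pop
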