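import Mathlib
import Groth.Prelude.Def_Found
import Groth.Agent.Lib.Helper5.Pop.EtApprox2
import Groth.Agent.Lib.Helper5.Pop.CplCompare
import Groth.Agent.Lib.Helper5.Pop.FunApproxAlg
import Groth.Agent.S0598
import Groth.Agent.S0599

/-!
# Artin approximation in étale neighbourhoods of a maximal ideal (helper5)
-/

set_option autoImplicit false
universe u
open IsLocalRing CategoryTheory CategoryTheory.Limits

namespace Groth.Agent.H5.Pop

open Groth.Agent.H4.IndEtCrit

open MvPolynomial in
/-- Algebra-map version of `approx_etale`. -/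
theorem approx_etale_alg {A : Type u} [CommRing A] (Rl : Type u) [CommRing Rl] [IsLocalRing Rl]
    [IsNoetherianRing Rl] [Algebra A Rl]
    (hreg : CAlg.IsRegularHom Rl (AdicCompletion (maximalIdeal Rl) Rl))
    (Rh : Type u) [CommRing Rh] [IsLocalRing Rh] [Algebra Rl Rh] [IsLocalHom (algebraMap Rl Rh)]
    [hS : Hensel.IsHenselization Rl Rh] [Algebra A Rh] [IsScalarTower A Rl Rh] (hcrit : Crit A Rh)
    (C : Type u) [CommRing C] [Algebra A C] [Algebra.FinitePresentation A C]
    (f : C →+* AdicCompletion (maximalIdeal Rl) Rl)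
    (hf : ∀ r : A, f (algebraMap A C r) =
      algebraMap Rl (AdicCompletion (maximalIdeal Rl) Rl) (algebraMap A Rl r)) (N : ℕ) :
    ∃ (R' : Type u) (_ : CommRing R') (_ : Algebra A R') (_ : Algebra.Etale A R')
      (γ : R' →ₐ[A] Rh) (ψ : R' →+* AdicCompletion (maximalIdeal Rl) Rl) (h : C →ₐ[A] R'),
      (∀ r : A, ψ (algebraMap A R' r) =
        algebraMap Rl (AdicCompletion (maximalIdeal Rl) Rl) (algebraMap A Rl r)) ∧
      (∀ x, γ x ∈ maximalIdeal Rh → ψ x ∈ (maximalIdeal Rl).map
        (algebraMap Rl (AdicCompletion (maximalIdeal Rl) Rl))) ∧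
      ∀ c, f c - ψ (h c) ∈ (maximalIdeal Rl ^ N).map
        (algebraMap Rl (AdicCompletion (maximalIdeal Rl) Rl)) := by
  classical
  obtain ⟨n, π, hπ, s, hs⟩ := Algebra.FinitePresentation.out (R := A) (A := C)
  obtain ⟨F, hF⟩ : ∃ F : Fin s.card → MvPolynomial (Fin n) A, Set.range F = (s : Set _) := by
    refine ⟨fun j => (s.equivFin.symm j : MvPolynomial (Fin n) A), ?_⟩
    ext x
    constructor
    · rintro ⟨j, rfl⟩
      exact (s.equivFin.symm j).2
    · intro hx
      exact ⟨s.equivFin ⟨x, hx⟩, by simp⟩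
  have hker : RingHom.ker π.toRingHom = Ideal.span (Set.range F) := by rw [hF, hs]
  have hev : (MvPolynomial.eval₂Hom ((algebraMap Rl (AdicCompletion (maximalIdeal Rl) Rl)).comp
      (algebraMap A Rl)) (fun i => f (π (X i)))) = f.comp π.toRingHom := by
    apply MvPolynomial.ringHom_ext
    · intro r
      rw [MvPolynomial.eval₂Hom_C]
      show _ = f (π (MvPolynomial.C r))
      rw [← MvPolynomial.algebraMap_eq, AlgHom.commutes, hf]
      rfl
    · intro i
      rw [MvPolynomial.eval₂Hom_X']
      rfl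
  have ha : ∀ j, MvPolynomial.eval₂ ((algebraMap Rl (AdicCompletion (maximalIdeal Rl) Rl)).comp
      (algebraMap A Rl)) (fun i => f (π (X i))) (F j) = 0 := by
    intro j
    have h1 := congrArg (fun φ => φ (F j)) hev
    have : F j ∈ RingHom.ker π.toRingHom := by
      rw [hker]
      exact Ideal.subset_span (Set.mem_range_self j)
    have h2 : π (F j) = 0 := this
    simp only [RingHom.comp_apply, MvPolynomial.coe_eval₂Hom] at h1
    rw [h1]
    show f (π (F j)) = 0
    rw [h2, map_zero]
  obtain ⟨R', _, _, hEt, γ, ψ, b, h1, h2, h3, h4⟩ :=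
    approx_etale (A := A) Rl hreg Rh hcrit F (fun i => f (π (X i))) ha N
  have hle : RingHom.ker π.toRingHom ≤
      RingHom.ker (aeval b : MvPolynomial (Fin n) A →ₐ[A] R').toRingHom := by
    rw [hker, Ideal.span_le]
    rintro _ ⟨j, rfl⟩
    exact h3 j
  refine ⟨R', inferInstance, inferInstance, hEt, γ, ψ,
    AlgHom.liftOfSurjective π hπ (aeval b) hle, h1, h2, fun c => ?_⟩
  obtain ⟨p, rfl⟩ := hπ c
  have e1 : AlgHom.liftOfSurjective π hπ (aeval b) hle (π p) = aeval b p :=
    AlgHom.liftOfSurjective_apply _ _ _ _ _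
  rw [e1]
  obtain ⟨J, hJ⟩ : ∃ J : Ideal (AdicCompletion (maximalIdeal Rl) Rl), J = (maximalIdeal Rl ^ N).map
    (algebraMap Rl (AdicCompletion (maximalIdeal Rl) Rl)) := ⟨_, rfl⟩
  rw [← hJ, ← Ideal.Quotient.eq]
  have e2 : ((Ideal.Quotient.mk J).comp (f.comp π.toRingHom)) =
      (Ideal.Quotient.mk J).comp (ψ.comp (aeval b : MvPolynomial (Fin n) A →ₐ[A] R').toRingHom) := by
    apply MvPolynomial.ringHom_ext
    · intro r
      show Ideal.Quotient.mk J (f (π (MvPolynomial.C r))) =
        Ideal.Quotient.mk J (ψ (aeval b (MvPolynomial.C r)))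
      rw [← MvPolynomial.algebraMap_eq, AlgHom.commutes, AlgHom.commutes, hf, h1]
    · intro i
      show Ideal.Quotient.mk J (f (π (X i))) = Ideal.Quotient.mk J (ψ (aeval b (X i)))
      rw [aeval_X, Ideal.Quotient.eq, hJ]
      exact h4 i
  exact congrArg (fun φ => φ p) e2

open Groth.Agent.H8.Hens in
/-- **Artin approximation in étale neighbourhoods of a maximal ideal**, algebra-map form. -/
theorem approx_etale_alg_maximal {A : Type u} [CommRing A] (hG : CAlg.IsGRing A) (m : Ideal A)
    [m.IsMaximal] (C : Type u) [CommRing C] [Algebra A C] [Algebra.FinitePresentation A C]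
    (f : C →ₐ[A] AdicCompletion m A) (N : ℕ) :
    ∃ (A' : Type u) (_ : CommRing A') (_ : Algebra A A') (_ : Algebra.Etale A A')
      (h : C →ₐ[A] A') (ψ : A' →ₐ[A] A ⧸ m ^ N), ∀ c, ψ (h c) = AdicCompletion.evalₐ m N (f c) := by
  haveI : IsNoetherianRing A := hG.1
  haveI : IsNoetherianRing (Localization.AtPrime m) :=
    IsLocalization.isNoetherianRing m.primeCompl _ inferInstance
  have hreg := hG.2 m
  haveI := isHenselization (R := Localization.AtPrime m)
  letI : Algebra A (Henselization (Localization.AtPrime m)) :=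
    ((algebraMap (Localization.AtPrime m) (Henselization (Localization.AtPrime m))).comp
      (algebraMap A (Localization.AtPrime m))).toAlgebra
  haveI : IsScalarTower A (Localization.AtPrime m) (Henselization (Localization.AtPrime m)) :=
    IsScalarTower.of_algebraMap_eq fun _ => rfl
  have hcrit := crit_henselization_atPrime A m (Henselization (Localization.AtPrime m))
  obtain ⟨A', _, _, hEt, γ, ψ, h, h1, -, h3⟩ :=
    approx_etale_alg (A := A) (Localization.AtPrime m) hreg
      (Henselization (Localization.AtPrime m)) hcrit C ((cplAtMaximal m).comp f.toRingHom)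
      (fun r => by
        show cplAtMaximal m (f (algebraMap A C r)) = _
        rw [f.commutes, cplAtMaximal_of]) N
  obtain ⟨e, he⟩ : ∃ e : (A ⧸ m ^ N) ≃ₐ[A] (Localization.AtPrime m) ⧸
      maximalIdeal (Localization.AtPrime m) ^ N,
      e = IsLocalization.AtPrime.equivQuotMaximalIdealPow m (Localization.AtPrime m) N := ⟨_, rfl⟩
  have hψ : ∀ r : A, e.symm (AdicCompletion.evalₐ (maximalIdeal (Localization.AtPrime m)) N
      (ψ (algebraMap A A' r))) = algebraMap A (A ⧸ m ^ N) r := by
    intro r
    rw [h1, AlgHom.commutes, ← IsScalarTower.algebraMap_apply, AlgEquiv.commutes]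
  let ψ' : A' →ₐ[A] A ⧸ m ^ N :=
    { (e.symm.toAlgHom.toRingHom.comp
        ((AdicCompletion.evalₐ (maximalIdeal (Localization.AtPrime m)) N).toRingHom.comp ψ)) with
      commutes' := hψ }
  refine ⟨A', inferInstance, inferInstance, hEt, h, ψ', fun c => ?_⟩
  show e.symm (AdicCompletion.evalₐ (maximalIdeal (Localization.AtPrime m)) N (ψ (h c))) = _
  have h0 : AdicCompletion.evalₐ (maximalIdeal (Localization.AtPrime m)) N
      (cplAtMaximal m (f c) - ψ (h c)) = 0 := by
    have hle : (maximalIdeal (Localization.AtPrime m) ^ N).map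
        (algebraMap (Localization.AtPrime m) (AdicCompletion (maximalIdeal (Localization.AtPrime m))
          (Localization.AtPrime m))) ≤
        RingHom.ker (AdicCompletion.evalₐ (maximalIdeal (Localization.AtPrime m)) N).toRingHom := by
      rw [Ideal.map_le_iff_le_comap]
      intro a ha
      show AdicCompletion.evalₐ (maximalIdeal (Localization.AtPrime m)) N
        (algebraMap (Localization.AtPrime m) _ a) = 0
      rw [AlgHom.commutes]
      exact Ideal.Quotient.eq_zero_iff_mem.mpr ha
    exact hle (h3 c)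
  rw [map_sub, sub_eq_zero] at h0
  rw [← h0, evalₐ_cplAtMaximal, ← he, AlgEquiv.symm_apply_apply]

/-- a field is a G-ring. -/
theorem isGRing_of_field (k : Type u) [Field k] : CAlg.IsGRing k := by
  haveI : IsAdicComplete (maximalIdeal k) k := by
    rw [IsLocalRing.maximalIdeal_eq_bot]
    infer_instance
  exact Groth.Agent.S0598.result k

/-- S18340. -/
theorem functor_approx_etale_maximal (k : Type u) [Field k]
    (A : Type u) [CommRing A] [Algebra k A] [Algebra.FiniteType k A] (m : Ideal A) [m.IsMaximal]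
    (F : CommAlgCat.{u} A ⥤ Type u) [Limits.PreservesFilteredColimits F]
    (ξ : F.obj (CommAlgCat.of A (AdicCompletion m A))) (N : ℕ) :
    ∃ (A' : Type u) (_ : CommRing A') (_ : Algebra A A') (_ : Algebra.Etale A A')
      (ψ : A' →ₐ[A] (A ⧸ m ^ (N + 1))) (_ : Function.Surjective ψ) (ξ' : F.obj (CommAlgCat.of A A')),
      F.map (CommAlgCat.ofHom ψ) ξ' =
        F.map (CommAlgCat.ofHom (AdicCompletion.evalₐ m (N + 1))) ξ := by
  have hG : CAlg.IsGRing A := Groth.Agent.S0599.result k (isGRing_of_field k) A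
  haveI : IsNoetherianRing A := hG.1
  obtain ⟨S, ξS, rfl⟩ := exists_fg_lift' F ξ
  haveI : Algebra.FiniteType A S.1 := (Subalgebra.fg_iff_finiteType S.1).mp S.2
  haveI : Algebra.FinitePresentation A S.1 :=
    Algebra.FinitePresentation.of_finiteType.mp inferInstance
  obtain ⟨A', _, _, hEt, h, ψ, hψ⟩ := approx_etale_alg_maximal hG m S.1 S.1.val (N + 1)
  have hsurj : Function.Surjective ψ := by
    intro z
    obtain ⟨a, rfl⟩ := Ideal.Quotient.mk_surjective z
    exact ⟨algebraMap A A' a, ψ.commutes a⟩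
  refine ⟨A', inferInstance, inferInstance, hEt, ψ, hsurj, F.map (CommAlgCat.ofHom h) ξS, ?_⟩
  rw [← Functor.map_comp_apply, ← Functor.map_comp_apply, ← CommAlgCat.ofHom_comp,
    ← CommAlgCat.ofHom_comp]
  have key : ψ.comp h = (AdicCompletion.evalₐ m (N + 1)).comp S.1.val := AlgHom.ext hψ
  rw [key]

end Groth.Agent.H5.Pop
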