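import Mathlib
import Groth.Agent.Lib.Helper5.Pop.EtApprox4
import Groth.Agent.Lib.Helper8.Japanese.ComplRed9

/-!
# Artin approximation in an étale neighbourhood of a maximal ideal, with the comparison map to the
completion (helper5)
-/

set_option autoImplicit false
universe u
open IsLocalRing

namespace Groth.Agent.H5.Pop.CdJ

open Groth.Agent.H5.Pop Groth.Agent.H4.IndEtCrit

open Groth.Agent.H8.Hens in
/-- **Artin approximation in étale neighbourhoods of a maximal ideal**, with the map to the
completion. -/
theorem approx_etale_alg_maximal_lam {A : Type u} [CommRing A] (hG : CAlg.IsGRing A) (m : Ideal A)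
    [m.IsMaximal] (C : Type u) [CommRing C] [Algebra A C] [Algebra.FinitePresentation A C]
    (f : C →ₐ[A] AdicCompletion m A) (N : ℕ) :
    ∃ (A' : Type u) (_ : CommRing A') (_ : Algebra A A') (_ : Algebra.Etale A A')
      (h : C →ₐ[A] A') (lam : A' →ₐ[A] AdicCompletion m A),
      ∀ c, f c - lam (h c) ∈ (m ^ N).map (algebraMap A (AdicCompletion m A)) := by
  haveI : IsNoetherianRing A := hG.1
  haveI : IsNoetherianRing (Localization.AtPrime m) :=
    IsLocalization.isNoetherianRing m.primeCompl _ inferInstance
  have hreg := hG.2 m
  haveI := isHenselization (R := Localization.AtPrime m)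
  letI : Algebra A (Henselization (Localization.AtPrime m)) :=
    ((algebraMap (Localization.AtPrime m) (Henselization (Localization.AtPrime m))).comp
      (algebraMap A (Localization.AtPrime m))).toAlgebra
  haveI : IsScalarTower A (Localization.AtPrime m) (Henselization (Localization.AtPrime m)) :=
    IsScalarTower.of_algebraMap_eq fun _ => rfl
  have hcrit := crit_henselization_atPrime A m (Henselization (Localization.AtPrime m))
  obtain ⟨A', _, _, hEt, γ, ψ, h, h1, -, h3⟩ :=
    approx_etale_alg (A := A) (Localization.AtPrime m) hreg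
      (Henselization (Localization.AtPrime m)) hcrit C ((cplAtMaximal m).comp f.toRingHom)
      (fun r => by
        show cplAtMaximal m (f (algebraMap A C r)) = _
        rw [f.commutes, cplAtMaximal_of]) N
  obtain ⟨ε, hε⟩ : ∃ ε : AdicCompletion m A ≃+* AdicCompletion (maximalIdeal (Localization.AtPrime m))
      (Localization.AtPrime m), ∀ x, ε x = cplAtMaximal m x :=
    ⟨RingEquiv.ofBijective (cplAtMaximal m) (cplAtMaximal_bijective m), fun _ => rfl⟩
  have hlam : ∀ r : A, ε.symm (ψ (algebraMap A A' r)) = algebraMap A (AdicCompletion m A) r := by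
    intro r
    rw [RingEquiv.symm_apply_eq, h1, hε, cplAtMaximal_of]
  let lam : A' →ₐ[A] AdicCompletion m A :=
    { (ε.symm.toRingHom.comp ψ) with commutes' := hlam }
  refine ⟨A', inferInstance, inferInstance, hEt, h, lam, fun c => ?_⟩
  have hfg : m.FG := IsNoetherian.noetherian m
  apply Groth.Agent.H8.Jap.ComplRed.mem_map_pow_of_evalₐ_eq_zero m hfg N
  have h0 : AdicCompletion.evalₐ (maximalIdeal (Localization.AtPrime m)) N
      (cplAtMaximal m (f c) - ψ (h c)) = 0 := by
    have hle : (maximalIdeal (Localization.AtPrime m) ^ N).map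
        (algebraMap (Localization.AtPrime m) (AdicCompletion (maximalIdeal (Localization.AtPrime m))
          (Localization.AtPrime m))) ≤
        RingHom.ker (AdicCompletion.evalₐ (maximalIdeal (Localization.AtPrime m)) N).toRingHom := by
      rw [Ideal.map_le_iff_le_comap]
      intro a ha
      show AdicCompletion.evalₐ (maximalIdeal (Localization.AtPrime m)) N
        (algebraMap (Localization.AtPrime m) _ a) = 0
      rw [AlgHom.commutes]
      exact Ideal.Quotient.eq_zero_iff_mem.mpr ha
    exact hle (h3 c)
  have h4 : cplAtMaximal m (f c) - ψ (h c) = cplAtMaximal m (f c - lam (h c)) := by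
    rw [map_sub]
    congr 1
    show _ = cplAtMaximal m (ε.symm (ψ (h c)))
    rw [← hε, RingEquiv.apply_symm_apply]
  rw [h4, evalₐ_cplAtMaximal] at h0
  exact (map_eq_zero_iff _ (IsLocalization.AtPrime.equivQuotMaximalIdealPow m
    (Localization.AtPrime m) N).injective).mp h0

end Groth.Agent.H5.Pop.CdJ
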