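import Mathlib
import Groth.Agent.Lib.Helper5.Pop.CdJ5

/-!
# A complete local ring as a quotient of the completion of a finitely generated algebra (helper5)
-/

set_option autoImplicit false
universe u
open IsLocalRing

namespace Groth.Agent.H5.Pop.CdJ

section RSide

variable {P : Type u} [CommRing P] (n : Ideal P) (hfg : n.FG)
  {R : Type u} [CommRing R] (mR : Ideal R)
  (incl : P →+* R) (π : AdicCompletion n P →+* R) (hπ : Function.Surjective π)
  (hπι : ∀ p, π (algebraMap P (AdicCompletion n P) p) = incl p)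
  (hgen : n.map incl = mR)

include hπ hπι hgen in
theorem map_π_nh (j : ℕ) : (nh n j).map π = mR ^ j := by
  rw [nh, Ideal.map_map, ← hgen, ← Ideal.map_pow]
  congr 1
  exact RingHom.ext hπι

include hπ hπι hgen in
/-- Translation of membership in powers of the maximal ideal to the completion. -/
theorem incl_mem_pow_iff (j : ℕ) (p : P) :
    incl p ∈ mR ^ j ↔ algebraMap P (AdicCompletion n P) p ∈ RingHom.ker π ⊔ nh n j := by
  rw [← map_π_nh n mR incl π hπ hπι hgen j, ← hπι, ← Ideal.mem_comap,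
    Ideal.comap_map_of_surjective π hπ, sup_comm]
  rfl

include hfg hπ hπι hgen in
theorem exists_sub_incl_mem (j : ℕ) (b : R) (hb : b ∈ mR ^ j) :
    ∃ a ∈ n ^ j, b - incl a ∈ mR ^ (j + 1) := by
  rw [← map_π_nh n mR incl π hπ hπι hgen j] at hb
  obtain ⟨x, hx, rfl⟩ := (Ideal.mem_map_iff_of_surjective π hπ).mp hb
  obtain ⟨a, ha⟩ := exists_sub_mem_nh n hfg (j + 1) x
  refine ⟨a, ?_, ?_⟩
  · apply mem_pow_of_algebraMap_mem_nh n j
    have := Ideal.sub_mem _ hx (nh_anti n (Nat.le_succ j) ha)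
    rwa [sub_sub_cancel] at this
  · rw [← hπι, ← map_sub, ← map_π_nh n mR incl π hπ hπι hgen (j + 1)]
    exact Ideal.mem_map_of_mem _ ha

include hfg hπ hπι hgen in
theorem exists_sub_incl_mem' (j : ℕ) (b : R) : ∃ a : P, b - incl a ∈ mR ^ j := by
  obtain ⟨x, rfl⟩ := hπ b
  obtain ⟨a, ha⟩ := exists_sub_mem_nh n hfg j x
  refine ⟨a, ?_⟩
  rw [← hπι, ← map_sub, ← map_π_nh n mR incl π hπ hπι hgen j]
  exact Ideal.mem_map_of_mem _ ha

include hfg hπι hgen in
/-- The kernel of `π` lies in the maximal ideal of the completion, provided `n` is the preimage of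
`mR ≠ ⊤`. -/
theorem ker_π_le (hn : ∀ p, incl p ∈ mR → p ∈ n) : RingHom.ker π ≤ nh n 1 := by
  intro x hx
  obtain ⟨a, ha⟩ := exists_sub_mem_nh n hfg 1 x
  have h1 : π (x - algebraMap P _ a) ∈ mR := by
    have hle : nh n 1 ≤ mR.comap π := by
      rw [nh, Ideal.map_le_iff_le_comap]
      intro b hb
      rw [pow_one] at hb
      show π (algebraMap P _ b) ∈ mR
      rw [hπι, ← hgen]
      exact Ideal.mem_map_of_mem _ hb
    exact hle ha
  rw [map_sub, (RingHom.mem_ker).mp hx, zero_sub, hπι, neg_mem_iff] at h1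
  have h2 : algebraMap P (AdicCompletion n P) a ∈ nh n 1 :=
    Ideal.mem_map_of_mem _ (by rw [pow_one]; exact hn a h1)
  have := Ideal.add_mem _ ha h2
  rwa [sub_add_cancel] at this

end RSide

end Groth.Agent.H5.Pop.CdJ
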