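import Mathlib
import Groth.Agent.Lib.Helper5.Pop.CdJ5

/-!
# Quotients of an étale neighbourhood: translation of the powers of the maximal ideal (helper5)
-/

set_option autoImplicit false
universe u
open IsLocalRing

namespace Groth.Agent.H5.Pop.CdJ

section ASide

variable {P : Type u} [CommRing P] (n : Ideal P) [n.IsMaximal] (hfg : n.FG)
  {P' : Type u} [CommRing P'] [Algebra P P'] [Algebra.FormallyEtale P P']
  (lam : P' →ₐ[P] AdicCompletion n P) {ι : Type*} [Fintype ι] (f' : ι → P')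

/-- The maximal ideal of the quotient `P' ⧸ (f')`. -/
noncomputable def mA : Ideal (P' ⧸ Ideal.span (Set.range f')) :=
  (n' n lam).map (Ideal.Quotient.mk (Ideal.span (Set.range f')))

omit [n.IsMaximal] [Algebra.FormallyEtale P P'] [Fintype ι] in
theorem mk_mem_mA_pow_iff (j : ℕ) (p' : P') :
    Ideal.Quotient.mk (Ideal.span (Set.range f')) p' ∈ mA n lam f' ^ j ↔
      p' ∈ n' n lam ^ j ⊔ Ideal.span (Set.range f') := by
  rw [mA, ← Ideal.map_pow, ← Ideal.mem_comap,
    Ideal.comap_map_of_surjective _ Ideal.Quotient.mk_surjective, ← RingHom.ker_eq_comap_bot,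
    Ideal.mk_ker]

include hfg in
theorem mk_mem_mA_pow_iff_lam (j : ℕ) (p' : P') :
    Ideal.Quotient.mk (Ideal.span (Set.range f')) p' ∈ mA n lam f' ^ j ↔
      lam p' ∈ Ideal.span (Set.range fun i => lam (f' i)) ⊔ nh n j := by
  rw [mk_mem_mA_pow_iff]
  constructor
  · intro h
    obtain ⟨a, ha, b, hb, rfl⟩ := Submodule.mem_sup.mp h
    rw [map_add, add_comm]
    refine Submodule.add_mem_sup ?_ (lam_mem_nh_of_mem n lam j a ha)
    obtain ⟨y, rfl⟩ := (Ideal.mem_span_range_iff_exists_fun).mp hb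
    rw [map_sum]
    refine Ideal.sum_mem _ fun i _ => ?_
    rw [map_mul]
    exact Ideal.mul_mem_left _ _ (Ideal.subset_span ⟨i, rfl⟩)
  · intro h
    obtain ⟨a, ha, b, hb, hab⟩ := Submodule.mem_sup.mp h
    obtain ⟨y, rfl⟩ := (Ideal.mem_span_range_iff_exists_fun).mp ha
    choose p hp using fun i => exists_sub_mem_nh n hfg j (y i)
    have hK : ∑ i, algebraMap P P' (p i) * f' i ∈ Ideal.span (Set.range f') :=
      (Ideal.mem_span_range_iff_exists_fun).mpr ⟨_, rfl⟩
    have hmem : p' - ∑ i, algebraMap P P' (p i) * f' i ∈ n' n lam ^ j := by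
      apply mem_n'_pow_of_lam_mem n hfg lam j
      rw [map_sub, ← hab, map_sum]
      have e : ∑ i, y i * lam (f' i) + b - ∑ i, lam (algebraMap P P' (p i) * f' i) =
          ∑ i, (y i - algebraMap P _ (p i)) * lam (f' i) + b := by
        simp only [map_mul, lam.commutes, sub_mul, Finset.sum_sub_distrib]
        ring
      rw [e]
      exact Ideal.add_mem _ (Ideal.sum_mem _ fun i _ => Ideal.mul_mem_right _ _ (hp i)) hb
    have := Submodule.add_mem_sup hmem hK
    rwa [sub_add_cancel] at this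

include hfg in
theorem exists_sub_mk_mem (j : ℕ) (b : P' ⧸ Ideal.span (Set.range f')) (hb : b ∈ mA n lam f' ^ j) :
    ∃ a ∈ n ^ j, b - Ideal.Quotient.mk _ (algebraMap P P' a) ∈ mA n lam f' ^ (j + 1) := by
  rw [mA, ← Ideal.map_pow] at hb
  obtain ⟨p', hp', rfl⟩ := (Ideal.mem_map_iff_of_surjective _ Ideal.Quotient.mk_surjective).mp hb
  obtain ⟨a, ha, hpa⟩ := exists_mem_pow_sub_mem n hfg lam j p' hp'
  refine ⟨a, ha, ?_⟩
  rw [← map_sub, mA, ← Ideal.map_pow]
  exact Ideal.mem_map_of_mem _ hpa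

include hfg in
theorem exists_sub_mk_mem' (j : ℕ) (b : P' ⧸ Ideal.span (Set.range f')) :
    ∃ a : P, b - Ideal.Quotient.mk _ (algebraMap P P' a) ∈ mA n lam f' ^ j := by
  obtain ⟨p', rfl⟩ := Ideal.Quotient.mk_surjective b
  obtain ⟨a, ha⟩ := exists_sub_mem_n'_pow n hfg lam j p'
  refine ⟨a, ?_⟩
  rw [← map_sub, mA, ← Ideal.map_pow]
  exact Ideal.mem_map_of_mem _ ha

omit [Fintype ι] in
theorem mA_ne_top (hK : Ideal.span (Set.range f') ≤ n' n lam) : mA n lam f' ≠ ⊤ := by
  intro h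
  have h1 : (1 : P' ⧸ Ideal.span (Set.range f')) ∈ mA n lam f' ^ 1 := by rw [pow_one, h]; trivial
  rw [← map_one (Ideal.Quotient.mk _), mk_mem_mA_pow_iff, pow_one, sup_eq_left.mpr hK] at h1
  exact n'_ne_top n lam ((Ideal.eq_top_iff_one _).mpr h1)

end ASide

/-- An ideal modulo which every element is congruent to a constant from a field is maximal. -/
theorem isMaximal_of_field_surj {k A : Type*} [Field k] [CommRing A] [Algebra k A] (I : Ideal A)
    (hI : I ≠ ⊤) (h : ∀ x : A, ∃ c : k, x - algebraMap k A c ∈ I) : I.IsMaximal := by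
  rw [Ideal.isMaximal_iff]
  refine ⟨fun h1 => hI ((Ideal.eq_top_iff_one _).mpr h1), fun J x hIJ hxI hxJ => ?_⟩
  obtain ⟨c, hc⟩ := h x
  have hc0 : c ≠ 0 := by
    rintro rfl
    rw [map_zero, sub_zero] at hc
    exact hxI hc
  have hcJ : algebraMap k A c ∈ J := by
    have := Ideal.sub_mem _ hxJ (hIJ hc)
    rwa [sub_sub_cancel] at this
  have : algebraMap k A c⁻¹ * algebraMap k A c ∈ J := Ideal.mul_mem_left _ _ hcJ
  rwa [← map_mul, inv_mul_cancel₀ hc0, map_one] at this

end Groth.Agent.H5.Pop.CdJ
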