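import Mathlib
import Groth.Prelude.Def_GrMap
import Groth.Agent.H4.ComplLift
import Groth.Agent.Lib.Helper5.Pop.CdJ2
import Groth.Agent.Lib.Helper5.Pop.CdJ3
import Groth.Agent.Lib.Helper5.Pop.CdJ4
import Groth.Agent.Lib.Helper5.Pop.CdJ6
import Groth.Agent.Lib.Helper5.Pop.CdJ7

/-!
# Conrad–de Jong approximation of a complete local algebra by a finitely generated one (helper5)
-/

set_option autoImplicit false
universe u
open IsLocalRing AssocGr

namespace Groth.Agent.H5.Pop.CdJ

open MvPolynomial in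
/-- The approximation step: an ideal `(f)` of the completion with relations `g` is approximated in an
étale neighbourhood. -/
theorem exists_approx {P : Type u} [CommRing P] (hG : CAlg.IsGRing P) (n : Ideal P) [n.IsMaximal]
    {r s : ℕ} (f : Fin r → AdicCompletion n P) (g : Fin s → Fin r → AdicCompletion n P)
    (hrel : ∀ l, ∑ i, g l i * f i = 0) (M : ℕ) :
    ∃ (P' : Type u) (_ : CommRing P') (_ : Algebra P P') (_ : Algebra.Etale P P')
      (lam : P' →ₐ[P] AdicCompletion n P) (f' : Fin r → P') (g' : Fin s → Fin r → P'),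
      (∀ l, ∑ i, g' l i * f' i = 0) ∧ (∀ i, f i - lam (f' i) ∈ nh n M) ∧
      ∀ l i, g l i - lam (g' l i) ∈ nh n M := by
  classical
  let eqs : Fin s → MvPolynomial (Fin r ⊕ Fin s × Fin r) P := fun l =>
    ∑ i, X (Sum.inr (l, i)) * X (Sum.inl i)
  let vals : Fin r ⊕ Fin s × Fin r → AdicCompletion n P := Sum.elim f (fun li => g li.1 li.2)
  have hker : ∀ p ∈ Ideal.span (Set.range eqs),
      (aeval vals : MvPolynomial (Fin r ⊕ Fin s × Fin r) P →ₐ[P] _) p = 0 := by
    intro p hp
    have hle : Ideal.span (Set.range eqs) ≤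
        RingHom.ker (aeval vals : MvPolynomial (Fin r ⊕ Fin s × Fin r) P →ₐ[P]
          AdicCompletion n P).toRingHom := by
      rw [Ideal.span_le]
      rintro _ ⟨l, rfl⟩
      show aeval vals (eqs l) = 0
      simp only [eqs, map_sum, map_mul, aeval_X, vals, Sum.elim_inr, Sum.elim_inl]
      exact hrel l
    exact hle hp
  haveI : Algebra.FinitePresentation P
      (MvPolynomial (Fin r ⊕ Fin s × Fin r) P ⧸ Ideal.span (Set.range eqs)) :=
    Algebra.FinitePresentation.quotient (Submodule.fg_span (Set.finite_range eqs))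
  obtain ⟨P', _, _, hEt, h, lam, hlam⟩ := approx_etale_alg_maximal_lam hG n
    (MvPolynomial (Fin r ⊕ Fin s × Fin r) P ⧸ Ideal.span (Set.range eqs))
    (Ideal.Quotient.liftₐ (Ideal.span (Set.range eqs)) (aeval vals) hker) M
  refine ⟨P', inferInstance, inferInstance, hEt, lam,
    fun i => h (Ideal.Quotient.mk _ (X (Sum.inl i))),
    fun l i => h (Ideal.Quotient.mk _ (X (Sum.inr (l, i)))), fun l => ?_, fun i => ?_,
    fun l i => ?_⟩
  · have : (∑ i, h (Ideal.Quotient.mk (Ideal.span (Set.range eqs)) (X (Sum.inr (l, i)))) *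
        h (Ideal.Quotient.mk (Ideal.span (Set.range eqs)) (X (Sum.inl i)))) =
        h (Ideal.Quotient.mk _ (eqs l)) := by
      simp only [eqs, map_sum, map_mul]
    have h0 : Ideal.Quotient.mk (Ideal.span (Set.range eqs)) (eqs l) = 0 :=
      Ideal.Quotient.eq_zero_iff_mem.mpr (Ideal.subset_span ⟨l, rfl⟩)
    rw [this, h0, map_zero]
  · have := hlam (Ideal.Quotient.mk _ (X (Sum.inl i)))
    rw [Ideal.Quotient.liftₐ_apply, Ideal.Quotient.lift_mk] at this
    show _ ∈ Ideal.map _ _
    simpa [vals] using this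
  · have := hlam (Ideal.Quotient.mk _ (X (Sum.inr (l, i))))
    rw [Ideal.Quotient.liftₐ_apply, Ideal.Quotient.lift_mk] at this
    show _ ∈ Ideal.map _ _
    simpa [vals] using this

end Groth.Agent.H5.Pop.CdJ
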