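import Mathlib
import Groth.Prelude.Def_GrMap
import Groth.Agent.H4.ComplLift
import Groth.Agent.Lib.Helper5.Pop.CdJ8

/-!
# Conrad–de Jong approximation of a complete local algebra by a finitely generated one: the core
statement (helper5)
-/

set_option autoImplicit false
universe u
open IsLocalRing AssocGr

namespace Groth.Agent.H5.Pop.CdJ

set_option maxHeartbeats 1600000 in
theorem core (k : Type u) [Field k] (R : Type u) [CommRing R] [Algebra k R] [IsLocalRing R]
    [IsNoetherianRing R] [IsAdicComplete (maximalIdeal R) R]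
    (hres : Function.Surjective (fun c : k => IsLocalRing.residue R (algebraMap k R c)))
    (P : Type u) [CommRing P] [Algebra k P] [Algebra.FiniteType k P] (incl : P →ₐ[k] R)
    (hgen : ((maximalIdeal R).comap incl.toRingHom).map incl.toRingHom = maximalIdeal R) (N : ℕ) :
    ∃ (A : Type u) (_ : CommRing A) (_ : Algebra k A) (_ : Algebra.FiniteType k A)
      (m : Ideal A) (_ : m.IsMaximal)
      (_ : Function.Surjective (fun c : k => Ideal.Quotient.mk m (algebraMap k A c)))
      (q : P →ₐ[k] A)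
      (φ : (R ⧸ maximalIdeal R ^ (N + 1)) ≃ₐ[k] (A ⧸ m ^ (N + 1))),
      (∀ p, φ (Ideal.Quotient.mk _ (incl p)) = Ideal.Quotient.mk _ (q p)) ∧
      ∃ e : GrRing (FiltBl.IdealFiltration.adic (maximalIdeal R)) ≃+*
          GrRing (FiltBl.IdealFiltration.adic m),
        (∀ (n : ℕ) x, x ∈ gr (FiltBl.IdealFiltration.adic (maximalIdeal R)) n →
            e x ∈ gr (FiltBl.IdealFiltration.adic m) n) ∧
        (∀ (n : ℕ) y, y ∈ gr (FiltBl.IdealFiltration.adic m) n →
            e.symm y ∈ gr (FiltBl.IdealFiltration.adic (maximalIdeal R)) n) ∧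
        (∀ c : k, e (algebraMap R _ (algebraMap k R c)) = algebraMap A _ (algebraMap k A c)) := by
  classical
  obtain ⟨n, hn⟩ : ∃ n : Ideal P, n = (maximalIdeal R).comap incl.toRingHom := ⟨_, rfl⟩
  rw [← hn] at hgen
  have hmem : ∀ p, incl.toRingHom p ∈ maximalIdeal R → p ∈ n := fun p hp => by rw [hn]; exact hp
  have hconst : ∀ p : P, ∃ c : k, p - algebraMap k P c ∈ n := by
    intro p
    obtain ⟨c, hc⟩ := hres (residue R (incl p))
    refine ⟨c, hmem _ ?_⟩
    show incl (p - algebraMap k P c) ∈ maximalIdeal R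
    rw [map_sub, incl.commutes, ← Ideal.Quotient.eq]
    exact hc.symm
  have hntop : n ≠ ⊤ := by
    intro h
    have h1 : (1 : P) ∈ n := by rw [h]; trivial
    rw [hn, Ideal.mem_comap, map_one] at h1
    exact (Ideal.ne_top_iff_one _).mp (Ideal.IsMaximal.ne_top inferInstance) h1
  haveI hnmax : n.IsMaximal := isMaximal_of_field_surj n hntop hconst
  have hG : CAlg.IsGRing P := Groth.Agent.S0599.result k (Groth.Agent.H5.Pop.isGRing_of_field k) P
  haveI : IsNoetherianRing P := hG.1
  have hfg : n.FG := IsNoetherian.noetherian n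
  have hs : Function.Surjective ((Ideal.Quotient.mk (maximalIdeal R)).comp incl.toRingHom) := by
    intro z
    obtain ⟨x, rfl⟩ := Ideal.Quotient.mk_surjective z
    obtain ⟨c, hc⟩ := hres (residue R x)
    refine ⟨algebraMap k P c, ?_⟩
    show Ideal.Quotient.mk _ (incl (algebraMap k P c)) = _
    rw [incl.commutes]
    exact hc
  obtain ⟨π, hπι, hπ⟩ := Groth.Agent.H4.ComplLift.complLift_surjective n hfg (maximalIdeal R)
    incl.toRingHom hgen hs
  have hπι' : ∀ p, π (algebraMap P (AdicCompletion n P) p) = incl.toRingHom p := hπι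
  haveI : IsNoetherianRing (AdicCompletion n P) :=
    Groth.Agent.H8.Hens.isNoetherianRing_adicCompletion_of_fg P n hfg
  obtain ⟨r, f, hf⟩ := (Submodule.fg_iff_exists_fin_generating_family).mp
    (IsNoetherian.noetherian (RingHom.ker π))
  have hfK : Ideal.span (Set.range f) = RingHom.ker π := hf
  obtain ⟨s, g, c, hrel, hex, hAR⟩ := exists_data (nh n 1) f
  obtain ⟨c', hc', hNc'⟩ : ∃ c' : ℕ, c ≤ c' ∧ N ≤ c' := ⟨max c N, le_max_left _ _, le_max_right _ _⟩
  obtain ⟨h1, h3⟩ := hAR c' hc'
  obtain ⟨P', _, _, hEt, lam, f', g', hrel', hf', hg'⟩ := exists_approx hG n f g hrel (c' + 1)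
  have hcdj := cdj (nh n 1) f (fun i => lam (f' i)) g (fun l i => lam (g' l i)) c' hex h1 h3
    (by intro l; simp only [← map_mul, ← map_sum, hrel', map_zero])
    (by intro i; rw [← nh_eq_pow]; exact hf' i) (by intro l i; rw [← nh_eq_pow]; exact hg' l i)
  -- the kernel lies in the maximal ideal
  have hkerle := ker_π_le n hfg (maximalIdeal R) incl.toRingHom π hπι' hgen hmem
  have hK' : Ideal.span (Set.range f') ≤ n' n lam := by
    rw [Ideal.span_le]
    rintro _ ⟨i, rfl⟩
    show lam (f' i) ∈ nh n 1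
    have h2 : f i ∈ nh n 1 := hkerle (by rw [← hfK]; exact Ideal.subset_span ⟨i, rfl⟩)
    have := Ideal.sub_mem _ h2 (nh_anti n (Nat.le_add_left 1 c') (hf' i))
    rwa [sub_sub_cancel] at this
  -- the algebra structures
  letI : Algebra k P' := ((algebraMap P P').comp (algebraMap k P)).toAlgebra
  haveI : IsScalarTower k P P' := IsScalarTower.of_algebraMap_eq fun _ => rfl
  haveI : Algebra.FiniteType P P' := inferInstance
  haveI : Algebra.FiniteType k P' :=
    Algebra.FiniteType.trans (R := k) (S := P) (A := P') inferInstance inferInstance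
  have hft : Algebra.FiniteType k (P' ⧸ Ideal.span (Set.range f')) := inferInstance
  let q : P →ₐ[k] (P' ⧸ Ideal.span (Set.range f')) :=
    (Ideal.Quotient.mkₐ k (Ideal.span (Set.range f'))).comp (IsScalarTower.toAlgHom k P P')
  have hq : ∀ p, q p = Ideal.Quotient.mk _ (algebraMap P P' p) := fun _ => rfl
  have hmtop := mA_ne_top n lam f' hK'
  have hconstA : ∀ x : P' ⧸ Ideal.span (Set.range f'), ∃ c : k,
      x - algebraMap k _ c ∈ mA n lam f' := by
    intro x
    obtain ⟨a, ha⟩ := exists_sub_mk_mem' n hfg lam f' 1 x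
    obtain ⟨c, hc⟩ := hconst a
    refine ⟨c, ?_⟩
    rw [pow_one] at ha
    have h2 : Ideal.Quotient.mk (Ideal.span (Set.range f')) (algebraMap P P' (a - algebraMap k P c)) ∈
        mA n lam f' :=
      Ideal.mem_map_of_mem _ (map_le_n' n lam (Ideal.mem_map_of_mem _ hc))
    have := Ideal.add_mem _ ha h2
    rw [map_sub, map_sub, sub_add_sub_cancel] at this
    exact this
  have hmmax : (mA n lam f').IsMaximal := isMaximal_of_field_surj _ hmtop hconstA
  have hresA : Function.Surjective (fun c : k => Ideal.Quotient.mk (mA n lam f')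
      (algebraMap k (P' ⧸ Ideal.span (Set.range f')) c)) := by
    intro z
    obtain ⟨x, rfl⟩ := Ideal.Quotient.mk_surjective z
    obtain ⟨c, hc⟩ := hconstA x
    exact ⟨c, (Ideal.Quotient.eq.mpr hc).symm⟩
  -- translation of the kernels
  have hTR := incl_mem_pow_iff n (maximalIdeal R) incl.toRingHom π hπ hπι' hgen
  have hTA : ∀ (j : ℕ) (p : P), q p ∈ mA n lam f' ^ j ↔
      algebraMap P (AdicCompletion n P) p ∈
        Ideal.span (Set.range fun i => lam (f' i)) ⊔ nh n j := by
    intro j p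
    rw [hq, mk_mem_mA_pow_iff_lam n hfg lam f' j, lam.commutes]
  have hkerJ : ∀ (j : ℕ) (a : P), a ∈ n ^ j →
      (incl.toRingHom a ∈ maximalIdeal R ^ (j + 1) ↔ q.toRingHom a ∈ mA n lam f' ^ (j + 1)) := by
    intro j a ha
    show _ ↔ q a ∈ _
    rw [hTR, hTA, ← hfK, nh_eq_pow n (j + 1)]
    apply hcdj j
    rw [← nh_eq_pow]
    exact Ideal.mem_map_of_mem _ ha
  -- equality of the truncations
  have hsupeq : RingHom.ker π ⊔ nh n (N + 1) =
      Ideal.span (Set.range fun i => lam (f' i)) ⊔ nh n (N + 1) := by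
    have hle : nh n (c' + 1) ≤ nh n (N + 1) := nh_anti n (by omega)
    apply le_antisymm
    · refine sup_le ?_ le_sup_right
      rw [← hfK, Ideal.span_le]
      rintro _ ⟨i, rfl⟩
      have : f i = lam (f' i) + (f i - lam (f' i)) := by ring
      rw [SetLike.mem_coe, this]
      exact Submodule.add_mem_sup (Ideal.subset_span ⟨i, rfl⟩) (hle (hf' i))
    · refine sup_le ?_ le_sup_right
      rw [Ideal.span_le]
      rintro _ ⟨i, rfl⟩
      have : lam (f' i) = f i - (f i - lam (f' i)) := by ring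
      show lam (f' i) ∈ _
      rw [this]
      exact Ideal.sub_mem _ (Ideal.mem_sup_left (by rw [← hfK]; exact Ideal.subset_span ⟨i, rfl⟩))
        (Ideal.mem_sup_right (hle (hf' i)))
  -- the isomorphism of truncations
  let ρR : P →ₐ[k] R ⧸ maximalIdeal R ^ (N + 1) := (Ideal.Quotient.mkₐ k _).comp incl
  let ρA : P →ₐ[k] (P' ⧸ Ideal.span (Set.range f')) ⧸ mA n lam f' ^ (N + 1) :=
    (Ideal.Quotient.mkₐ k _).comp q
  have hρR : Function.Surjective ρR := by
    intro z
    obtain ⟨x, rfl⟩ := Ideal.Quotient.mk_surjective z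
    obtain ⟨a, ha⟩ := exists_sub_incl_mem' n hfg (maximalIdeal R) incl.toRingHom π hπ hπι' hgen
      (N + 1) x
    exact ⟨a, (Ideal.Quotient.eq.mpr ha).symm⟩
  have hρA : Function.Surjective ρA := by
    intro z
    obtain ⟨x, rfl⟩ := Ideal.Quotient.mk_surjective z
    obtain ⟨a, ha⟩ := exists_sub_mk_mem' n hfg lam f' (N + 1) x
    exact ⟨a, (Ideal.Quotient.eq.mpr ha).symm⟩
  have hkerρ : RingHom.ker ρR = RingHom.ker ρA := by
    ext p
    rw [RingHom.mem_ker, RingHom.mem_ker]
    show Ideal.Quotient.mk _ (incl p) = 0 ↔ Ideal.Quotient.mk _ (q p) = 0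
    rw [Ideal.Quotient.eq_zero_iff_mem, Ideal.Quotient.eq_zero_iff_mem]
    show incl.toRingHom p ∈ _ ↔ _
    rw [hTR, hTA, hsupeq]
  let φ : (R ⧸ maximalIdeal R ^ (N + 1)) ≃ₐ[k]
      ((P' ⧸ Ideal.span (Set.range f')) ⧸ mA n lam f' ^ (N + 1)) :=
    (Ideal.quotientKerAlgEquivOfSurjective hρR).symm.trans
      ((Ideal.quotientEquivAlgOfEq k hkerρ).trans (Ideal.quotientKerAlgEquivOfSurjective hρA))
  have hφ : ∀ p, φ (Ideal.Quotient.mk _ (incl p)) = Ideal.Quotient.mk _ (q p) := by
    intro p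
    have e1 : (Ideal.quotientKerAlgEquivOfSurjective hρR).symm (Ideal.Quotient.mk _ (incl p)) =
        Ideal.Quotient.mk _ p := by
      rw [AlgEquiv.symm_apply_eq]; rfl
    show (Ideal.quotientKerAlgEquivOfSurjective hρA) ((Ideal.quotientEquivAlgOfEq k hkerρ)
      ((Ideal.quotientKerAlgEquivOfSurjective hρR).symm (Ideal.Quotient.mk _ (incl p)))) = _
    rw [e1, Ideal.quotientEquivAlgOfEq_mk]
    rfl
  -- the graded isomorphism
  have hR : IsFiltHom incl.toRingHom (FiltBl.IdealFiltration.adic n)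
      (FiltBl.IdealFiltration.adic (maximalIdeal R)) := IsFiltHom.adic hgen.le
  have hA : IsFiltHom q.toRingHom (FiltBl.IdealFiltration.adic n)
      (FiltBl.IdealFiltration.adic (mA n lam f')) := by
    apply IsFiltHom.adic
    rw [Ideal.map_le_iff_le_comap]
    intro a ha
    show Ideal.Quotient.mk _ (algebraMap P P' a) ∈ mA n lam f'
    exact Ideal.mem_map_of_mem _ (map_le_n' n lam (Ideal.mem_map_of_mem _ ha))
  obtain ⟨e, he, he1, he2⟩ := exists_grIso hR hA
    (fun j b hb => exists_sub_incl_mem n hfg (maximalIdeal R) incl.toRingHom π hπ hπι' hgen j b hb)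
    (fun j b hb => exists_sub_mk_mem n hfg lam f' j b hb) hkerJ
  refine ⟨P' ⧸ Ideal.span (Set.range f'), inferInstance, inferInstance, hft, mA n lam f', hmmax,
    hresA, q, φ, hφ, e, he1, he2, fun c => ?_⟩
  have h5 : algebraMap k R c = incl.toRingHom (algebraMap k P c) := (incl.commutes c).symm
  rw [h5, ← map_algebraMap hR, he, map_algebraMap hA]
  congr 1

end Groth.Agent.H5.Pop.CdJ
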