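import Mathlib
import Groth.Agent.S17371
import Groth.Agent.Lib.Helper5.Pop.Alg1
import Groth.Agent.Lib.Helper5.Pop.Alg2

/-!
# Algebraization of versal formal objects (Artin, via Conrad–de Jong) (helper5)
-/

set_option autoImplicit false
universe u
open IsLocalRing AssocGr CategoryTheory CategoryTheory.Limits

namespace Groth.Agent.H5.Pop.Algz

set_option maxHeartbeats 1600000 in
theorem algz (k : Type u) [Field k] [IsAlgClosed k]
    (F : CommAlgCat.{u} k ⥤ Type u)
    (hF : ∀ (J : Type u) [SmallCategory J] [IsFiltered J], PreservesColimitsOfShape J F)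
    (R : Type u) [CommRing R] [Algebra k R] [IsLocalRing R] [IsNoetherianRing R]
    [IsAdicComplete (IsLocalRing.maximalIdeal R) R]
    (hres : Function.Surjective (fun c : k => IsLocalRing.residue R (algebraMap k R c)))
    (ξ : F.obj (CommAlgCat.of k R))
    (hvers : ∀ (B B₀ : Type u) [CommRing B] [Algebra k B] [IsLocalRing B] [IsArtinianRing B]
        [CommRing B₀] [Algebra k B₀] [IsLocalRing B₀] [IsArtinianRing B₀],
        Function.Surjective (fun c : k => IsLocalRing.residue B (algebraMap k B c)) →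
        ∀ (π : B →ₐ[k] B₀), Function.Surjective π →
          ∀ (g₀ : R →ₐ[k] B₀) (y : F.obj (CommAlgCat.of k B)),
            F.map (CommAlgCat.ofHom π) y = F.map (CommAlgCat.ofHom g₀) ξ →
              ∃ g : R →ₐ[k] B, π.comp g = g₀ ∧ F.map (CommAlgCat.ofHom g) ξ = y) :
    ∃ (A : Type u) (_ : CommRing A) (_ : Algebra k A) (_ : Algebra.FiniteType k A)
      (m : Ideal A) (_ : m.IsMaximal)
      (_ : Function.Surjective (fun c : k => Ideal.Quotient.mk m (algebraMap k A c)))
      (η : F.obj (CommAlgCat.of k A))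
      (α : R ≃+* AdicCompletion m A),
      (∀ c : k, α (algebraMap k R c) = algebraMap A (AdicCompletion m A) (algebraMap k A c)) ∧
      ∀ (n : ℕ) (ψ : R →ₐ[k] A ⧸ m ^ (n + 1)),
        ψ.toRingHom = (AdicCompletion.evalₐ m (n + 1) :
            AdicCompletion m A →ₐ[A] A ⧸ m ^ (n + 1)).toRingHom.comp α.toRingHom →
          F.map (CommAlgCat.ofHom ψ) ξ = F.map (CommAlgCat.ofHom (Ideal.Quotient.mkₐ k (m ^ (n + 1)))) η := by
  classical
  obtain ⟨A, _, _, hft, m, hmax, hresA, η, φ, hφ, e, -, -⟩ :=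
    Groth.Agent.S17371.result k F hF R hres ξ 1
  haveI := hmax
  haveI : IsNoetherianRing A := Algebra.FiniteType.isNoetherianRing k A
  -- the compatible family
  obtain ⟨G, hG0, hGP, hGR⟩ := exists_dep_chain (X := fun j => R →ₐ[k] A ⧸ m ^ (j + 2))
    (fun j g => F.map (CommAlgCat.ofHom g) ξ =
      F.map (CommAlgCat.ofHom (Ideal.Quotient.mkₐ k (m ^ (j + 2)))) η)
    (fun j g g' => (Ideal.Quotient.factorₐ k
      (Ideal.pow_le_pow_right (Nat.le_succ (j + 2)))).comp g' = g)
    (φ.toAlgHom.comp (Ideal.Quotient.mkₐ k (maximalIdeal R ^ (1 + 1)))) hφ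
    (fun j g hg => by
      haveI : IsLocalRing (A ⧸ m ^ (j + 2)) := isLocalRing_quot_pow m (j + 2) (by omega)
      haveI : IsArtinianRing (A ⧸ m ^ (j + 2)) := isArtinianRing_quot_pow m (j + 2) (by omega)
      haveI : IsLocalRing (A ⧸ m ^ (j + 1 + 2)) := isLocalRing_quot_pow m (j + 1 + 2) (by omega)
      haveI : IsArtinianRing (A ⧸ m ^ (j + 1 + 2)) :=
        isArtinianRing_quot_pow m (j + 1 + 2) (by omega)
      obtain ⟨g', hg'1, hg'2⟩ := hvers (A ⧸ m ^ (j + 1 + 2)) (A ⧸ m ^ (j + 2))
        (residue_surjective_quot_pow m hresA (j + 1 + 2) (by omega))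
        (Ideal.Quotient.factorₐ k (Ideal.pow_le_pow_right (Nat.le_succ (j + 2))))
        (Ideal.Quotient.factor_surjective (Ideal.pow_le_pow_right (Nat.le_succ (j + 2)))) g
        (F.map (CommAlgCat.ofHom (Ideal.Quotient.mkₐ k (m ^ (j + 1 + 2)))) η)
        (by
          rw [← Functor.map_comp_apply, ← CommAlgCat.ofHom_comp, Ideal.Quotient.factorₐ_comp_mk]
          exact hg.symm)
      exact ⟨g', hg'2, hg'1⟩)
  -- representatives
  have hrep : ∀ (x : R) (i j : ℕ), i ≤ j → ∀ y : A, G j x = Ideal.Quotient.mk _ y →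
      G i x = Ideal.Quotient.mk _ y := by
    intro x i j hij
    induction j, hij using Nat.le_induction with
    | base => exact fun y hy => hy
    | succ j hij ih =>
      intro y hy
      apply ih
      rw [← hGR j, AlgHom.comp_apply, hy]
      rfl
  let f : ∀ n : ℕ, R →ₐ[k] A ⧸ m ^ n := fun n =>
    (Ideal.Quotient.factorₐ k (Ideal.pow_le_pow_right (Nat.le_add_right n 2))).comp (G n)
  have hfmk : ∀ (n : ℕ) (x : R) (y : A), G n x = Ideal.Quotient.mk _ y →
      f n x = Ideal.Quotient.mk _ y := by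
    intro n x y hy
    show Ideal.Quotient.factorₐ k (Ideal.pow_le_pow_right (Nat.le_add_right n 2)) (G n x) = _
    rw [hy]; rfl
  have hf : ∀ {a b : ℕ} (hle : a ≤ b),
      (Ideal.Quotient.factorₐ k (Ideal.pow_le_pow_right hle)).comp (f b) = f a := by
    intro a b hle
    ext x
    obtain ⟨y, hy⟩ := Ideal.Quotient.mk_surjective (G b x)
    rw [AlgHom.comp_apply, hfmk b x y hy.symm, hfmk a x y (hrep x a b hle y hy.symm)]
    rfl
  let αh : R →ₐ[k] AdicCompletion m A := AdicCompletion.liftAlgHom m f hf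
  have hαh : ∀ n x, AdicCompletion.evalₐ m n (αh x) = f n x :=
    fun n x => AdicCompletion.evalₐ_liftAlgHom m f hf n x
  -- locality
  have h1 : ∀ x ∈ maximalIdeal R, AdicCompletion.evalₐ m 1 (αh.toRingHom x) = 0 := by
    intro x hx
    show AdicCompletion.evalₐ m 1 (αh x) = 0
    rw [hαh]
    obtain ⟨y, hy⟩ := Ideal.Quotient.mk_surjective (f 1 x)
    obtain ⟨c, hc⟩ := hresA (Ideal.Quotient.mk m y)
    have hyc : f 1 x = algebraMap k (A ⧸ m ^ 1) c := by
      rw [← hy]
      show _ = Ideal.Quotient.mk (m ^ 1) (algebraMap k A c)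
      rw [Ideal.Quotient.eq, pow_one]
      have := Ideal.Quotient.eq.mp hc
      rw [← neg_sub, neg_mem_iff]
      exact this
    by_cases hc0 : c = 0
    · rw [hyc, hc0, map_zero]
    · exfalso
      have hu : IsUnit (x - algebraMap k R c) := by
        by_contra h
        have h3 : x - algebraMap k R c ∈ maximalIdeal R := (IsLocalRing.mem_maximalIdeal _).mpr h
        have h4 : algebraMap k R c ∈ maximalIdeal R := by
          have := Ideal.sub_mem _ hx h3
          rwa [sub_sub_cancel] at this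
        exact (IsLocalRing.mem_maximalIdeal _).mp h4 ((IsUnit.mk0 c hc0).map (algebraMap k R))
      have h5 : f 1 (x - algebraMap k R c) = 0 := by
        rw [map_sub, (f 1).commutes, hyc, sub_self]
      have h6 := hu.map (f 1)
      rw [h5] at h6
      haveI : Nontrivial (A ⧸ m ^ 1) := by
        rw [pow_one]
        exact Ideal.Quotient.nontrivial_iff.mpr (Ideal.IsMaximal.ne_top inferInstance)
      exact not_isUnit_zero h6
  -- surjectivity modulo the square
  have hG0s : Function.Surjective (G 0) := by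
    rw [hG0]
    exact φ.surjective.comp (Ideal.Quotient.mkₐ_surjective k _)
  have h2 : ∀ b : AdicCompletion m A, ∃ a : R,
      AdicCompletion.evalₐ m 2 (αh.toRingHom a) = AdicCompletion.evalₐ m 2 b := by
    intro b
    obtain ⟨y, hy⟩ := Ideal.Quotient.mk_surjective (AdicCompletion.evalₐ m 2 b)
    obtain ⟨a, ha⟩ := hG0s (Ideal.Quotient.mk _ y)
    refine ⟨a, ?_⟩
    show AdicCompletion.evalₐ m 2 (αh a) = _
    rw [hαh, ← hy]
    obtain ⟨y', hy'⟩ := Ideal.Quotient.mk_surjective (G 2 a)
    rw [hfmk 2 a y' hy'.symm]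
    have h3 := hrep a 0 2 (by omega) y' hy'.symm
    rw [ha] at h3
    exact (Ideal.Quotient.eq.mpr (Ideal.Quotient.eq.mp h3)).symm
  have hbij := bijective_of_gr m αh.toRingHom h1 h2 e
  refine ⟨A, inferInstance, inferInstance, hft, m, hmax, hresA, η,
    RingEquiv.ofBijective αh.toRingHom hbij, fun c => ?_, fun n ψ hψ => ?_⟩
  · show αh (algebraMap k R c) = _
    rw [αh.commutes]
    rfl
  · have hψf : ψ = f (n + 1) := by
      ext x
      have := RingHom.congr_fun hψ x
      rw [← hαh]
      exact this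
    rw [hψf]
    show F.map (CommAlgCat.ofHom ((Ideal.Quotient.factorₐ k _).comp (G (n + 1)))) ξ = _
    rw [CommAlgCat.ofHom_comp, Functor.map_comp_apply, hGP (n + 1), ← Functor.map_comp_apply,
      ← CommAlgCat.ofHom_comp, Ideal.Quotient.factorₐ_comp_mk]

end Groth.Agent.H5.Pop.Algz
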