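import Mathlib
import Groth.Prelude.Def_Found
import Groth.Prelude.Def_Hensel
import Groth.Agent.Lib.Helper5.Pop.EtApprox5
import Groth.Agent.S0734

/-!
# Approximating a map into the completion by a map to an étale neighbourhood: algebra (helper5)
-/

set_option autoImplicit false
universe u
open IsLocalRing TensorProduct

namespace Groth.Agent.H5.Pop

open Groth.Agent.H4.IndEtCrit Groth.Agent.H8.Hens

/-- The henselization of a localization `Rl` of `R` at a prime is ind-étale over `R`. -/
theorem crit_henselization_of_isLocalization (R : Type u) [CommRing R] (p : Ideal R) [p.IsPrime]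
    (Rl : Type u) [CommRing Rl] [IsLocalRing Rl] [Algebra R Rl] [IsLocalization.AtPrime Rl p]
    (Rh : Type u) [CommRing Rh] [IsLocalRing Rh]
    [Algebra Rl Rh] [IsLocalHom (algebraMap Rl Rh)]
    [Hensel.IsHenselization Rl Rh] [Algebra R Rh]
    [IsScalarTower R Rl Rh] : Crit R Rh := by
  have h0 : Crit R Rl := Groth.Agent.H4.IndEtTrans.Crit.of_algEquiv (crit_localization_atPrime R p)
    (IsLocalization.algEquiv p.primeCompl (Localization.AtPrime p) Rl)
  have h1 : Crit Rl (Henselization Rl) := crit_H
  have h2 := Groth.Agent.H4.IndEtTrans.Crit.of_algEquiv h1 (algEquiv (R := Rl) Rh)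
  exact crit_of_isIndEtale (Groth.Agent.S0734.result R Rl Rh
    (isIndEtale_of_crit h0) (isIndEtale_of_crit h2))

/-- elements of `𝔪 R̂` are not units. -/
theorem not_isUnit_of_mem_map_maximalIdeal {R : Type u} [CommRing R] [IsLocalRing R]
    (z : AdicCompletion (maximalIdeal R) R)
    (hz : z ∈ (maximalIdeal R).map (algebraMap R (AdicCompletion (maximalIdeal R) R))) :
    ¬ IsUnit z := by
  intro hu
  have hle : (maximalIdeal R).map (algebraMap R (AdicCompletion (maximalIdeal R) R)) ≤
      RingHom.ker (AdicCompletion.evalₐ (maximalIdeal R) 1).toRingHom := by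
    rw [Ideal.map_le_iff_le_comap]
    intro r hr
    rw [Ideal.mem_comap, RingHom.mem_ker]
    show AdicCompletion.evalₐ (maximalIdeal R) 1 (algebraMap R _ r) = 0
    rw [AlgHom.commutes]
    show Ideal.Quotient.mk _ r = 0
    rw [Ideal.Quotient.eq_zero_iff_mem, pow_one]
    exact hr
  have h0 : AdicCompletion.evalₐ (maximalIdeal R) 1 z = 0 := hle hz
  have h1 : IsUnit (AdicCompletion.evalₐ (maximalIdeal R) 1 z) := hu.map _
  rw [h0] at h1
  haveI : Nontrivial (R ⧸ maximalIdeal R ^ 1) := by
    rw [pow_one]
    exact Ideal.Quotient.nontrivial_iff.mpr (IsLocalRing.maximalIdeal.isMaximal R).ne_top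
  exact not_isUnit_zero h1

end Groth.Agent.H5.Pop
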