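import Mathlib
import Groth.Agent.Lib.Helper5.Pop.EtPair

set_option autoImplicit false
universe u
open IsLocalRing

namespace Groth.Agent.H5.Pop

/-- `evalₐ N` kills `𝔪^N R̂`. -/
theorem evalₐ_eq_zero_of_mem_map_pow {R : Type u} [CommRing R] (I : Ideal R) (N : ℕ)
    (z : AdicCompletion I R) (hz : z ∈ (I ^ N).map (algebraMap R (AdicCompletion I R))) :
    AdicCompletion.evalₐ I N z = 0 := by
  have hle : (I ^ N).map (algebraMap R (AdicCompletion I R)) ≤
      RingHom.ker (AdicCompletion.evalₐ I N).toRingHom := by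
    rw [Ideal.map_le_iff_le_comap]
    intro r hr
    rw [Ideal.mem_comap, RingHom.mem_ker]
    show AdicCompletion.evalₐ I N (algebraMap R _ r) = 0
    rw [AlgHom.commutes]
    show Ideal.Quotient.mk _ r = 0
    rw [Ideal.Quotient.eq_zero_iff_mem]
    exact hr
  exact hle hz

section RL

variable {OX OU OY : Type u} [CommRing OX] [CommRing OU] [CommRing OY] [IsLocalRing OX]
  [IsLocalRing OU]

/-- if `E` is unramified with trivial residue field extension, `OX → OU/𝔪^k` is surjective. -/
theorem exists_sub_mem_pow_of_residue (E : OX →+* OU)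
    (hE : (maximalIdeal OX).map E = maximalIdeal OU)
    (hres : ∀ z : OU, ∃ w : OX, z - E w ∈ maximalIdeal OU) (k : ℕ) (z : OU) :
    ∃ w : OX, z - E w ∈ maximalIdeal OU ^ k := by
  induction k generalizing z with
  | zero => exact ⟨0, by rw [pow_zero, Ideal.one_eq_top]; exact Submodule.mem_top⟩
  | succ k ih =>
    obtain ⟨w, hw⟩ := ih z
    have hpow : maximalIdeal OU ^ k = Ideal.span (E '' ((maximalIdeal OX ^ k : Ideal OX) : Set OX)) := by
      rw [← hE, ← Ideal.map_pow]; rfl
    have key : ∀ y ∈ Ideal.span (E '' ((maximalIdeal OX ^ k : Ideal OX) : Set OX)),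
        ∃ v : OX, y - E v ∈ maximalIdeal OU ^ (k + 1) := by
      intro y hy
      induction hy using Submodule.span_induction with
      | mem y hy =>
        obtain ⟨t, -, rfl⟩ := hy
        exact ⟨t, by rw [sub_self]; exact zero_mem _⟩
      | zero => exact ⟨0, by rw [map_zero, sub_self]; exact zero_mem _⟩
      | add x y _ _ hx hy =>
        obtain ⟨v1, h1⟩ := hx
        obtain ⟨v2, h2⟩ := hy
        refine ⟨v1 + v2, ?_⟩
        have : x + y - E (v1 + v2) = (x - E v1) + (y - E v2) := by rw [map_add]; ring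
        rw [this]
        exact Ideal.add_mem _ h1 h2
      | smul a x hx hx' =>
        obtain ⟨v, hv⟩ := hx'
        obtain ⟨wa, hwa⟩ := hres a
        refine ⟨wa * v, ?_⟩
        have : a • x - E (wa * v) = E wa * (x - E v) + (a - E wa) * x := by
          rw [map_mul, smul_eq_mul]; ring
        rw [this]
        refine Ideal.add_mem _ (Ideal.mul_mem_left _ _ hv) ?_
        rw [pow_succ']
        have hx2 : x ∈ maximalIdeal OU ^ k := by rw [hpow]; exact hx
        exact Ideal.mul_mem_mul hwa hx2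
    rw [hpow] at hw
    obtain ⟨v, hv⟩ := key _ hw
    refine ⟨w + v, ?_⟩
    have : z - E (w + v) = (z - E w) - E v := by rw [map_add]; ring
    rw [this]
    exact hv

/-- **Comparison modulo `𝔪^N`**: the abstract form of the final condition of Artin's corollary. -/
theorem quot_eq_of_approx (E : OX →+* OU)
    (hE : (maximalIdeal OX).map E = maximalIdeal OU)
    (hres : ∀ z : OU, ∃ w : OX, z - E w ∈ maximalIdeal OU)
    (Ψ : OU →+* AdicCompletion (maximalIdeal OX) OX)
    (hΨE : ∀ w, Ψ (E w) = algebraMap OX (AdicCompletion (maximalIdeal OX) OX) w)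
    (Fm : OY →+* OU) (φ : OY →+* AdicCompletion (maximalIdeal OX) OX) (N : ℕ)
    (happ : ∀ b, Ψ (Fm b) - φ b ∈ (maximalIdeal OX ^ N).map
      (algebraMap OX (AdicCompletion (maximalIdeal OX) OX)))
    (b : OY) (c : OX)
    (hbc : AdicCompletion.evalₐ (maximalIdeal OX) N (φ b) =
      Ideal.Quotient.mk (maximalIdeal OX ^ N) c) :
    Ideal.Quotient.mk (maximalIdeal OU ^ N) (Fm b) =
      Ideal.Quotient.mk (maximalIdeal OU ^ N) (E c) := by
  rw [Ideal.Quotient.eq]
  -- `Ψ` maps `𝔪_U^N` into `𝔪^N Ô`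
  have hcomp : Ψ.comp E = algebraMap OX (AdicCompletion (maximalIdeal OX) OX) :=
    RingHom.ext hΨE
  have hpowU : maximalIdeal OU ^ N = (maximalIdeal OX ^ N).map E := by
    rw [Ideal.map_pow, hE]
  have hB : ∀ z ∈ maximalIdeal OU ^ N, AdicCompletion.evalₐ (maximalIdeal OX) N (Ψ z) = 0 := by
    intro z hz
    apply evalₐ_eq_zero_of_mem_map_pow
    rw [hpowU] at hz
    have := Ideal.mem_map_of_mem Ψ hz
    rwa [Ideal.map_map, hcomp] at this
  have hev : ∀ w : OX, AdicCompletion.evalₐ (maximalIdeal OX) N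
      (algebraMap OX (AdicCompletion (maximalIdeal OX) OX) w) =
      Ideal.Quotient.mk (maximalIdeal OX ^ N) w := fun w => by
    rw [AlgHom.commutes]; rfl
  have h0 : AdicCompletion.evalₐ (maximalIdeal OX) N (Ψ (Fm b - E c)) = 0 := by
    have e1 := evalₐ_eq_zero_of_mem_map_pow _ N _ (happ b)
    rw [map_sub, sub_eq_zero] at e1
    rw [map_sub, map_sub, e1, hbc, hΨE, hev, sub_self]
  obtain ⟨w, hw⟩ := exists_sub_mem_pow_of_residue E hE hres N (Fm b - E c)
  have h1 := hB _ hw
  rw [map_sub, map_sub, h0, zero_sub, neg_eq_zero, hΨE, hev, Ideal.Quotient.eq_zero_iff_mem] at h1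
  have h2 : E w ∈ maximalIdeal OU ^ N := by
    rw [hpowU]; exact Ideal.mem_map_of_mem E h1
  have : Fm b - E c = (Fm b - E c - E w) + E w := by ring
  rw [this]
  exact Ideal.add_mem _ hw h2

end RL

end Groth.Agent.H5.Pop
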