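import Mathlib
import Groth.Agent.Lib.Helper5.Pop.EtPair3

set_option autoImplicit false
universe u
open IsLocalRing

namespace Groth.Agent.H5.Pop

/-- From the étale-neighbourhood data on rings to the comparison on local rings. -/
theorem stalk_approx {C B R' : Type u} [CommRing C] [CommRing B] [CommRing R'] [Algebra C R']
    (𝔭 : Ideal C) [𝔭.IsPrime] (OX : Type u) [CommRing OX] [IsLocalRing OX] [Algebra C OX]
    [IsLocalization.AtPrime OX 𝔭]
    (𝔮 : Ideal B) [𝔮.IsPrime] (OY : Type u) [CommRing OY] [IsLocalRing OY] [Algebra B OY]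
    [IsLocalization.AtPrime OY 𝔮]
    (𝔭' : Ideal R') [𝔭'.IsPrime] (OU : Type u) [CommRing OU] [IsLocalRing OU] [Algebra R' OU]
    [IsLocalization.AtPrime OU 𝔭']
    (h𝔭 : 𝔭'.comap (algebraMap C R') = 𝔭)
    (hresR : ∀ x : R', ∃ c s : C, s ∉ 𝔭 ∧ algebraMap C R' s * x - algebraMap C R' c ∈ 𝔭')
    (hB : B →+* R')
    (ψ : R' →+* AdicCompletion (maximalIdeal OX) OX)
    (φ : OY →+* AdicCompletion (maximalIdeal OX) OX)
    (hψC : ∀ c : C, ψ (algebraMap C R' c) =
      algebraMap OX (AdicCompletion (maximalIdeal OX) OX) (algebraMap C OX c))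
    (hunit : ∀ x, x ∉ 𝔭' → IsUnit (ψ x))
    (N : ℕ)
    (happ : ∀ β : B, ψ (hB β) - φ (algebraMap B OY β) ∈ (maximalIdeal OX ^ N).map
      (algebraMap OX (AdicCompletion (maximalIdeal OX) OX)))
    (E : OX →+* OU) (hE1 : ∀ c : C, E (algebraMap C OX c) = algebraMap R' OU (algebraMap C R' c))
    (hE : (maximalIdeal OX).map E = maximalIdeal OU)
    (Fm : OY →+* OU) (hF1 : ∀ β : B, Fm (algebraMap B OY β) = algebraMap R' OU (hB β)) :
    (∀ z : OU, ∃ w : OX, z - E w ∈ maximalIdeal OU) ∧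
    ∀ (b : OY) (c : OX), AdicCompletion.evalₐ (maximalIdeal OX) N (φ b) =
        Ideal.Quotient.mk (maximalIdeal OX ^ N) c →
      Ideal.Quotient.mk (maximalIdeal OU ^ N) (Fm b) =
        Ideal.Quotient.mk (maximalIdeal OU ^ N) (E c) := by
  have hmemU : ∀ x : R', algebraMap R' OU x ∈ maximalIdeal OU ↔ x ∈ 𝔭' :=
    fun x => IsLocalization.AtPrime.to_map_mem_maximal_iff OU 𝔭' x
  have hres : ∀ z : OU, ∃ w : OX, z - E w ∈ maximalIdeal OU := by
    intro z
    obtain ⟨⟨x, t⟩, hxt⟩ := IsLocalization.surj 𝔭'.primeCompl z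
    simp only at hxt
    obtain ⟨c₁, s₁, hs₁, h1⟩ := hresR x
    obtain ⟨c₂, s₂, hs₂, h2⟩ := hresR (t : R')
    have hs₂' : algebraMap C R' s₂ ∉ 𝔭' := by
      intro h
      apply hs₂
      rw [← h𝔭]; exact h
    have hc₂' : algebraMap C R' c₂ ∉ 𝔭' := by
      intro h
      have : algebraMap C R' s₂ * (t : R') ∈ 𝔭' := by
        have e : algebraMap C R' s₂ * (t : R') =
            (algebraMap C R' s₂ * (t : R') - algebraMap C R' c₂) + algebraMap C R' c₂ := by ring
        rw [e]; exact Ideal.add_mem _ h2 h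
      rcases (‹𝔭'.IsPrime›).mem_or_mem this with h' | h'
      · exact hs₂' h'
      · exact t.2 h'
    have hc₂ : c₂ ∉ 𝔭 := by
      intro h
      apply hc₂'
      have : c₂ ∈ 𝔭'.comap (algebraMap C R') := by rw [h𝔭]; exact h
      exact this
    have hs₁c₂ : s₁ * c₂ ∈ 𝔭.primeCompl := 𝔭.primeCompl.mul_mem hs₁ hc₂
    refine ⟨IsLocalization.mk' OX (c₁ * s₂) (⟨s₁ * c₂, hs₁c₂⟩ : 𝔭.primeCompl), ?_⟩
    set w := IsLocalization.mk' OX (c₁ * s₂) (⟨s₁ * c₂, hs₁c₂⟩ : 𝔭.primeCompl) with hw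
    have hwspec : w * algebraMap C OX (s₁ * c₂) = algebraMap C OX (c₁ * s₂) :=
      IsLocalization.mk'_spec OX _ _
    have hEw : E w * algebraMap R' OU (algebraMap C R' (s₁ * c₂)) =
        algebraMap R' OU (algebraMap C R' (c₁ * s₂)) := by
      rw [← hE1, ← hE1, ← map_mul, hwspec]
    -- the unit
    have hu1 : IsUnit (algebraMap R' OU (t : R')) := IsLocalization.map_units OU t
    have hs₁' : algebraMap C R' s₁ ∉ 𝔭' := by
      intro h
      apply hs₁
      rw [← h𝔭]; exact h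
    have hu2 : IsUnit (algebraMap R' OU (algebraMap C R' (s₁ * c₂))) := by
      apply IsLocalization.map_units OU (⟨algebraMap C R' (s₁ * c₂), ?_⟩ : 𝔭'.primeCompl)
      rw [map_mul]
      exact 𝔭'.primeCompl.mul_mem hs₁' hc₂'
    rw [← Ideal.mul_unit_mem_iff_mem _ (hu1.mul hu2)]
    have e : (z - E w) * (algebraMap R' OU (t : R') * algebraMap R' OU (algebraMap C R' (s₁ * c₂)))
        = algebraMap R' OU
          ((algebraMap C R' s₁ * x - algebraMap C R' c₁) * algebraMap C R' c₂ -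
            (algebraMap C R' s₂ * (t : R') - algebraMap C R' c₂) * algebraMap C R' c₁) := by
      have e1 : (z - E w) * (algebraMap R' OU (t : R') *
          algebraMap R' OU (algebraMap C R' (s₁ * c₂))) =
          (z * algebraMap R' OU (t : R')) * algebraMap R' OU (algebraMap C R' (s₁ * c₂)) -
          (E w * algebraMap R' OU (algebraMap C R' (s₁ * c₂))) * algebraMap R' OU (t : R') := by
        ring
      rw [e1, hxt, hEw, ← map_mul, ← map_mul, ← map_sub]
      congr 1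
      simp only [map_mul]
      ring
    rw [e, hmemU]
    exact Ideal.sub_mem _ (Ideal.mul_mem_right _ _ h1) (Ideal.mul_mem_right _ _ h2)
  refine ⟨hres, ?_⟩
  -- the map `Ψ`
  let Ψ : OU →+* AdicCompletion (maximalIdeal OX) OX :=
    IsLocalization.lift (M := 𝔭'.primeCompl) (g := ψ) (fun y => hunit y y.2)
  have hΨ : ∀ x, Ψ (algebraMap R' OU x) = ψ x := fun x => IsLocalization.lift_eq _ x
  have hΨE : ∀ w, Ψ (E w) = algebraMap OX (AdicCompletion (maximalIdeal OX) OX) w := by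
    have : (Ψ.comp E) = algebraMap OX (AdicCompletion (maximalIdeal OX) OX) := by
      apply IsLocalization.ringHom_ext 𝔭.primeCompl
      refine RingHom.ext fun c => ?_
      show Ψ (E (algebraMap C OX c)) = _
      rw [hE1, hΨ, hψC]
      rfl
    intro w
    exact congrArg (fun g => g w) this
  have happ' : ∀ b, Ψ (Fm b) - φ b ∈ (maximalIdeal OX ^ N).map
      (algebraMap OX (AdicCompletion (maximalIdeal OX) OX)) := by
    intro b
    obtain ⟨⟨β, σ⟩, hβσ⟩ := IsLocalization.surj 𝔮.primeCompl b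
    simp only at hβσ
    have hu : IsUnit (φ (algebraMap B OY (σ : B))) := (IsLocalization.map_units OY σ).map φ
    rw [← Ideal.mul_unit_mem_iff_mem _ hu]
    have e1 : Ψ (Fm b) * ψ (hB (σ : B)) = ψ (hB β) := by
      rw [← hΨ, ← hF1, ← map_mul, ← map_mul, hβσ, hF1, hΨ]
    have e2 : φ b * φ (algebraMap B OY (σ : B)) = φ (algebraMap B OY β) := by
      rw [← map_mul, hβσ]
    have e3 : (Ψ (Fm b) - φ b) * φ (algebraMap B OY (σ : B)) =
        (ψ (hB β) - φ (algebraMap B OY β)) -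
          Ψ (Fm b) * (ψ (hB (σ : B)) - φ (algebraMap B OY (σ : B))) := by
      rw [← e1, ← e2]; ring
    rw [e3]
    exact Ideal.sub_mem _ (happ β) (Ideal.mul_mem_left _ _ (happ _))
  intro b c hbc
  exact quot_eq_of_approx E hE hres Ψ hΨE Fm φ N happ' b c hbc

end Groth.Agent.H5.Pop
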