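import Mathlib
import Groth.Agent.Lib.Helper5.Pop.EtPair4

set_option autoImplicit false
universe u
open IsLocalRing

namespace Groth.Agent.H5.Pop

section RL

variable {OX OU : Type u} [CommRing OX] [CommRing OU] [IsLocalRing OX] [IsLocalRing OU]

theorem evalₐ_Psi_eq_zero_of_mem_pow (E : OX →+* OU)
    (hE : (maximalIdeal OX).map E = maximalIdeal OU)
    (Ψ : OU →+* AdicCompletion (maximalIdeal OX) OX)
    (hΨE : ∀ w, Ψ (E w) = algebraMap OX (AdicCompletion (maximalIdeal OX) OX) w) (N : ℕ)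
    (z : OU) (hz : z ∈ maximalIdeal OU ^ N) :
    AdicCompletion.evalₐ (maximalIdeal OX) N (Ψ z) = 0 := by
  have hcomp : Ψ.comp E = algebraMap OX (AdicCompletion (maximalIdeal OX) OX) :=
    RingHom.ext hΨE
  have hpowU : maximalIdeal OU ^ N = (maximalIdeal OX ^ N).map E := by
    rw [Ideal.map_pow, hE]
  apply evalₐ_eq_zero_of_mem_map_pow
  rw [hpowU] at hz
  have := Ideal.mem_map_of_mem Ψ hz
  rwa [Ideal.map_map, hcomp] at this

theorem mem_pow_of_evalₐ_Psi_eq_zero (E : OX →+* OU)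
    (hE : (maximalIdeal OX).map E = maximalIdeal OU)
    (hres : ∀ z : OU, ∃ w : OX, z - E w ∈ maximalIdeal OU)
    (Ψ : OU →+* AdicCompletion (maximalIdeal OX) OX)
    (hΨE : ∀ w, Ψ (E w) = algebraMap OX (AdicCompletion (maximalIdeal OX) OX) w) (N : ℕ)
    (z : OU) (hz : AdicCompletion.evalₐ (maximalIdeal OX) N (Ψ z) = 0) :
    z ∈ maximalIdeal OU ^ N := by
  have hpowU : maximalIdeal OU ^ N = (maximalIdeal OX ^ N).map E := by
    rw [Ideal.map_pow, hE]
  have hev : ∀ w : OX, AdicCompletion.evalₐ (maximalIdeal OX) N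
      (algebraMap OX (AdicCompletion (maximalIdeal OX) OX) w) =
      Ideal.Quotient.mk (maximalIdeal OX ^ N) w := fun w => by
    rw [AlgHom.commutes]; rfl
  obtain ⟨w, hw⟩ := exists_sub_mem_pow_of_residue E hE hres N z
  have h1 := evalₐ_Psi_eq_zero_of_mem_pow E hE Ψ hΨE N _ hw
  rw [map_sub, map_sub, hz, zero_sub, neg_eq_zero, hΨE, hev, Ideal.Quotient.eq_zero_iff_mem] at h1
  have h2 : E w ∈ maximalIdeal OU ^ N := by
    rw [hpowU]; exact Ideal.mem_map_of_mem E h1
  have : z = (z - E w) + E w := by ring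
  rw [this]
  exact Ideal.add_mem _ hw h2

end RL

/-- From the étale-neighbourhood data on rings to data on local rings, exposing `Ψ`. -/
theorem stalk_data {C B R' : Type u} [CommRing C] [CommRing B] [CommRing R'] [Algebra C R']
    (𝔭 : Ideal C) [𝔭.IsPrime] (OX : Type u) [CommRing OX] [IsLocalRing OX] [Algebra C OX]
    [IsLocalization.AtPrime OX 𝔭]
    (𝔮 : Ideal B) [𝔮.IsPrime] (OY : Type u) [CommRing OY] [IsLocalRing OY] [Algebra B OY]
    [IsLocalization.AtPrime OY 𝔮]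
    (𝔭' : Ideal R') [𝔭'.IsPrime] (OU : Type u) [CommRing OU] [IsLocalRing OU] [Algebra R' OU]
    [IsLocalization.AtPrime OU 𝔭']
    (hB : B →+* R')
    (ψ : R' →+* AdicCompletion (maximalIdeal OX) OX)
    (φ : OY →+* AdicCompletion (maximalIdeal OX) OX)
    (hψC : ∀ c : C, ψ (algebraMap C R' c) =
      algebraMap OX (AdicCompletion (maximalIdeal OX) OX) (algebraMap C OX c))
    (hunit : ∀ x, x ∉ 𝔭' → IsUnit (ψ x))
    (N : ℕ)
    (happ : ∀ β : B, ψ (hB β) - φ (algebraMap B OY β) ∈ (maximalIdeal OX ^ N).map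
      (algebraMap OX (AdicCompletion (maximalIdeal OX) OX)))
    (E : OX →+* OU) (hE1 : ∀ c : C, E (algebraMap C OX c) = algebraMap R' OU (algebraMap C R' c))
    (Fm : OY →+* OU) (hF1 : ∀ β : B, Fm (algebraMap B OY β) = algebraMap R' OU (hB β)) :
    ∃ Ψ : OU →+* AdicCompletion (maximalIdeal OX) OX,
      (∀ x, Ψ (algebraMap R' OU x) = ψ x) ∧
      (∀ w, Ψ (E w) = algebraMap OX (AdicCompletion (maximalIdeal OX) OX) w) ∧
      ∀ b, Ψ (Fm b) - φ b ∈ (maximalIdeal OX ^ N).map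
        (algebraMap OX (AdicCompletion (maximalIdeal OX) OX)) := by
  let Ψ : OU →+* AdicCompletion (maximalIdeal OX) OX :=
    IsLocalization.lift (M := 𝔭'.primeCompl) (g := ψ) (fun y => hunit y y.2)
  have hΨ : ∀ x, Ψ (algebraMap R' OU x) = ψ x := fun x => IsLocalization.lift_eq _ x
  have hΨE : ∀ w, Ψ (E w) = algebraMap OX (AdicCompletion (maximalIdeal OX) OX) w := by
    have : (Ψ.comp E) = algebraMap OX (AdicCompletion (maximalIdeal OX) OX) := by
      apply IsLocalization.ringHom_ext 𝔭.primeCompl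
      refine RingHom.ext fun c => ?_
      show Ψ (E (algebraMap C OX c)) = _
      rw [hE1, hΨ, hψC]
      rfl
    intro w
    exact congrArg (fun g => g w) this
  refine ⟨Ψ, hΨ, hΨE, ?_⟩
  intro b
  obtain ⟨⟨β, σ⟩, hβσ⟩ := IsLocalization.surj 𝔮.primeCompl b
  simp only at hβσ
  have hu : IsUnit (φ (algebraMap B OY (σ : B))) := (IsLocalization.map_units OY σ).map φ
  rw [← Ideal.mul_unit_mem_iff_mem _ hu]
  have e1 : Ψ (Fm b) * ψ (hB (σ : B)) = ψ (hB β) := by
    rw [← hΨ, ← hF1, ← map_mul, ← map_mul, hβσ, hF1, hΨ]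
  have e2 : φ b * φ (algebraMap B OY (σ : B)) = φ (algebraMap B OY β) := by
    rw [← map_mul, hβσ]
  have e3 : (Ψ (Fm b) - φ b) * φ (algebraMap B OY (σ : B)) =
      (ψ (hB β) - φ (algebraMap B OY β)) -
        Ψ (Fm b) * (ψ (hB (σ : B)) - φ (algebraMap B OY (σ : B))) := by
    rw [← e1, ← e2]; ring
  rw [e3]
  exact Ideal.sub_mem _ (happ β) (Ideal.mul_mem_left _ _ (happ _))

end Groth.Agent.H5.Pop
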