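import Mathlib
import Groth.Agent.Lib.Helper5.Pop.EtIso1
import Groth.Agent.Lib.Helper1.ComplFlat2
import Groth.Agent.Lib.Helper1.LocalCriterion
import Groth.Agent.Lib.Helper8.NodeCpl.Iso
import Groth.Agent.H4.ComplLift
import Groth.Agent.S0543

set_option autoImplicit false
universe u
open IsLocalRing TensorProduct

namespace Groth.Agent.H5.Pop

section

variable {R : Type u} [CommRing R] [IsLocalRing R] [IsNoetherianRing R]

/-- membership in powers of the maximal ideal of the completion via `evalₐ`. -/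
theorem evalₐ_eq_zero_iff_mem_maximalIdeal_pow (k : ℕ) (a : AdicCompletion (maximalIdeal R) R) :
    AdicCompletion.evalₐ (maximalIdeal R) k a = 0 ↔
      a ∈ maximalIdeal (AdicCompletion (maximalIdeal R) R) ^ k := by
  rw [Groth.Agent.H1.ComplFlat.evalₐ_eq_zero_iff (maximalIdeal R)
    (maximalIdeal R).fg_of_isNoetherianRing k a, AdicCompletion.maximalIdeal_eq_map]

theorem exists_sub_algebraMap_mem_pow (k : ℕ) (a : AdicCompletion (maximalIdeal R) R) :
    ∃ b : R, a - algebraMap R (AdicCompletion (maximalIdeal R) R) b ∈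
      maximalIdeal (AdicCompletion (maximalIdeal R) R) ^ k := by
  obtain ⟨b, hb⟩ := Ideal.Quotient.mk_surjective (AdicCompletion.evalₐ (maximalIdeal R) k a)
  refine ⟨b, ?_⟩
  rw [← evalₐ_eq_zero_iff_mem_maximalIdeal_pow, map_sub, AlgHom.commutes, ← hb, sub_eq_zero]
  rfl

theorem mem_pow_of_algebraMap_mem_pow (k : ℕ) (b : R)
    (hb : algebraMap R (AdicCompletion (maximalIdeal R) R) b ∈
      maximalIdeal (AdicCompletion (maximalIdeal R) R) ^ k) : b ∈ maximalIdeal R ^ k := by
  rw [← evalₐ_eq_zero_iff_mem_maximalIdeal_pow, AlgHom.commutes] at hb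
  exact Ideal.Quotient.eq_zero_iff_mem.mp hb

end

theorem map_maximalIdeal_of_bijective' {A A' : Type u} [CommRing A] [CommRing A'] [IsLocalRing A]
    [IsLocalRing A'] (g : A →+* A') (hg : Function.Bijective g) :
    (maximalIdeal A).map g = maximalIdeal A' := by
  haveI : IsLocalHom g := by
    let e : A ≃+* A' := RingEquiv.ofBijective g hg
    exact ⟨fun a ha => by
      have : IsUnit (e.symm (g a)) := ha.map e.symm.toRingHom
      rwa [show e.symm (g a) = a from e.symm_apply_apply a] at this⟩
  rw [← IsLocalRing.maximalIdeal_comap g]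
  exact Ideal.map_comap_of_surjective g hg.2 _

/-- a bijective ring hom between local rings preserves and reflects powers of the maximal
ideal. -/
theorem mem_maximalIdeal_pow_iff_of_bijective {A A' : Type u} [CommRing A] [CommRing A']
    [IsLocalRing A] [IsLocalRing A'] (g : A →+* A') (hg : Function.Bijective g) (k : ℕ) (a : A) :
    g a ∈ maximalIdeal A' ^ k ↔ a ∈ maximalIdeal A ^ k := by
  have h1 : (maximalIdeal A ^ k).map g = maximalIdeal A' ^ k := by
    rw [Ideal.map_pow, map_maximalIdeal_of_bijective' g hg]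
  rw [← h1, Ideal.mem_map_iff_of_surjective g hg.2]
  constructor
  · rintro ⟨a', ha', h⟩
    rwa [← hg.1 h]
  · intro h
    exact ⟨a, h, rfl⟩


section Core

variable {OX OU OY : Type u} [CommRing OX] [CommRing OU] [CommRing OY] [IsLocalRing OX]
  [IsLocalRing OU] [IsLocalRing OY] [IsNoetherianRing OX] [IsNoetherianRing OY]
  [IsNoetherianRing OU]
  (E : OX →+* OU) (hE : (maximalIdeal OX).map E = maximalIdeal OU)
  (hres : ∀ z : OU, ∃ w : OX, z - E w ∈ maximalIdeal OU)
  (Ψ : OU →+* AdicCompletion (maximalIdeal OX) OX)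
  (hΨE : ∀ w, Ψ (E w) = algebraMap OX (AdicCompletion (maximalIdeal OX) OX) w)
  (Fm : OY →+* OU)
  (φ : AdicCompletion (maximalIdeal OY) OY ≃+* AdicCompletion (maximalIdeal OX) OX)
  (happ : ∀ b : OY, Ψ (Fm b) - φ (algebraMap OY (AdicCompletion (maximalIdeal OY) OY) b) ∈
    (maximalIdeal OX ^ 2).map (algebraMap OX (AdicCompletion (maximalIdeal OX) OX)))

omit [IsNoetherianRing OU] in
include hE hΨE in
/-- `Ψ` maps `𝔪_U^k` into `𝔪̂^k`. -/
theorem Psi_mem_pow (k : ℕ) (z : OU) (hz : z ∈ maximalIdeal OU ^ k) :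
    Ψ z ∈ maximalIdeal (AdicCompletion (maximalIdeal OX) OX) ^ k := by
  rw [← evalₐ_eq_zero_iff_mem_maximalIdeal_pow]
  exact evalₐ_Psi_eq_zero_of_mem_pow E hE Ψ hΨE k z hz

omit [IsNoetherianRing OU] in
include hE hres hΨE in
theorem mem_pow_of_Psi_mem_pow (k : ℕ) (z : OU)
    (hz : Ψ z ∈ maximalIdeal (AdicCompletion (maximalIdeal OX) OX) ^ k) :
    z ∈ maximalIdeal OU ^ k := by
  rw [← evalₐ_eq_zero_iff_mem_maximalIdeal_pow] at hz
  exact mem_pow_of_evalₐ_Psi_eq_zero E hE hres Ψ hΨE k z hz

omit [IsNoetherianRing OU] in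
/-- approximating elements of `OX` through `φ`. -/
theorem exists_phi_sub_mem_pow (k : ℕ) (t : OX) :
    ∃ b : OY, φ (algebraMap OY (AdicCompletion (maximalIdeal OY) OY) b) -
      algebraMap OX (AdicCompletion (maximalIdeal OX) OX) t ∈
        maximalIdeal (AdicCompletion (maximalIdeal OX) OX) ^ k := by
  obtain ⟨b, hb⟩ := exists_sub_algebraMap_mem_pow k
    (φ.symm (algebraMap OX (AdicCompletion (maximalIdeal OX) OX) t))
  refine ⟨b, ?_⟩
  have h1 := (mem_maximalIdeal_pow_iff_of_bijective φ.toRingHom φ.bijective k _).mpr hb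
  have h2 : φ.toRingHom (φ.symm (algebraMap OX (AdicCompletion (maximalIdeal OX) OX) t) -
      algebraMap OY (AdicCompletion (maximalIdeal OY) OY) b) =
      algebraMap OX (AdicCompletion (maximalIdeal OX) OX) t -
        φ (algebraMap OY (AdicCompletion (maximalIdeal OY) OY) b) := by
    rw [map_sub]
    show φ (φ.symm _) - _ = _
    rw [RingEquiv.apply_symm_apply]
    rfl
  rw [h2] at h1
  rw [← neg_sub]
  exact Ideal.neg_mem_iff _ |>.mpr h1

omit [IsNoetherianRing OU] in
include happ in
theorem happ' (b : OY) : Ψ (Fm b) - φ (algebraMap OY (AdicCompletion (maximalIdeal OY) OY) b) ∈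
    maximalIdeal (AdicCompletion (maximalIdeal OX) OX) ^ 2 := by
  have := happ b
  rwa [Ideal.map_pow, ← AdicCompletion.maximalIdeal_eq_map] at this

omit [IsNoetherianRing OU] in
include happ in
/-- `Fm` is local. -/
theorem Fm_mem_maximalIdeal (b : OY) (hb : b ∈ maximalIdeal OY) : Fm b ∈ maximalIdeal OU := by
  by_contra h
  rw [mem_maximalIdeal, mem_nonunits_iff, not_not] at h
  have hu : IsUnit (Ψ (Fm b)) := h.map Ψ
  have h1 : algebraMap OY (AdicCompletion (maximalIdeal OY) OY) b ∈
      maximalIdeal (AdicCompletion (maximalIdeal OY) OY) := by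
    rw [AdicCompletion.maximalIdeal_eq_map]
    exact Ideal.mem_map_of_mem _ hb
  have h2 : φ (algebraMap OY (AdicCompletion (maximalIdeal OY) OY) b) ∈
      maximalIdeal (AdicCompletion (maximalIdeal OX) OX) := by
    have := (mem_maximalIdeal_pow_iff_of_bijective φ.toRingHom φ.bijective 1 _).mpr
      (by rwa [pow_one])
    rwa [pow_one] at this
  have h3 := Ideal.pow_le_self (two_ne_zero) (happ' Ψ Fm φ happ b)
  have h4 : Ψ (Fm b) ∈ maximalIdeal (AdicCompletion (maximalIdeal OX) OX) := by
    have : Ψ (Fm b) = (Ψ (Fm b) - φ (algebraMap OY (AdicCompletion (maximalIdeal OY) OY) b)) +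
        φ (algebraMap OY (AdicCompletion (maximalIdeal OY) OY) b) := by ring
    rw [this]
    exact Ideal.add_mem _ h3 h2
  exact (mem_maximalIdeal _).mp h4 hu

include hE hres hΨE happ in
/-- Claim 1: `Fm` is unramified. -/
theorem map_Fm_maximalIdeal : (maximalIdeal OY).map Fm = maximalIdeal OU := by
  refine le_antisymm ?_ ?_
  · rw [Ideal.map_le_iff_le_comap]
    intro b hb
    exact Fm_mem_maximalIdeal Ψ Fm φ happ b hb
  · have hfg : (maximalIdeal OU : Submodule OU OU).FG := (maximalIdeal OU).fg_of_isNoetherianRing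
    refine Submodule.le_of_le_smul_of_le_jacobson_bot (I := maximalIdeal OU) hfg
      (IsLocalRing.maximalIdeal_le_jacobson ⊥) ?_
    conv_lhs => rw [← hE]
    rw [Ideal.map_le_iff_le_comap]
    intro t ht
    rw [Ideal.mem_comap]
    obtain ⟨b, hb⟩ := exists_phi_sub_mem_pow (OY := OY) φ 2 t
    have hbm : b ∈ maximalIdeal OY := by
      have h1 : algebraMap OX (AdicCompletion (maximalIdeal OX) OX) t ∈
          maximalIdeal (AdicCompletion (maximalIdeal OX) OX) := by
        rw [AdicCompletion.maximalIdeal_eq_map]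
        exact Ideal.mem_map_of_mem _ ht
      have h2 : φ (algebraMap OY (AdicCompletion (maximalIdeal OY) OY) b) ∈
          maximalIdeal (AdicCompletion (maximalIdeal OX) OX) := by
        have : φ (algebraMap OY (AdicCompletion (maximalIdeal OY) OY) b) =
            (φ (algebraMap OY (AdicCompletion (maximalIdeal OY) OY) b) -
              algebraMap OX (AdicCompletion (maximalIdeal OX) OX) t) +
            algebraMap OX (AdicCompletion (maximalIdeal OX) OX) t := by ring
        rw [this]
        exact Ideal.add_mem _ (Ideal.pow_le_self two_ne_zero hb) h1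
      have h3 := (mem_maximalIdeal_pow_iff_of_bijective φ.toRingHom φ.bijective 1 _).mp
        (by rw [pow_one]; exact h2)
      rw [pow_one] at h3
      have h4 := mem_pow_of_algebraMap_mem_pow 1 b (by rw [pow_one]; exact h3)
      rwa [pow_one] at h4
    have h5 : Ψ (Fm b - E t) ∈ maximalIdeal (AdicCompletion (maximalIdeal OX) OX) ^ 2 := by
      have : Ψ (Fm b - E t) =
          (Ψ (Fm b) - φ (algebraMap OY (AdicCompletion (maximalIdeal OY) OY) b)) +
          (φ (algebraMap OY (AdicCompletion (maximalIdeal OY) OY) b) -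
            algebraMap OX (AdicCompletion (maximalIdeal OX) OX) t) := by
        rw [map_sub, hΨE]; ring
      rw [this]
      exact Ideal.add_mem _ (happ' Ψ Fm φ happ b) hb
    have h6 := mem_pow_of_Psi_mem_pow E hE hres Ψ hΨE 2 _ h5
    have : E t = Fm b - (Fm b - E t) := by ring
    rw [this]
    refine Submodule.sub_mem _ (Submodule.mem_sup_left (Ideal.mem_map_of_mem _ hbm))
      (Submodule.mem_sup_right ?_)
    rw [pow_two] at h6
    exact h6

omit [IsNoetherianRing OU] in
include hE hres hΨE happ in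
/-- Claim 2: trivial residue field extension for `Fm`. -/
theorem Fm_residue (z : OU) : ∃ w : OY, z - Fm w ∈ maximalIdeal OU := by
  obtain ⟨t, ht⟩ := hres z
  obtain ⟨b, hb⟩ := exists_phi_sub_mem_pow (OY := OY) φ 1 t
  refine ⟨b, ?_⟩
  have h5 : Ψ (Fm b - E t) ∈ maximalIdeal (AdicCompletion (maximalIdeal OX) OX) ^ 1 := by
    have : Ψ (Fm b - E t) =
        (Ψ (Fm b) - φ (algebraMap OY (AdicCompletion (maximalIdeal OY) OY) b)) +
        (φ (algebraMap OY (AdicCompletion (maximalIdeal OY) OY) b) -
          algebraMap OX (AdicCompletion (maximalIdeal OX) OX) t) := by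
      rw [map_sub, hΨE]; ring
    rw [this]
    exact Ideal.add_mem _ (Ideal.pow_le_pow_right (by norm_num) (happ' Ψ Fm φ happ b)) hb
  have h6 := mem_pow_of_Psi_mem_pow E hE hres Ψ hΨE 1 _ h5
  rw [pow_one] at h6
  have : z - Fm b = (z - E t) - (Fm b - E t) := by ring
  rw [this]
  exact Ideal.sub_mem _ ht h6

end Core

end Groth.Agent.H5.Pop
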