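import Mathlib
import Groth.Agent.Lib.Helper5.Pop.EtIso2

/-!
# Controlling maps to the completion by a finite type refinement (helper5, S7201), ring level
-/

set_option autoImplicit false
universe u
open IsLocalRing

namespace Groth.Agent.H5.Pop

section

variable {R C : Type u} [CommRing R] [CommRing C] [Algebra R C] [IsNoetherianRing R]
  [Algebra.FiniteType R C]
  (𝔭 : Ideal R) [𝔭.IsPrime] (OS : Type u) [CommRing OS] [IsLocalRing OS] [IsNoetherianRing OS]
  [Algebra R OS] [IsLocalization.AtPrime OS 𝔭]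
  (𝔮 : Ideal C) [𝔮.IsPrime] (OT : Type u) [CommRing OT] [IsLocalRing OT] [Algebra C OT]
  [IsLocalization.AtPrime OT 𝔮]

/-- the ideal `𝔪^N Ô` in terms of `𝔭`. -/
theorem map_pow_eq (N : ℕ) :
    (maximalIdeal OS ^ N).map (algebraMap OS (AdicCompletion (maximalIdeal OS) OS)) =
      (𝔭 ^ N).map ((algebraMap OS (AdicCompletion (maximalIdeal OS) OS)).comp (algebraMap R OS)) := by
  rw [← Ideal.map_map, Ideal.map_pow (algebraMap R OS), IsLocalization.AtPrime.map_eq_maximalIdeal 𝔭 OS]

include 𝔮 in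
/-- two maps to the completion agreeing modulo `K` on generators agree modulo `K`. -/
theorem sub_mem_of_generators (K : Ideal (AdicCompletion (maximalIdeal OS) OS))
    (σ σ' : OT →+* AdicCompletion (maximalIdeal OS) OS)
    (hσ : ∀ r : R, σ (algebraMap C OT (algebraMap R C r)) =
      algebraMap OS (AdicCompletion (maximalIdeal OS) OS) (algebraMap R OS r))
    (hσ' : ∀ r : R, σ' (algebraMap C OT (algebraMap R C r)) =
      algebraMap OS (AdicCompletion (maximalIdeal OS) OS) (algebraMap R OS r))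
    (s : Set C) (hs : Algebra.adjoin R s = ⊤)
    (h : ∀ c ∈ s, σ (algebraMap C OT c) - σ' (algebraMap C OT c) ∈ K) (a : OT) :
    σ a - σ' a ∈ K := by
  have h1 : ∀ c : C, σ (algebraMap C OT c) - σ' (algebraMap C OT c) ∈ K := by
    intro c
    have hc : c ∈ Algebra.adjoin R s := by rw [hs]; trivial
    induction hc using Algebra.adjoin_induction with
    | mem x hx => exact h x hx
    | algebraMap r => rw [hσ, hσ', sub_self]; exact K.zero_mem
    | add x y _ _ hx hy =>
      rw [map_add, map_add, map_add]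
      have : σ (algebraMap C OT x) + σ (algebraMap C OT y) -
          (σ' (algebraMap C OT x) + σ' (algebraMap C OT y)) =
          (σ (algebraMap C OT x) - σ' (algebraMap C OT x)) +
          (σ (algebraMap C OT y) - σ' (algebraMap C OT y)) := by ring
      rw [this]
      exact K.add_mem hx hy
    | mul x y _ _ hx hy =>
      rw [map_mul, map_mul, map_mul]
      have : σ (algebraMap C OT x) * σ (algebraMap C OT y) -
          σ' (algebraMap C OT x) * σ' (algebraMap C OT y) =
          σ (algebraMap C OT x) * (σ (algebraMap C OT y) - σ' (algebraMap C OT y)) +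
          (σ (algebraMap C OT x) - σ' (algebraMap C OT x)) * σ' (algebraMap C OT y) := by ring
      rw [this]
      exact K.add_mem (K.mul_mem_left _ hy) (K.mul_mem_right _ hx)
  obtain ⟨⟨c, u⟩, hcu⟩ := IsLocalization.surj 𝔮.primeCompl a
  have hu : IsUnit (algebraMap C OT (u : C)) := IsLocalization.map_units OT u
  have hU : IsUnit (σ (algebraMap C OT (u : C))) := hu.map σ
  have hU' : IsUnit (σ' (algebraMap C OT (u : C))) := hu.map σ'
  have e1 : σ a * σ (algebraMap C OT (u : C)) = σ (algebraMap C OT c) := by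
    rw [← map_mul]; exact congrArg σ hcu
  have e2 : σ' a * σ' (algebraMap C OT (u : C)) = σ' (algebraMap C OT c) := by
    rw [← map_mul]; exact congrArg σ' hcu
  have key : (σ a - σ' a) * (σ (algebraMap C OT (u : C)) * σ' (algebraMap C OT (u : C))) ∈ K := by
    have : (σ a - σ' a) * (σ (algebraMap C OT (u : C)) * σ' (algebraMap C OT (u : C))) =
        σ (algebraMap C OT c) * (σ' (algebraMap C OT (u : C)) - σ (algebraMap C OT (u : C))) +
        σ (algebraMap C OT (u : C)) * (σ (algebraMap C OT c) - σ' (algebraMap C OT c)) := by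
      rw [← e1, ← e2]; ring
    rw [this]
    refine K.add_mem (K.mul_mem_left _ ?_) (K.mul_mem_left _ (h1 c))
    have := h1 (u : C)
    rw [← neg_sub]
    exact K.neg_mem this
  exact (Ideal.mul_unit_mem_iff_mem K (hU.mul hU')).mp key

include 𝔭 in
set_option maxHeartbeats 1600000 in
/-- **Ring-level core of S7201.** -/
theorem approx_factor (σ : OT →+* AdicCompletion (maximalIdeal OS) OS)
    (hσ : ∀ r : R, σ (algebraMap C OT (algebraMap R C r)) =
      algebraMap OS (AdicCompletion (maximalIdeal OS) OS) (algebraMap R OS r))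
    (hloc : ∀ a ∈ maximalIdeal OT, σ a ∈ (maximalIdeal OS).map
      (algebraMap OS (AdicCompletion (maximalIdeal OS) OS))) (N : ℕ) :
    ∃ (C' : Type u) (_ : CommRing C') (_ : Algebra C C') (_ : Algebra.FiniteType C C')
      (𝔮' : Ideal C') (_ : 𝔮'.IsPrime) (τ₀ : C' →+* AdicCompletion (maximalIdeal OS) OS),
      𝔮'.comap (algebraMap C C') = 𝔮 ∧
      (∀ c, τ₀ (algebraMap C C' c) = σ (algebraMap C OT c)) ∧
      (∀ x, x ∉ 𝔮' → IsUnit (τ₀ x)) ∧
      ∀ σ' : OT →+* AdicCompletion (maximalIdeal OS) OS,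
        (∀ r : R, σ' (algebraMap C OT (algebraMap R C r)) =
          algebraMap OS (AdicCompletion (maximalIdeal OS) OS) (algebraMap R OS r)) →
        (∃ τ₀' : C' →+* AdicCompletion (maximalIdeal OS) OS,
          ∀ c, τ₀' (algebraMap C C' c) = σ' (algebraMap C OT c)) →
        ∀ a, σ a - σ' a ∈ (maximalIdeal OS ^ N).map
          (algebraMap OS (AdicCompletion (maximalIdeal OS) OS)) := by
  classical
  obtain ⟨s, hs⟩ := (Algebra.FiniteType.out : (⊤ : Subalgebra R C).FG)
  obtain ⟨ι, hι⟩ : ∃ ι : R →+* AdicCompletion (maximalIdeal OS) OS,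
      ι = (algebraMap OS (AdicCompletion (maximalIdeal OS) OS)).comp (algebraMap R OS) := ⟨_, rfl⟩
  have hιa : ∀ r, ι r = algebraMap OS (AdicCompletion (maximalIdeal OS) OS) (algebraMap R OS r) :=
    fun r => by rw [hι]; rfl
  obtain ⟨k, w, hw⟩ := Submodule.fg_iff_exists_fin_generating_family.mp
    (IsNoetherian.noetherian (𝔭 ^ N))
  have hK : (maximalIdeal OS ^ N).map (algebraMap OS (AdicCompletion (maximalIdeal OS) OS)) =
      Ideal.span (Set.range (fun j => ι (w j))) := by
    rw [map_pow_eq 𝔭 OS N, ← hι, ← hw]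
    show Ideal.map ι (Ideal.span (Set.range w)) = _
    rw [Ideal.map_span, ← Set.range_comp]
    rfl
  have hex : ∀ c : C, ∃ (r : R) (g : 𝔭.primeCompl) (a : Fin k → AdicCompletion (maximalIdeal OS) OS),
      ι g * σ (algebraMap C OT c) = ι r + ι g * ∑ j, a j * ι (w j) := by
    intro c
    obtain ⟨o, ho⟩ := exists_sub_algebraMap_mem_pow N (σ (algebraMap C OT c))
    rw [AdicCompletion.maximalIdeal_eq_map, ← Ideal.map_pow, hK,
      Ideal.mem_span_range_iff_exists_fun] at ho
    obtain ⟨a, ha⟩ := ho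
    obtain ⟨⟨r, g⟩, hrg⟩ := IsLocalization.surj 𝔭.primeCompl o
    refine ⟨r, g, a, ?_⟩
    have h1 : ι r = algebraMap OS (AdicCompletion (maximalIdeal OS) OS) o * ι g := by
      rw [hιa, hιa, ← map_mul]
      exact congrArg _ hrg.symm
    rw [h1, ha]
    ring
  choose r g a hrga using hex
  -- the algebra
  obtain ⟨rel, hreldef⟩ : ∃ rel : s → MvPolynomial (s × Fin k) C, ∀ c : s, rel c =
      MvPolynomial.C (algebraMap R C (g c)) * MvPolynomial.C (c : C) -
        MvPolynomial.C (algebraMap R C (r c)) -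
      MvPolynomial.C (algebraMap R C (g c)) *
        ∑ j, MvPolynomial.X (c, j) * MvPolynomial.C (algebraMap R C (w j)) := ⟨_, fun _ => rfl⟩
  obtain ⟨I, hI⟩ : ∃ I : Ideal (MvPolynomial (s × Fin k) C), I = Ideal.span (Set.range rel) :=
    ⟨_, rfl⟩
  obtain ⟨ev, hevC, hevX⟩ : ∃ ev : MvPolynomial (s × Fin k) C →+* AdicCompletion (maximalIdeal OS) OS,
      (∀ x : C, ev (MvPolynomial.C x) = σ (algebraMap C OT x)) ∧
      (∀ p : s × Fin k, ev (MvPolynomial.X p) = a (p.1 : C) p.2) :=
    ⟨MvPolynomial.eval₂Hom (σ.comp (algebraMap C OT)) (fun p => a (p.1 : C) p.2),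
      fun x => MvPolynomial.eval₂Hom_C _ _ x, fun p => MvPolynomial.eval₂Hom_X' _ _ p⟩
  have hev : ∀ x ∈ I, ev x = 0 := by
    have : I ≤ RingHom.ker ev := by
      rw [hI, Ideal.span_le]
      rintro _ ⟨c, rfl⟩
      rw [SetLike.mem_coe, RingHom.mem_ker, hreldef]
      rw [map_sub, map_sub, map_mul, map_mul, map_sum, hevC, hevC, hevC, hσ, hσ, ← hιa, ← hιa,
        hrga (c : C)]
      have : ∀ j, ev (MvPolynomial.X (c, j) * MvPolynomial.C (algebraMap R C (w j))) =
          a (c : C) j * ι (w j) := by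
        intro j
        rw [map_mul, hevX, hevC, hσ, ← hιa]
      simp only [this]
      ring
    exact fun x hx => this hx
  obtain ⟨τ₀, hτ₀⟩ : ∃ τ₀ : (MvPolynomial (s × Fin k) C ⧸ I) →+* AdicCompletion (maximalIdeal OS) OS,
      ∀ x, τ₀ (Ideal.Quotient.mk I x) = ev x := ⟨Ideal.Quotient.lift I ev hev, fun x => rfl⟩
  have halg : ∀ c : C, algebraMap C (MvPolynomial (s × Fin k) C ⧸ I) c =
      Ideal.Quotient.mk I (MvPolynomial.C c) := fun c => rfl
  haveI : Algebra.FiniteType C (MvPolynomial (s × Fin k) C ⧸ I) :=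
    Algebra.FiniteType.of_surjective (R := C) (A := MvPolynomial (s × Fin k) C)
      (Ideal.Quotient.mkₐ C I) (Ideal.Quotient.mkₐ_surjective C I)
  have hτc : ∀ c, τ₀ (algebraMap C (MvPolynomial (s × Fin k) C ⧸ I) c) = σ (algebraMap C OT c) := by
    intro c
    rw [halg, hτ₀, hevC]
  refine ⟨MvPolynomial (s × Fin k) C ⧸ I, inferInstance, inferInstance, inferInstance,
    (maximalIdeal (AdicCompletion (maximalIdeal OS) OS)).comap τ₀, Ideal.comap_isPrime _ _, τ₀,
    ?_, hτc, ?_, ?_⟩
  · ext x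
    rw [Ideal.mem_comap, Ideal.mem_comap, hτc]
    constructor
    · intro hx
      by_contra hx'
      have hu : IsUnit (algebraMap C OT x) :=
        IsLocalization.map_units OT (⟨x, hx'⟩ : 𝔮.primeCompl)
      exact (IsLocalRing.notMem_maximalIdeal.mpr (hu.map σ)) hx
    · intro hx
      rw [AdicCompletion.maximalIdeal_eq_map]
      exact hloc _ ((IsLocalization.AtPrime.to_map_mem_maximal_iff OT 𝔮 x).mpr hx)
  · intro x hx
    exact IsLocalRing.notMem_maximalIdeal.mp hx
  · intro σ' hσ' ⟨τ₀', hτ₀'⟩ z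
    refine sub_mem_of_generators OS 𝔮 OT _ σ σ' hσ hσ' (s : Set C) hs ?_ z
    intro c hc
    have hrel : Ideal.Quotient.mk I (rel ⟨c, hc⟩) = 0 :=
      Ideal.Quotient.eq_zero_iff_mem.mpr (by rw [hI]; exact Ideal.subset_span ⟨⟨c, hc⟩, rfl⟩)
    have hτC : ∀ x : C, τ₀' (Ideal.Quotient.mk I (MvPolynomial.C x)) = σ' (algebraMap C OT x) := fun x => by
      rw [← halg, hτ₀']
    have h1 := congrArg τ₀' hrel
    rw [map_zero] at h1
    have h2 : τ₀' (Ideal.Quotient.mk I (rel ⟨c, hc⟩)) =
        ι (g c) * σ' (algebraMap C OT c) - ι (r c) -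
          ι (g c) * ∑ j, τ₀' (Ideal.Quotient.mk I (MvPolynomial.X (⟨c, hc⟩, j))) * ι (w j) := by
      rw [hreldef]
      rw [map_sub, map_sub, map_mul, map_mul, map_sum, map_sub, map_sub, map_mul, map_mul, map_sum,
        hτC, hτC, hτC, hσ', hσ', ← hιa, ← hιa]
      have : ∀ j, τ₀' (Ideal.Quotient.mk I (MvPolynomial.X (⟨c, hc⟩, j) * MvPolynomial.C (algebraMap R C (w j)))) =
          τ₀' (Ideal.Quotient.mk I (MvPolynomial.X (⟨c, hc⟩, j))) * ι (w j) := by
        intro j
        rw [map_mul, map_mul, hτC, hσ', ← hιa]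
      simp only [this]
    rw [h2] at h1
    have hu : IsUnit (ι (g c)) := by
      rw [hιa]
      exact (IsLocalization.map_units OS (g c)).map _
    have h3 : ι (g c) * (σ (algebraMap C OT c) - σ' (algebraMap C OT c)) =
        ι (g c) * ∑ j, (a c j - τ₀' (Ideal.Quotient.mk I (MvPolynomial.X (⟨c, hc⟩, j)))) * ι (w j) := by
      have e1 := hrga c
      have e2 : ι (g c) * σ' (algebraMap C OT c) = ι (r c) +
          ι (g c) * ∑ j, τ₀' (Ideal.Quotient.mk I (MvPolynomial.X (⟨c, hc⟩, j))) * ι (w j) := by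
        linear_combination h1
      simp only [sub_mul, Finset.sum_sub_distrib, mul_sub]
      rw [e1, e2]
      ring
    rw [hu.mul_left_cancel h3, hK]
    refine Ideal.sum_mem _ fun j _ => Ideal.mul_mem_left _ _ (Ideal.subset_span ⟨j, rfl⟩)

end

end Groth.Agent.H5.Pop
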