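import Mathlib

set_option autoImplicit false
universe u
open AlgebraicGeometry CategoryTheory IsLocalRing Opposite TopologicalSpace

namespace Groth.Agent.H5.Pop

/-- stalk maps and germs, `appLE` version. -/
theorem stalkMap_germ_appLE {X Y : Scheme.{u}} (g : X ⟶ Y) (V : Y.Opens) (U : X.Opens)
    (e : U ≤ g ⁻¹ᵁ V) (x : X) (hx : x ∈ U) (a : Γ(Y, V)) :
    (g.stalkMap x).hom (Y.presheaf.germ V (g x) (e hx) a) =
      X.presheaf.germ U x hx ((g.appLE V U e).hom a) := by
  have h1 := Scheme.Hom.germ_stalkMap g V x (e hx)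
  have h2 : (g.stalkMap x).hom (Y.presheaf.germ V (g x) (e hx) a) =
      X.presheaf.germ (g ⁻¹ᵁ V) x (e hx) ((g.app V).hom a) := congr($(h1).hom a)
  rw [h2]
  have h3 : g.appLE V U e = g.app V ≫ X.presheaf.map (homOfLE e).op := rfl
  rw [h3]
  have h4 := X.presheaf.germ_res (homOfLE e) x hx
  exact (congr($(h4).hom ((g.app V).hom a))).symm

/-- `stalkCongr` and germs. -/
theorem stalkCongr_inv_germ {X : Scheme.{u}} {x x' : X} (h : x' = x) (V : X.Opens) (hx : x ∈ V)
    (a : Γ(X, V)) :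
    (X.presheaf.stalkCongr (Inseparable.of_eq h)).inv.hom (X.presheaf.germ V x hx a) =
      X.presheaf.germ V x' (h ▸ hx) a := by
  subst h
  have : (X.presheaf.stalkCongr (Inseparable.of_eq (rfl : x' = x'))).inv = 𝟙 _ := by
    simp [TopCat.Presheaf.stalkCongr]
  rw [this]
  rfl

theorem stalkCongr_hom_germ {X : Scheme.{u}} {x x' : X} (h : x = x') (V : X.Opens) (hx : x ∈ V)
    (a : Γ(X, V)) :
    (X.presheaf.stalkCongr (Inseparable.of_eq h)).hom.hom (X.presheaf.germ V x hx a) =
      X.presheaf.germ V x' (h ▸ hx) a := by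
  subst h
  have : (X.presheaf.stalkCongr (Inseparable.of_eq (rfl : x = x))).hom = 𝟙 _ := by
    simp [TopCat.Presheaf.stalkCongr]
  rw [this]
  rfl

/-- the `appLE` of a morphism `Spec R' ⟶ X` through an affine open. -/
theorem appLE_SpecMap_fromSpec {X : Scheme.{u}} {V : X.Opens} (hV : IsAffineOpen V)
    {R' : CommRingCat.{u}} (α : Γ(X, V) ⟶ R')
    (h : (⊤ : (Spec R').Opens) ≤ (Spec.map α ≫ hV.fromSpec) ⁻¹ᵁ V) :
    (Spec.map α ≫ hV.fromSpec).appLE V ⊤ h = α ≫ (Scheme.ΓSpecIso R').inv := by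
  apply Spec.map_injective
  apply (cancel_mono hV.fromSpec).mp
  rw [IsAffineOpen.SpecMap_appLE_fromSpec _ hV (isAffineOpen_top _) h, IsAffineOpen.fromSpec_top,
    Scheme.isoSpec_Spec_inv, Spec.map_comp, Category.assoc]

/-- the algebra structure of the stalk of `Spec R'` over `R'`. -/
noncomputable def stalkAlg (R' : CommRingCat.{u}) (u : Spec R') :
    Algebra R' ((Spec R').presheaf.stalk u) :=
  ((Scheme.ΓSpecIso R').inv ≫ (Spec R').presheaf.germ ⊤ u trivial).hom.toAlgebra

set_option backward.isDefEq.respectTransparency.types false in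
theorem isLocalization_stalkAlg (R' : CommRingCat.{u}) (u : Spec R') :
    @IsLocalization.AtPrime R' _ ((Spec R').presheaf.stalk u) _ (stalkAlg R' u)
      (u : PrimeSpectrum R').asIdeal _ := by
  exact StructureSheaf.IsLocalization.to_stalk R' u

end Groth.Agent.H5.Pop
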