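import Mathlib
import Groth.Agent.Lib.Helper5.Pop.ApxFactor
import Groth.Agent.Lib.Helper5.Pop.EtNbhd1

/-!
# Controlling maps to the completion by a finite type refinement (helper5, S7201), scheme level
-/

set_option autoImplicit false
universe u
open AlgebraicGeometry CategoryTheory IsLocalRing Opposite TopologicalSpace

namespace Groth.Agent.H5.Pop

set_option maxHeartbeats 1600000 in
/-- S7201. -/
theorem exists_finiteType_refinement {T S : Scheme.{u}} [IsNoetherian T] [IsNoetherian S]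
    (h : T ⟶ S) [LocallyOfFiniteType h] [QuasiCompact h] (t : T)
    (σ : ↑(T.presheaf.stalk t) →+* (AdicCompletion (IsLocalRing.maximalIdeal ↑(S.presheaf.stalk (h t))) ↑(S.presheaf.stalk (h t))))
    (hσ : σ.comp (h.stalkMap t).hom = algebraMap ↑(S.presheaf.stalk (h t)) (AdicCompletion (IsLocalRing.maximalIdeal ↑(S.presheaf.stalk (h t))) ↑(S.presheaf.stalk (h t))))
    (hloc : ∀ a ∈ IsLocalRing.maximalIdeal ↑(T.presheaf.stalk t),
      σ a ∈ (IsLocalRing.maximalIdeal ↑(S.presheaf.stalk (h t))).map (algebraMap ↑(S.presheaf.stalk (h t)) (AdicCompletion (IsLocalRing.maximalIdeal ↑(S.presheaf.stalk (h t))) ↑(S.presheaf.stalk (h t)))))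
    (N : ℕ) (hN : 1 ≤ N) :
    ∃ (T' : Scheme.{u}) (g : T' ⟶ T) (t' : T') (hg : g t' = t) (τ : ↑(T'.presheaf.stalk t') →+* (AdicCompletion (IsLocalRing.maximalIdeal ↑(S.presheaf.stalk (h t))) ↑(S.presheaf.stalk (h t)))),
      LocallyOfFiniteType g ∧ QuasiCompact g ∧
      τ.comp ((g.stalkMap t').hom.comp (T.presheaf.stalkCongr (Inseparable.of_eq hg)).inv.hom) = σ ∧
      ∀ (σ' : ↑(T.presheaf.stalk t) →+* (AdicCompletion (IsLocalRing.maximalIdeal ↑(S.presheaf.stalk (h t))) ↑(S.presheaf.stalk (h t)))),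
        σ'.comp (h.stalkMap t).hom = algebraMap ↑(S.presheaf.stalk (h t)) (AdicCompletion (IsLocalRing.maximalIdeal ↑(S.presheaf.stalk (h t))) ↑(S.presheaf.stalk (h t))) →
        (∀ a ∈ IsLocalRing.maximalIdeal ↑(T.presheaf.stalk t),
          σ' a ∈ (IsLocalRing.maximalIdeal ↑(S.presheaf.stalk (h t))).map (algebraMap ↑(S.presheaf.stalk (h t)) (AdicCompletion (IsLocalRing.maximalIdeal ↑(S.presheaf.stalk (h t))) ↑(S.presheaf.stalk (h t))))) →
        (∃ τ' : ↑(T'.presheaf.stalk t') →+* (AdicCompletion (IsLocalRing.maximalIdeal ↑(S.presheaf.stalk (h t))) ↑(S.presheaf.stalk (h t))),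
          τ'.comp ((g.stalkMap t').hom.comp (T.presheaf.stalkCongr (Inseparable.of_eq hg)).inv.hom) = σ') →
        ∀ a : ↑(T.presheaf.stalk t), σ a - σ' a ∈ (IsLocalRing.maximalIdeal ↑(S.presheaf.stalk (h t)) ^ N).map (algebraMap ↑(S.presheaf.stalk (h t)) (AdicCompletion (IsLocalRing.maximalIdeal ↑(S.presheaf.stalk (h t))) ↑(S.presheaf.stalk (h t)))) := by
  -- affine opens
  obtain ⟨W, hW, hsW, -⟩ := exists_isAffineOpen_mem_and_subset (x := h t) (U := ⊤) trivial
  obtain ⟨V, hV, htV, hVW⟩ :=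
    exists_isAffineOpen_mem_and_subset (x := t) (U := h ⁻¹ᵁ W) hsW
  letI algC : Algebra Γ(S, W) Γ(T, V) := (h.appLE W V hVW).hom.toAlgebra
  haveI : IsNoetherianRing Γ(S, W) := IsLocallyNoetherian.component_noetherian ⟨W, hW⟩
  haveI : Algebra.FiniteType Γ(S, W) Γ(T, V) := by
    have := HasRingHomProperty.appLE (P := @LocallyOfFiniteType) h inferInstance ⟨W, hW⟩
      ⟨V, hV⟩ hVW
    exact this
  letI algS : Algebra Γ(S, W) ↑(S.presheaf.stalk (h t)) :=
    TopCat.Presheaf.algebra_section_stalk S.presheaf ⟨h t, hsW⟩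
  letI algT : Algebra Γ(T, V) ↑(T.presheaf.stalk t) :=
    TopCat.Presheaf.algebra_section_stalk T.presheaf ⟨t, htV⟩
  haveI locS : IsLocalization.AtPrime ↑(S.presheaf.stalk (h t)) (hW.primeIdealOf ⟨h t, hsW⟩).asIdeal :=
    hW.isLocalization_stalk ⟨h t, hsW⟩
  haveI locT : IsLocalization.AtPrime ↑(T.presheaf.stalk t) (hV.primeIdealOf ⟨t, htV⟩).asIdeal :=
    hV.isLocalization_stalk ⟨t, htV⟩
  haveI : IsNoetherianRing ↑(S.presheaf.stalk (h t)) :=
    IsLocalization.isNoetherianRing (hW.primeIdealOf ⟨h t, hsW⟩).asIdeal.primeCompl _ inferInstance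
  -- compatibility
  have hcompat : ∀ (σ' : ↑(T.presheaf.stalk t) →+* (AdicCompletion (IsLocalRing.maximalIdeal ↑(S.presheaf.stalk (h t))) ↑(S.presheaf.stalk (h t)))),
      σ'.comp (h.stalkMap t).hom = algebraMap ↑(S.presheaf.stalk (h t)) (AdicCompletion (IsLocalRing.maximalIdeal ↑(S.presheaf.stalk (h t))) ↑(S.presheaf.stalk (h t))) →
      ∀ r : Γ(S, W), σ' (algebraMap Γ(T, V) ↑(T.presheaf.stalk t) (algebraMap Γ(S, W) Γ(T, V) r)) =
        algebraMap ↑(S.presheaf.stalk (h t)) (AdicCompletion (IsLocalRing.maximalIdeal ↑(S.presheaf.stalk (h t))) ↑(S.presheaf.stalk (h t)))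
          (algebraMap Γ(S, W) ↑(S.presheaf.stalk (h t)) r) := by
    intro σ' hσ' r
    have h1 := congrArg (fun g => g (S.presheaf.germ W (h t) hsW r)) hσ'
    simp only [RingHom.comp_apply] at h1
    rw [stalkMap_germ_appLE h W V hVW t htV r] at h1
    exact h1
  obtain ⟨C', _, _, hft, 𝔮', h𝔮', τ₀, h1, h2, h3, h4⟩ :=
    approx_factor (hW.primeIdealOf ⟨h t, hsW⟩).asIdeal ↑(S.presheaf.stalk (h t))
      (hV.primeIdealOf ⟨t, htV⟩).asIdeal ↑(T.presheaf.stalk t) σ (hcompat σ hσ) hloc N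
  -- the scheme
  let α : Γ(T, V) ⟶ CommRingCat.of C' := CommRingCat.ofHom (algebraMap Γ(T, V) C')
  let t' : Spec (CommRingCat.of C') := (⟨𝔮', h𝔮'⟩ : PrimeSpectrum C')
  have hg : (Spec.map α ≫ hV.fromSpec) t' = t := by
    rw [Scheme.Hom.comp_apply]
    have : (Spec.map α) t' = hV.primeIdealOf ⟨t, htV⟩ := PrimeSpectrum.ext h1
    rw [this, hV.fromSpec_primeIdealOf]
  haveI : LocallyOfFiniteType (Spec.map α) := by
    rw [HasRingHomProperty.Spec_iff (P := @LocallyOfFiniteType)]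
    exact RingHom.finiteType_algebraMap.mpr hft
  letI algU : Algebra C' ↑((Spec (CommRingCat.of C')).presheaf.stalk t') :=
    stalkAlg (CommRingCat.of C') t'
  haveI locU : IsLocalization.AtPrime ↑((Spec (CommRingCat.of C')).presheaf.stalk t') 𝔮' :=
    isLocalization_stalkAlg (CommRingCat.of C') t'
  have hle : (⊤ : (Spec (CommRingCat.of C')).Opens) ≤ (Spec.map α ≫ hV.fromSpec) ⁻¹ᵁ V := by
    intro z _
    show (Spec.map α ≫ hV.fromSpec) z ∈ V
    rw [Scheme.Hom.comp_apply]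
    have : hV.fromSpec ((Spec.map α) z) ∈ Set.range hV.fromSpec := Set.mem_range_self _
    rw [hV.range_fromSpec] at this
    exact this
  obtain ⟨E, hEdef⟩ : ∃ E : ↑(T.presheaf.stalk t) →+*
      ↑((Spec (CommRingCat.of C')).presheaf.stalk t'),
      E = ((Spec.map α ≫ hV.fromSpec).stalkMap t').hom.comp
        (T.presheaf.stalkCongr (Inseparable.of_eq hg)).inv.hom := ⟨_, rfl⟩
  have hE1 : ∀ c : Γ(T, V), E (algebraMap Γ(T, V) ↑(T.presheaf.stalk t) c) =
      algebraMap C' ↑((Spec (CommRingCat.of C')).presheaf.stalk t') (algebraMap Γ(T, V) C' c) := by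
    intro c
    rw [hEdef]
    show ((Spec.map α ≫ hV.fromSpec).stalkMap t').hom
      ((T.presheaf.stalkCongr (Inseparable.of_eq hg)).inv.hom (T.presheaf.germ V t htV c)) = _
    rw [stalkCongr_inv_germ hg V htV c,
      stalkMap_germ_appLE (Spec.map α ≫ hV.fromSpec) V ⊤ hle t' trivial c,
      appLE_SpecMap_fromSpec hV α hle]
    rfl
  obtain ⟨τ, hτ⟩ : ∃ τ : ↑((Spec (CommRingCat.of C')).presheaf.stalk t') →+*
      (AdicCompletion (IsLocalRing.maximalIdeal ↑(S.presheaf.stalk (h t))) ↑(S.presheaf.stalk (h t))),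
      ∀ x : C', τ (algebraMap C' _ x) = τ₀ x :=
    ⟨IsLocalization.lift (M := 𝔮'.primeCompl) (g := τ₀) (fun y => h3 y y.2),
      fun x => IsLocalization.lift_eq _ x⟩
  refine ⟨Spec (CommRingCat.of C'), Spec.map α ≫ hV.fromSpec, t', hg, τ, inferInstance,
    inferInstance, ?_, ?_⟩
  · rw [← hEdef]
    apply IsLocalization.ringHom_ext (hV.primeIdealOf ⟨t, htV⟩).asIdeal.primeCompl
    ext c
    simp only [RingHom.comp_apply]
    rw [hE1, hτ, h2]
  · intro σ' hσ' _ ⟨τ', hτ'⟩ a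
    refine h4 σ' (hcompat σ' hσ') ⟨τ'.comp (algebraMap C' _), fun c => ?_⟩ a
    rw [← hEdef] at hτ'
    rw [RingHom.comp_apply, ← hE1, ← hτ']
    rfl

end Groth.Agent.H5.Pop
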