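import Mathlib

set_option autoImplicit false
universe u
open IsLocalRing

namespace Groth.Agent.H5.Pop.CAW

/-- Explicit form of "the residue field extension at `𝔮` is trivial over the image of `f`":
every element of `R/𝔮` is a fraction of images of elements of `A`. -/
def ResSurj {A R : Type*} [CommRing A] [CommRing R] (f : A →+* R) (𝔮 : Ideal R) : Prop :=
  ∀ z : R, ∃ a s : A, f s ∉ 𝔮 ∧ f s * z - f a ∈ 𝔮

section conv

variable {A R : Type u} [CommRing A] [CommRing R] (f : A →+* R) (𝔮 : Ideal R) [𝔮.IsPrime]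
  (𝔭 : Ideal A) [𝔭.IsPrime] (h𝔭 : 𝔮.comap f = 𝔭)
  (OA : Type u) [CommRing OA] [Algebra A OA] [IsLocalization.AtPrime OA 𝔭]
  (OU : Type u) [CommRing OU] [IsLocalRing OU] [Algebra R OU] [IsLocalization.AtPrime OU 𝔮]
  (E : OA →+* OU) (hE : ∀ a, E (algebraMap A OA a) = algebraMap R OU (f a))

include h𝔭 hE in
theorem resSurj_of_local (hres : ∀ z : OU, ∃ w : OA, z - E w ∈ maximalIdeal OU) :
    ResSurj f 𝔮 := by
  intro r
  obtain ⟨w, hw⟩ := hres (algebraMap R OU r)
  obtain ⟨a, s, rfl⟩ := IsLocalization.exists_mk'_eq 𝔭.primeCompl w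
  have hs : f (s : A) ∉ 𝔮 := by
    intro h
    have : (s : A) ∈ 𝔮.comap f := h
    rw [h𝔭] at this
    exact s.2 this
  refine ⟨a, s, hs, ?_⟩
  have h1 : algebraMap R OU (f s) * E (IsLocalization.mk' OA a s) = algebraMap R OU (f a) := by
    rw [← hE, ← hE, ← map_mul, mul_comm, IsLocalization.mk'_spec]
  have h2 : algebraMap R OU (f s * r - f a) ∈ maximalIdeal OU := by
    have := Ideal.mul_mem_left (maximalIdeal OU) (algebraMap R OU (f s)) hw
    rwa [mul_sub, h1, ← map_mul, ← map_sub] at this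
  exact (IsLocalization.AtPrime.to_map_mem_maximal_iff OU 𝔮 _).mp h2

include h𝔭 hE in
theorem local_of_resSurj (h : ResSurj f 𝔮) (z : OU) : ∃ w : OA, z - E w ∈ maximalIdeal OU := by
  obtain ⟨r, t, rfl⟩ := IsLocalization.exists_mk'_eq 𝔮.primeCompl z
  obtain ⟨a, s, hs, h1⟩ := h r
  obtain ⟨a', s', hs', h2⟩ := h (t : R)
  have hmem : ∀ x : A, f x ∉ 𝔮 → x ∈ 𝔭.primeCompl := by
    intro x hx hx'
    rw [← h𝔭] at hx'
    exact hx hx'
  have ha' : f a' ∉ 𝔮 := by
    intro h3
    have h4 : f s' * (t : R) ∈ 𝔮 := by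
      have := Ideal.add_mem _ h2 h3
      rwa [sub_add_cancel] at this
    rcases Ideal.IsPrime.mem_or_mem inferInstance h4 with h5 | h5
    · exact hs' h5
    · exact t.2 h5
  have hsa' : f (s * a') ∉ 𝔮 := by
    rw [map_mul]
    intro h3
    rcases Ideal.IsPrime.mem_or_mem inferInstance h3 with h5 | h5
    · exact hs h5
    · exact ha' h5
  refine ⟨IsLocalization.mk' OA (a * s') (⟨s * a', hmem _ hsa'⟩ : 𝔭.primeCompl), ?_⟩
  -- multiply by a unit
  have hu : IsUnit (algebraMap R OU (f (s * a')) * algebraMap R OU (t : R)) := by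
    apply IsUnit.mul
    · exact IsLocalization.map_units OU (⟨f (s * a'), hsa'⟩ : 𝔮.primeCompl)
    · exact IsLocalization.map_units OU t
  have key : algebraMap R OU (f (s * a')) * algebraMap R OU (t : R) *
      (IsLocalization.mk' OU r t -
        E (IsLocalization.mk' OA (a * s') (⟨s * a', hmem _ hsa'⟩ : 𝔭.primeCompl))) =
      algebraMap R OU (f a' * (f s * r - f a) - f a * (f s' * t - f a')) := by
    have e1 : algebraMap R OU (t : R) * IsLocalization.mk' OU r t = algebraMap R OU r := by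
      rw [mul_comm, IsLocalization.mk'_spec]
    have e2 : algebraMap R OU (f (s * a')) *
        E (IsLocalization.mk' OA (a * s') (⟨s * a', hmem _ hsa'⟩ : 𝔭.primeCompl)) =
        algebraMap R OU (f (a * s')) := by
      rw [← hE, ← hE, ← map_mul, mul_comm]
      exact congrArg E (IsLocalization.mk'_spec OA (a * s') (⟨s * a', hmem _ hsa'⟩ : 𝔭.primeCompl))
    calc _ = algebraMap R OU (f (s * a')) * (algebraMap R OU (t : R) * IsLocalization.mk' OU r t) -
          algebraMap R OU (t : R) * (algebraMap R OU (f (s * a')) *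
            E (IsLocalization.mk' OA (a * s') (⟨s * a', hmem _ hsa'⟩ : 𝔭.primeCompl))) := by ring
      _ = _ := by
        rw [e1, e2]
        simp only [map_mul, map_sub]
        ring
  have hmem2 : algebraMap R OU (f a' * (f s * r - f a) - f a * (f s' * t - f a')) ∈
      maximalIdeal OU := by
    rw [IsLocalization.AtPrime.to_map_mem_maximal_iff OU 𝔮]
    exact Ideal.sub_mem _ (Ideal.mul_mem_left _ _ h1) (Ideal.mul_mem_left _ _ h2)
  rw [← key] at hmem2
  exact (Ideal.unit_mul_mem_iff_mem _ hu).mp hmem2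

end conv

section field

variable {A R L : Type*} [CommRing A] [CommRing R] [Field L] (f : A →+* R) (𝔮 : Ideal R)
  (ρ : R →+* L) (hρ : RingHom.ker ρ = 𝔮)

include hρ in
theorem mem_closure_of_resSurj (h : ResSurj f 𝔮) (z : R) :
    ρ z ∈ Subfield.closure (Set.range (ρ.comp f)) := by
  obtain ⟨a, s, hs, h1⟩ := h z
  rw [← hρ, RingHom.mem_ker] at hs h1
  rw [map_sub, map_mul, sub_eq_zero] at h1
  have : ρ z = ρ (f a) / ρ (f s) := by
    rw [eq_div_iff hs, mul_comm, h1]
  rw [this]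
  exact Subfield.div_mem _ (Subfield.subset_closure ⟨a, rfl⟩) (Subfield.subset_closure ⟨s, rfl⟩)

include hρ in
theorem resSurj_of_mem_closure
    (h : ∀ z : R, ρ z ∈ Subfield.closure (Set.range (ρ.comp f))) : ResSurj f 𝔮 := by
  intro z
  obtain ⟨y, hy, x, hx, hyx⟩ := Subfield.mem_closure_iff.mp (h z)
  have hcl : Subring.closure (Set.range (ρ.comp f)) = (ρ.comp f).range := by
    rw [← RingHom.coe_range, Subring.closure_eq]
  rw [hcl] at hy hx
  obtain ⟨a, rfl⟩ := hy
  obtain ⟨s, rfl⟩ := hx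
  by_cases hs : ρ (f s) = 0
  · refine ⟨0, 1, ?_, ?_⟩
    · rw [map_one, ← hρ, RingHom.mem_ker, map_one]
      exact one_ne_zero
    · rw [map_one, map_zero, one_mul, sub_zero, ← hρ, RingHom.mem_ker, ← hyx]
      show (ρ.comp f) a / (ρ.comp f) s = 0
      rw [RingHom.comp_apply, RingHom.comp_apply, hs, div_zero]
  · refine ⟨a, s, ?_, ?_⟩
    · rw [← hρ, RingHom.mem_ker]; exact hs
    · rw [← hρ, RingHom.mem_ker, map_sub, map_mul, sub_eq_zero, ← hyx]
      show ρ (f s) * (ρ (f a) / ρ (f s)) = ρ (f a)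
      rw [mul_div_cancel₀ _ hs]

end field

end Groth.Agent.H5.Pop.CAW
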