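import Mathlib
import Groth.Agent.Lib.Helper5.Pop.EtIso2

set_option autoImplicit false
universe u
open IsLocalRing TensorProduct

namespace Groth.Agent.H5.Pop

section Core

variable {OX OU OY : Type u} [CommRing OX] [CommRing OU] [CommRing OY] [IsLocalRing OX]
  [IsLocalRing OU] [IsLocalRing OY] [IsNoetherianRing OX] [IsNoetherianRing OY]
  [IsNoetherianRing OU]
  (E : OX →+* OU) (hE : (maximalIdeal OX).map E = maximalIdeal OU)
  (hres : ∀ z : OU, ∃ w : OX, z - E w ∈ maximalIdeal OU)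
  (Ψ : OU →+* AdicCompletion (maximalIdeal OX) OX)
  (hΨE : ∀ w, Ψ (E w) = algebraMap OX (AdicCompletion (maximalIdeal OX) OX) w)
  (Fm : OY →+* OU)
  (φ : AdicCompletion (maximalIdeal OY) OY ≃+* AdicCompletion (maximalIdeal OX) OX)
  (happ : ∀ b : OY, Ψ (Fm b) - φ (algebraMap OY (AdicCompletion (maximalIdeal OY) OY) b) ∈
    (maximalIdeal OX ^ 2).map (algebraMap OX (AdicCompletion (maximalIdeal OX) OX)))

include hE hres hΨE happ in
/-- Claim 3: the extension of `Ψ ∘ Fm` to the completion is bijective. -/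
theorem exists_Theta : ∃ Θ : AdicCompletion (maximalIdeal OY) OY →+*
    AdicCompletion (maximalIdeal OX) OX,
    (∀ b, Θ (algebraMap OY (AdicCompletion (maximalIdeal OY) OY) b) = Ψ (Fm b)) ∧
    Function.Bijective Θ := by
  have h1 : (maximalIdeal OY).map (Ψ.comp Fm) =
      maximalIdeal (AdicCompletion (maximalIdeal OX) OX) := by
    rw [← Ideal.map_map, map_Fm_maximalIdeal E hE hres Ψ hΨE Fm φ happ, ← hE, Ideal.map_map,
      show Ψ.comp E = algebraMap OX (AdicCompletion (maximalIdeal OX) OX) from RingHom.ext hΨE,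
      AdicCompletion.maximalIdeal_eq_map]
  have h2 : Function.Surjective ((Ideal.Quotient.mk
      (maximalIdeal (AdicCompletion (maximalIdeal OX) OX))).comp (Ψ.comp Fm)) := by
    intro ξ
    obtain ⟨x, rfl⟩ := Ideal.Quotient.mk_surjective ξ
    obtain ⟨t, ht⟩ := exists_sub_algebraMap_mem_pow 1 x
    rw [pow_one] at ht
    obtain ⟨b, hb⟩ := Fm_residue E hE hres Ψ hΨE Fm φ happ (E t)
    refine ⟨b, ?_⟩
    show Ideal.Quotient.mk _ (Ψ (Fm b)) = Ideal.Quotient.mk _ x
    rw [Ideal.Quotient.eq]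
    have h3 := Psi_mem_pow E hE Ψ hΨE 1 _ (by rw [pow_one]; exact hb)
    rw [pow_one, map_sub, hΨE] at h3
    have : Ψ (Fm b) - x = - (algebraMap OX (AdicCompletion (maximalIdeal OX) OX) t - Ψ (Fm b)) -
        (x - algebraMap OX (AdicCompletion (maximalIdeal OX) OX) t) := by ring
    rw [this]
    exact Ideal.sub_mem _ (Ideal.neg_mem_iff _ |>.mpr h3) ht
  obtain ⟨Θ, hΘ, hΘs⟩ := Groth.Agent.H4.ComplLift.complLift_surjective (maximalIdeal OY)
    (maximalIdeal OY).fg_of_isNoetherianRing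
    (maximalIdeal (AdicCompletion (maximalIdeal OX) OX)) (Ψ.comp Fm) h1 h2
  refine ⟨Θ, fun b => hΘ b, ?_, hΘs⟩
  haveI : IsNoetherianRing (AdicCompletion (maximalIdeal OY) OY) :=
    Groth.Agent.S0543.result OY (maximalIdeal OY)
  have hinj := Groth.Agent.H8.NodeCpl.injective_of_surjective_endo (φ.symm.toRingHom.comp Θ)
    (φ.symm.surjective.comp hΘs)
  intro a a' haa'
  apply hinj
  show φ.symm (Θ a) = φ.symm (Θ a')
  rw [haa']

include hE hres hΨE happ in
/-- Claim 4: `Fm` reflects powers of the maximal ideal. -/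
theorem mem_pow_of_Fm_mem_pow (n : ℕ) (b : OY) (hb : Fm b ∈ maximalIdeal OU ^ n) :
    b ∈ maximalIdeal OY ^ n := by
  obtain ⟨Θ, hΘ, hΘb⟩ := exists_Theta E hE hres Ψ hΨE Fm φ happ
  have h1 := Psi_mem_pow E hE Ψ hΨE n _ hb
  rw [← hΘ, mem_maximalIdeal_pow_iff_of_bijective Θ hΘb] at h1
  exact mem_pow_of_algebraMap_mem_pow n b h1

include hE hres hΨE happ in
/-- Claim 5: `Fm` is flat. -/
theorem flat_Fm : letI := Fm.toAlgebra; Module.Flat OY OU := by
  letI := Fm.toAlgebra
  have hmap := map_Fm_maximalIdeal E hE hres Ψ hΨE Fm φ happ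
  refine Groth.Agent.H1.flat_of_forall_flat_quotient_pow (A := OY) (B := OU) (M := OU)
    (maximalIdeal OY) ?_ ?_
  · show (maximalIdeal OY).map Fm ≤ _
    rw [hmap]
    exact IsLocalRing.maximalIdeal_le_jacobson ⊥
  · intro n _
    -- the comparison map
    let g : OY →ₗ[OY] OU ⧸ ((maximalIdeal OY ^ n) • (⊤ : Submodule OY OU)) :=
      (Submodule.mkQ _).comp (Algebra.linearMap OY OU)
    have hmem : ∀ z : OU, z ∈ ((maximalIdeal OY ^ n) • (⊤ : Submodule OY OU)) ↔
        z ∈ maximalIdeal OU ^ n := by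
      intro z
      rw [Ideal.smul_top_eq_map, Submodule.restrictScalars_mem]
      show z ∈ (maximalIdeal OY ^ n).map Fm ↔ _
      rw [Ideal.map_pow, hmap]
    have hker : LinearMap.ker g = (maximalIdeal OY ^ n : Ideal OY) := by
      ext b
      rw [LinearMap.mem_ker]
      show Submodule.Quotient.mk (Fm b) = 0 ↔ _
      rw [Submodule.Quotient.mk_eq_zero, hmem]
      constructor
      · exact mem_pow_of_Fm_mem_pow E hE hres Ψ hΨE Fm φ happ n b
      · intro hb
        have := Ideal.mem_map_of_mem Fm hb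
        rwa [Ideal.map_pow, hmap] at this
    have hsurj : Function.Surjective g := by
      intro ζ
      obtain ⟨z, rfl⟩ := Submodule.Quotient.mk_surjective _ ζ
      obtain ⟨w, hw⟩ := exists_sub_mem_pow_of_residue Fm hmap
        (Fm_residue E hE hres Ψ hΨE Fm φ happ) n z
      refine ⟨w, ?_⟩
      show Submodule.Quotient.mk (Fm w) = Submodule.Quotient.mk z
      rw [Submodule.Quotient.eq, hmem, ← Ideal.neg_mem_iff, neg_sub]
      exact hw
    let e2 : (OY ⧸ (maximalIdeal OY ^ n : Ideal OY)) ≃ₗ[OY]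
        OU ⧸ ((maximalIdeal OY ^ n) • (⊤ : Submodule OY OU)) :=
      (Submodule.quotEquivOfEq _ _ hker.symm).trans (LinearMap.quotKerEquivOfSurjective g hsurj)
    let e : ((OY ⧸ maximalIdeal OY ^ n) ⊗[OY] OU) ≃ₗ[OY] (OY ⧸ (maximalIdeal OY ^ n : Ideal OY)) :=
      (TensorProduct.quotTensorEquivQuotSMul OU (maximalIdeal OY ^ n)).trans e2.symm
    exact Module.Flat.of_linearEquiv
      (e.extendScalarsOfSurjective (Ideal.Quotient.mk_surjective (I := maximalIdeal OY ^ n)))

end Core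

end Groth.Agent.H5.Pop
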