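import Mathlib
import Groth.Agent.Lib.Helper5.Pop.CAW1
import Groth.Agent.Lib.Helper5.Pop.EtIso3

set_option autoImplicit false
universe u
open IsLocalRing TensorProduct

namespace Groth.Agent.H5.Pop.CAW

section Stage1

variable {Λ C : Type u} [CommRing Λ] [CommRing C] [Algebra Λ C]
  (𝔰 : Ideal Λ) [𝔰.IsPrime] (OS : Type u) [CommRing OS] [IsLocalRing OS] [IsNoetherianRing OS]
  [Algebra Λ OS] [IsLocalization.AtPrime OS 𝔰]

local notation "Ôs" => AdicCompletion (maximalIdeal OS) OS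

include 𝔰 in
theorem maximalIdeal_cpl_eq_map :
    maximalIdeal Ôs = 𝔰.map (algebraMap Λ Ôs) := by
  rw [AdicCompletion.maximalIdeal_eq_map, ← IsLocalization.AtPrime.map_eq_maximalIdeal 𝔰 OS,
    Ideal.map_map, ← IsScalarTower.algebraMap_eq]

/-- decomposition of elements of `Ô ⊗ C` modulo `𝔰`. -/
theorem dec (z : Ôs ⊗[Λ] C) : ∃ (t : 𝔰.primeCompl) (c : C),
    algebraMap Λ (Ôs ⊗[Λ] C) t * z - 1 ⊗ₜ c ∈ 𝔰.map (algebraMap Λ (Ôs ⊗[Λ] C)) := by
  induction z using TensorProduct.induction_on with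
  | zero => exact ⟨1, 0, by simp⟩
  | tmul o c₀ =>
    obtain ⟨w, hw⟩ := exists_sub_algebraMap_mem_pow 1 o
    rw [pow_one] at hw
    obtain ⟨l, t, rfl⟩ := IsLocalization.exists_mk'_eq 𝔰.primeCompl w
    refine ⟨t, l • c₀, ?_⟩
    have h1 : algebraMap Λ (Ôs ⊗[Λ] C) t * (o ⊗ₜ c₀) - 1 ⊗ₜ (l • c₀) =
        algebraMap Ôs (Ôs ⊗[Λ] C)
          (algebraMap Λ Ôs t * (o - algebraMap OS Ôs (IsLocalization.mk' OS l t))) *
          (1 ⊗ₜ c₀) := by
      have e1 : algebraMap Λ Ôs t * algebraMap OS Ôs (IsLocalization.mk' OS l t) =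
          algebraMap Λ Ôs l := by
        rw [IsScalarTower.algebraMap_apply Λ OS Ôs, IsScalarTower.algebraMap_apply Λ OS Ôs,
          ← map_mul, mul_comm, IsLocalization.mk'_spec]
      rw [mul_sub, e1, Algebra.TensorProduct.algebraMap_apply,
        Algebra.TensorProduct.algebraMap_apply, Algebra.TensorProduct.tmul_mul_tmul,
        Algebra.TensorProduct.tmul_mul_tmul, one_mul, mul_one, Algebra.algebraMap_self,
        RingHom.id_apply, TensorProduct.sub_tmul,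
        Algebra.algebraMap_eq_smul_one (A := Ôs) l, TensorProduct.smul_tmul]
    rw [h1]
    apply Ideal.mul_mem_right
    have h2 : algebraMap Λ Ôs t * (o - algebraMap OS Ôs (IsLocalization.mk' OS l t)) ∈
        maximalIdeal Ôs := Ideal.mul_mem_left _ _ hw
    rw [maximalIdeal_cpl_eq_map 𝔰 OS] at h2
    have := Ideal.mem_map_of_mem (algebraMap Ôs (Ôs ⊗[Λ] C)) h2
    rwa [Ideal.map_map, ← IsScalarTower.algebraMap_eq] at this
  | add z₁ z₂ h₁ h₂ =>
    obtain ⟨t₁, c₁, h₁⟩ := h₁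
    obtain ⟨t₂, c₂, h₂⟩ := h₂
    refine ⟨t₁ * t₂, (t₂ : Λ) • c₁ + (t₁ : Λ) • c₂, ?_⟩
    have e : ∀ (t : Λ) (c : C), (1 : Ôs) ⊗ₜ[Λ] (t • c) =
        algebraMap Λ (Ôs ⊗[Λ] C) t * (1 ⊗ₜ c) := by
      intro t c
      rw [Algebra.TensorProduct.algebraMap_apply, Algebra.TensorProduct.tmul_mul_tmul, mul_one,
        one_mul, Algebra.algebraMap_eq_smul_one (A := Ôs) t, TensorProduct.smul_tmul]
    have : algebraMap Λ (Ôs ⊗[Λ] C) ((t₁ * t₂ : 𝔰.primeCompl) : Λ) * (z₁ + z₂) -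
        1 ⊗ₜ ((t₂ : Λ) • c₁ + (t₁ : Λ) • c₂) =
        algebraMap Λ (Ôs ⊗[Λ] C) t₂ * (algebraMap Λ (Ôs ⊗[Λ] C) t₁ * z₁ - 1 ⊗ₜ c₁) +
        algebraMap Λ (Ôs ⊗[Λ] C) t₁ * (algebraMap Λ (Ôs ⊗[Λ] C) t₂ * z₂ - 1 ⊗ₜ c₂) := by
      rw [TensorProduct.tmul_add, e, e, Submonoid.coe_mul, map_mul]
      ring
    rw [this]
    exact Ideal.add_mem _ (Ideal.mul_mem_left _ _ h₁) (Ideal.mul_mem_left _ _ h₂)


variable [IsNoetherianRing Λ] [Algebra.FiniteType Λ C]
  (𝔭 : Ideal C) [𝔭.IsPrime] (OX : Type u) [CommRing OX] [IsLocalRing OX] [IsNoetherianRing OX]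
  [Algebra C OX] [IsLocalization.AtPrime OX 𝔭]
  (i : OS →+* OX) [IsLocalHom i]
  (hi : ∀ l : Λ, i (algebraMap Λ OS l) = algebraMap C OX (algebraMap Λ C l))

local notation "Ôx" => AdicCompletion (maximalIdeal OX) OX

include hi in
theorem comap_eq_of_local : 𝔭.comap (algebraMap Λ C) = 𝔰 := by
  ext l
  rw [Ideal.mem_comap, ← IsLocalization.AtPrime.to_map_mem_maximal_iff OX 𝔭, ← hi,
    ← IsLocalization.AtPrime.to_map_mem_maximal_iff OS 𝔰]
  constructor
  · intro h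
    by_contra h2
    have h3 : IsUnit (algebraMap Λ OS l) := by
      rwa [← IsLocalRing.notMem_maximalIdeal] 
    exact (IsLocalRing.notMem_maximalIdeal.mpr (h3.map i)) h
  · intro h
    by_contra h2
    have h3 : IsUnit (i (algebraMap Λ OS l)) := by
      rwa [← IsLocalRing.notMem_maximalIdeal]
    exact (IsLocalRing.notMem_maximalIdeal.mpr ((isUnit_map_iff i _).mp h3)) h

theorem algebraMap_cpl_mem_iff (a : OX) : algebraMap OX Ôx a ∈ maximalIdeal Ôx ↔
    a ∈ maximalIdeal OX := by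
  constructor
  · intro h
    have := mem_pow_of_algebraMap_mem_pow 1 a (by rwa [pow_one])
    rwa [pow_one] at this
  · intro h
    rw [AdicCompletion.maximalIdeal_eq_map]
    exact Ideal.mem_map_of_mem _ h

include hi in
theorem exists_kappa (j : Ôs →+* Ôx)
    (hj : ∀ o : OS, j (algebraMap OS Ôs o) = algebraMap OX Ôx (i o)) :
    ∃ κ : Ôs ⊗[Λ] C →+* Ôx, ∀ o c, κ (o ⊗ₜ c) =
      j o * algebraMap OX Ôx (algebraMap C OX c) := by
  letI algΛOX : Algebra Λ OX := ((algebraMap C OX).comp (algebraMap Λ C)).toAlgebra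
  haveI : IsScalarTower Λ C OX := IsScalarTower.of_algebraMap_eq fun _ => rfl
  let jΛ : Ôs →ₐ[Λ] Ôx :=
    { j with
      commutes' := fun l => by
        show j (algebraMap Λ Ôs l) = algebraMap Λ Ôx l
        rw [IsScalarTower.algebraMap_apply Λ OS Ôs, hj, hi,
          IsScalarTower.algebraMap_apply Λ OX Ôx]
        rfl }
  let gΛ : C →ₐ[Λ] Ôx := (IsScalarTower.toAlgHom Λ OX Ôx).comp (IsScalarTower.toAlgHom Λ C OX)
  exact ⟨(Algebra.TensorProduct.productMap jΛ gΛ).toRingHom, fun o c => by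
      show Algebra.TensorProduct.productMap jΛ gΛ (o ⊗ₜ c) = _
      rw [Algebra.TensorProduct.productMap_apply_tmul]
      rfl⟩

variable (j : AdicCompletion (maximalIdeal OS) OS →+* AdicCompletion (maximalIdeal OX) OX)
  (hj : ∀ o : OS, j (algebraMap OS (AdicCompletion (maximalIdeal OS) OS) o) =
    algebraMap OX (AdicCompletion (maximalIdeal OX) OX) (i o))
  (κ : AdicCompletion (maximalIdeal OS) OS ⊗[Λ] C →+* AdicCompletion (maximalIdeal OX) OX)
  (hκ : ∀ o c, κ (o ⊗ₜ c) = j o * algebraMap OX (AdicCompletion (maximalIdeal OX) OX)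
    (algebraMap C OX c))
  (𝔭σ : Ideal (AdicCompletion (maximalIdeal OS) OS ⊗[Λ] C)) [𝔭σ.IsPrime]
  (h𝔭σ : 𝔭σ = (maximalIdeal (AdicCompletion (maximalIdeal OX) OX)).comap κ)
  (OXσ : Type u) [CommRing OXσ] [IsLocalRing OXσ]
  [Algebra (AdicCompletion (maximalIdeal OS) OS ⊗[Λ] C) OXσ] [IsLocalization.AtPrime OXσ 𝔭σ]

include hκ h𝔭σ in
theorem comap_includeRight :
    𝔭σ.comap (Algebra.TensorProduct.includeRight : C →ₐ[Λ] Ôs ⊗[Λ] C).toRingHom = 𝔭 := by
  ext c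
  rw [Ideal.mem_comap, h𝔭σ, Ideal.mem_comap]
  show κ (1 ⊗ₜ c) ∈ _ ↔ _
  rw [hκ, map_one, one_mul, algebraMap_cpl_mem_iff,
    IsLocalization.AtPrime.to_map_mem_maximal_iff OX 𝔭]

include hj in
theorem j_mem (o : Ôs) (ho : o ∈ maximalIdeal Ôs) : j o ∈ maximalIdeal Ôx := by
  have : (maximalIdeal Ôs).map j ≤ maximalIdeal Ôx := by
    rw [AdicCompletion.maximalIdeal_eq_map, Ideal.map_map, Ideal.map_le_iff_le_comap]
    intro s hs
    rw [Ideal.mem_comap, RingHom.comp_apply, hj, algebraMap_cpl_mem_iff]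
    by_contra h2
    have h3 : IsUnit (i s) := by rwa [← IsLocalRing.notMem_maximalIdeal]
    exact (IsLocalRing.notMem_maximalIdeal.mpr ((isUnit_map_iff i _).mp h3)) hs
  exact this (Ideal.mem_map_of_mem _ ho)

include hj hκ h𝔭σ in
theorem comap_algebraMap :
    𝔭σ.comap (algebraMap Ôs (Ôs ⊗[Λ] C)) = maximalIdeal Ôs := by
  apply le_antisymm
  · apply IsLocalRing.le_maximalIdeal
    intro h
    have h1 : (1 : Ôs) ∈ 𝔭σ.comap (algebraMap Ôs (Ôs ⊗[Λ] C)) := by rw [h]; trivial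
    rw [Ideal.mem_comap, map_one] at h1
    exact (Ideal.IsPrime.ne_top (I := 𝔭σ) inferInstance) ((Ideal.eq_top_iff_one _).mpr h1)
  · intro o ho
    rw [Ideal.mem_comap, h𝔭σ, Ideal.mem_comap, Algebra.TensorProduct.algebraMap_apply]
    show κ (o ⊗ₜ 1) ∈ _
    rw [hκ, map_one, map_one, mul_one]
    exact j_mem OS OX i j hj o ho


theorem includeRight_algebraMap (l : Λ) :
    (Algebra.TensorProduct.includeRight : C →ₐ[Λ] AdicCompletion (maximalIdeal OS) OS ⊗[Λ] C)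
      (algebraMap Λ C l) = algebraMap Λ _ l := by
  rw [AlgHom.commutes]

include 𝔰 hj hκ h𝔭σ in
theorem algebraMap_mem_iff (l : Λ) :
    algebraMap Λ (AdicCompletion (maximalIdeal OS) OS ⊗[Λ] C) l ∈ 𝔭σ ↔ l ∈ 𝔰 := by
  have h1 := comap_algebraMap OS OX i j hj κ hκ 𝔭σ h𝔭σ
  rw [IsScalarTower.algebraMap_apply Λ (AdicCompletion (maximalIdeal OS) OS), ← Ideal.mem_comap, h1,
    IsScalarTower.algebraMap_apply Λ OS, algebraMap_cpl_mem_iff,
    IsLocalization.AtPrime.to_map_mem_maximal_iff OS 𝔰]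

include 𝔰 hj hκ h𝔭σ in
theorem resSurj_includeRight :
    ResSurj (Algebra.TensorProduct.includeRight :
      C →ₐ[Λ] AdicCompletion (maximalIdeal OS) OS ⊗[Λ] C).toRingHom 𝔭σ := by
  intro z
  obtain ⟨t, c, h⟩ := dec 𝔰 OS z
  refine ⟨c, algebraMap Λ C t, ?_, ?_⟩
  · show (Algebra.TensorProduct.includeRight :
      C →ₐ[Λ] AdicCompletion (maximalIdeal OS) OS ⊗[Λ] C) (algebraMap Λ C t) ∉ 𝔭σ
    rw [includeRight_algebraMap, algebraMap_mem_iff 𝔰 OS OX i j hj κ hκ 𝔭σ h𝔭σ]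
    exact t.2
  · show (Algebra.TensorProduct.includeRight :
      C →ₐ[Λ] AdicCompletion (maximalIdeal OS) OS ⊗[Λ] C) (algebraMap Λ C t) * z - 1 ⊗ₜ c ∈ 𝔭σ
    rw [includeRight_algebraMap]
    have hle : 𝔰.map (algebraMap Λ (AdicCompletion (maximalIdeal OS) OS ⊗[Λ] C)) ≤ 𝔭σ := by
      rw [Ideal.map_le_iff_le_comap]
      intro l hl
      exact (algebraMap_mem_iff 𝔰 OS OX i j hj κ hκ 𝔭σ h𝔭σ l).mpr hl
    exact hle h

include 𝔭 hκ h𝔭σ in
/-- the map of local rings `OX → OXσ`. -/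
theorem exists_fσ : ∃ f : OX →+* OXσ, ∀ c : C,
    f (algebraMap C OX c) = algebraMap (AdicCompletion (maximalIdeal OS) OS ⊗[Λ] C)
      (OXσ) (1 ⊗ₜ c) := by
  have ha := comap_includeRight OS 𝔭 OX j κ hκ 𝔭σ h𝔭σ
  have hu : ∀ y : 𝔭.primeCompl, IsUnit
      (((algebraMap (AdicCompletion (maximalIdeal OS) OS ⊗[Λ] C) (OXσ)).comp
      (Algebra.TensorProduct.includeRight :
        C →ₐ[Λ] AdicCompletion (maximalIdeal OS) OS ⊗[Λ] C).toRingHom) (y : C)) := by
    intro y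
    apply IsLocalization.map_units (OXσ)
      (⟨(Algebra.TensorProduct.includeRight :
        C →ₐ[Λ] AdicCompletion (maximalIdeal OS) OS ⊗[Λ] C) (y : C), ?_⟩ : 𝔭σ.primeCompl)
    intro h
    have : (y : C) ∈ 𝔭σ.comap (Algebra.TensorProduct.includeRight :
        C →ₐ[Λ] AdicCompletion (maximalIdeal OS) OS ⊗[Λ] C).toRingHom := h
    rw [ha] at this
    exact y.2 this
  exact ⟨IsLocalization.lift (M := 𝔭.primeCompl) hu, fun c => IsLocalization.lift_eq hu c⟩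


set_option maxHeartbeats 1600000 in
include 𝔰 𝔭 hi hj hκ h𝔭σ in
/-- Stage 1: the completion of the local ring of `Ô ⊗ C` at `𝔭σ` is the completion of `OX`. -/
theorem stage1 : ∃ β : AdicCompletion (maximalIdeal (OXσ))
      (OXσ) ≃+* AdicCompletion (maximalIdeal OX) OX,
    ∀ z : AdicCompletion (maximalIdeal OS) OS ⊗[Λ] C,
      β (algebraMap (OXσ) _
        (algebraMap (AdicCompletion (maximalIdeal OS) OS ⊗[Λ] C) (OXσ) z)) =
      κ z := by
  haveI : IsNoetherianRing Ôs := Groth.Agent.S0543.result OS (maximalIdeal OS)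
  haveI : IsNoetherianRing Ôx := Groth.Agent.S0543.result OX (maximalIdeal OX)
  haveI : IsNoetherianRing (Ôs ⊗[Λ] C) := Algebra.FiniteType.isNoetherianRing Ôs _
  haveI : IsNoetherianRing (OXσ) :=
    IsLocalization.isNoetherianRing 𝔭σ.primeCompl _ inferInstance
  have h𝔰𝔭 := comap_eq_of_local 𝔰 OS 𝔭 OX i hi
  have ha := comap_includeRight OS 𝔭 OX j κ hκ 𝔭σ h𝔭σ
  obtain ⟨f, hf⟩ := exists_fσ OS 𝔭 OX j κ hκ 𝔭σ h𝔭σ OXσ
  -- the map `λ`
  have huκ : ∀ y : 𝔭σ.primeCompl, IsUnit (κ y) := by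
    intro y
    rw [← IsLocalRing.notMem_maximalIdeal]
    intro h
    have hmem : ∀ z, z ∈ 𝔭σ ↔ κ z ∈ maximalIdeal Ôx := fun z => by rw [h𝔭σ]; rfl
    exact y.2 ((hmem _).mpr h)
  obtain ⟨lam, hlam⟩ : ∃ lam : OXσ →+* Ôx,
      ∀ z, lam (algebraMap (Ôs ⊗[Λ] C) (OXσ) z) = κ z :=
    ⟨IsLocalization.lift huκ, IsLocalization.lift_eq huκ⟩
  have hlamf : lam.comp f = algebraMap OX Ôx := by
    apply IsLocalization.ringHom_ext 𝔭.primeCompl
    apply RingHom.ext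
    intro c
    simp only [RingHom.comp_apply]
    rw [hf, hlam, hκ, map_one, one_mul]
  -- residue fields
  have hres : ∀ y : OXσ, ∃ w : OX, y - f w ∈
      maximalIdeal (OXσ) :=
    local_of_resSurj (Algebra.TensorProduct.includeRight : C →ₐ[Λ] Ôs ⊗[Λ] C).toRingHom 𝔭σ 𝔭 ha
      OX (OXσ) f hf (resSurj_includeRight 𝔰 OS OX i j hj κ hκ 𝔭σ h𝔭σ)
  -- maximal ideals
  have hmax : (maximalIdeal OX).map f = maximalIdeal (OXσ) := by
    apply le_antisymm
    · rw [← IsLocalization.AtPrime.map_eq_maximalIdeal 𝔭 OX, Ideal.map_map,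
        Ideal.map_le_iff_le_comap]
      intro c hc
      rw [Ideal.mem_comap, RingHom.comp_apply, hf,
        IsLocalization.AtPrime.to_map_mem_maximal_iff (OXσ) 𝔭σ]
      rw [← ha] at hc
      exact hc
    · rw [← IsLocalization.AtPrime.map_eq_maximalIdeal 𝔭σ (OXσ),
        Ideal.map_le_iff_le_comap]
      intro z hz
      rw [Ideal.mem_comap]
      obtain ⟨t, c, hd⟩ := dec 𝔰 OS z
      have hle : 𝔰.map (algebraMap Λ (Ôs ⊗[Λ] C)) ≤ 𝔭σ := by
        rw [Ideal.map_le_iff_le_comap]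
        intro l hl
        exact (algebraMap_mem_iff 𝔰 OS OX i j hj κ hκ 𝔭σ h𝔭σ l).mpr hl
      have hc : c ∈ 𝔭 := by
        rw [← ha]
        show (1 : Ôs) ⊗ₜ[Λ] c ∈ 𝔭σ
        have h1 := Ideal.sub_mem _ (Ideal.mul_mem_left 𝔭σ (algebraMap Λ (Ôs ⊗[Λ] C) t) hz)
          (hle hd)
        rwa [sub_sub_cancel] at h1
      have hle2 : (𝔰.map (algebraMap Λ (Ôs ⊗[Λ] C))).map
          (algebraMap (Ôs ⊗[Λ] C) (OXσ)) ≤ (maximalIdeal OX).map f := by
        rw [Ideal.map_map, Ideal.map_le_iff_le_comap]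
        intro l hl
        rw [Ideal.mem_comap, RingHom.comp_apply, ← includeRight_algebraMap OS l]
        show algebraMap (Ôs ⊗[Λ] C) (OXσ) (1 ⊗ₜ algebraMap Λ C l) ∈ _
        rw [← hf]
        apply Ideal.mem_map_of_mem
        rw [IsLocalization.AtPrime.to_map_mem_maximal_iff OX 𝔭, ← Ideal.mem_comap, h𝔰𝔭]
        exact hl
      have hu : IsUnit (algebraMap (Ôs ⊗[Λ] C) (OXσ)
          (algebraMap Λ (Ôs ⊗[Λ] C) t)) := by
        apply IsLocalization.map_units (OXσ)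
          (⟨algebraMap Λ (Ôs ⊗[Λ] C) t, ?_⟩ : 𝔭σ.primeCompl)
        intro h
        exact t.2 ((algebraMap_mem_iff 𝔰 OS OX i j hj κ hκ 𝔭σ h𝔭σ t).mp h)
      rw [← Ideal.unit_mul_mem_iff_mem _ hu, ← map_mul]
      have e1 : algebraMap Λ (Ôs ⊗[Λ] C) t * z =
          (algebraMap Λ (Ôs ⊗[Λ] C) t * z - 1 ⊗ₜ c) + 1 ⊗ₜ c := by ring
      rw [e1, map_add]
      apply Ideal.add_mem
      · exact hle2 (Ideal.mem_map_of_mem _ hd)
      · rw [← hf]
        apply Ideal.mem_map_of_mem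
        rw [IsLocalization.AtPrime.to_map_mem_maximal_iff OX 𝔭]
        exact hc
  -- the two surjections
  obtain ⟨α, hα, hαs⟩ := Groth.Agent.H4.ComplLift.complLift_surjective (maximalIdeal OX)
    (maximalIdeal OX).fg_of_isNoetherianRing
    (maximalIdeal (AdicCompletion (maximalIdeal (OXσ))
      (OXσ)))
    ((algebraMap (OXσ) _).comp f)
    (by rw [← Ideal.map_map, hmax, ← AdicCompletion.maximalIdeal_eq_map])
    (by
      intro ξ
      obtain ⟨x, rfl⟩ := Ideal.Quotient.mk_surjective ξ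
      obtain ⟨y, hy⟩ := exists_sub_algebraMap_mem_pow 1 x
      rw [pow_one] at hy
      obtain ⟨w, hw⟩ := hres y
      refine ⟨w, ?_⟩
      show Ideal.Quotient.mk _ (algebraMap (OXσ) _ (f w)) =
        Ideal.Quotient.mk _ x
      rw [Ideal.Quotient.eq]
      have h3 : algebraMap (OXσ)
          (AdicCompletion (maximalIdeal (OXσ)) (OXσ))
          (y - f w) ∈ maximalIdeal _ := by
        rw [AdicCompletion.maximalIdeal_eq_map]
        exact Ideal.mem_map_of_mem _ hw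
      have : algebraMap (OXσ)
          (AdicCompletion (maximalIdeal (OXσ)) (OXσ))
          (f w) - x = - (x - algebraMap _ _ y) - algebraMap _ _ (y - f w) := by
        rw [map_sub]; ring
      rw [this]
      exact Ideal.sub_mem _ (Ideal.neg_mem_iff _ |>.mpr hy) h3)
  obtain ⟨β, hβ, hβs⟩ := Groth.Agent.H4.ComplLift.complLift_surjective
    (maximalIdeal (OXσ))
    (maximalIdeal (OXσ)).fg_of_isNoetherianRing
    (maximalIdeal Ôx) lam
    (by rw [← hmax, Ideal.map_map, hlamf, ← AdicCompletion.maximalIdeal_eq_map])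
    (by
      intro ξ
      obtain ⟨x, rfl⟩ := Ideal.Quotient.mk_surjective ξ
      obtain ⟨w, hw⟩ := exists_sub_algebraMap_mem_pow 1 x
      rw [pow_one] at hw
      refine ⟨f w, ?_⟩
      show Ideal.Quotient.mk _ (lam (f w)) = Ideal.Quotient.mk _ x
      rw [Ideal.Quotient.eq, ← Ideal.neg_mem_iff, neg_sub]
      have : lam (f w) = algebraMap OX Ôx w := congrArg (fun g => g w) hlamf
      rw [this]
      exact hw)
  have hinj := Groth.Agent.H8.NodeCpl.injective_of_surjective_endo (β.comp α)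
    (hβs.comp hαs)
  have hβinj : Function.Injective β := by
    intro y y' h
    obtain ⟨x, rfl⟩ := hαs y
    obtain ⟨x', rfl⟩ := hαs y'
    rw [hinj h]
  refine ⟨RingEquiv.ofBijective β ⟨hβinj, hβs⟩, fun z => ?_⟩
  show β (algebraMap (OXσ) _ (algebraMap _ _ z)) = κ z
  rw [← hlam]
  exact hβ _

end Stage1

end Groth.Agent.H5.Pop.CAW
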