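import Mathlib
import Groth.Agent.Lib.Helper5.CA.WeakColimitDescent

set_option autoImplicit false
universe u
open TensorProduct

namespace Groth.Agent.H5.Pop.CAW

open Groth.Agent.H5.CA

theorem etale_comp {R S T : Type u} [CommRing R] [CommRing S] [CommRing T] {f : R →+* S}
    {g : S →+* T} (hf : f.Etale) (hg : g.Etale) : (g.comp f).Etale :=
  RingHom.Etale.stableUnderComposition f g hf hg

theorem etale_of_ringEquiv {R S : Type u} [CommRing R] [CommRing S] (e : R ≃+* S) :
    e.toRingHom.Etale :=
  RingHom.Etale.of_bijective e.bijective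

section iso

variable (K M N S : Type u) [CommRing K] [CommRing M] [CommRing N] [CommRing S] [Algebra K M]
  [Algebra K N] [Algebra K S] [Algebra M N] [IsScalarTower K M N]

/-- `(M ⊗[K] S) ⊗[M] N ≃ S ⊗[K] N`. -/
noncomputable def isoS : (M ⊗[K] S) ⊗[M] N ≃+* S ⊗[K] N :=
  ((Algebra.TensorProduct.comm M (M ⊗[K] S) N).toRingEquiv.trans
    (Algebra.TensorProduct.cancelBaseChange K M M N S).toRingEquiv).trans
    (Algebra.TensorProduct.comm K N S).toRingEquiv

theorem isoS_tmul (m : M) (s : S) (n : N) :
    isoS K M N S ((m ⊗ₜ s) ⊗ₜ n) = s ⊗ₜ (m • n) := by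
  simp [isoS]

end iso

section DL

variable {K : Type u} [CommRing K] {ι : Type*} {G : ι → Type u} [∀ i, CommRing (G i)]
  [∀ i, Algebra K (G i)] {A : Type u} [CommRing A] [Algebra K A] (W : WeakColimit K G A)
  {M N : Type u} [CommRing M] [CommRing N] [Algebra K M] [Algebra K N]
  [Algebra.FiniteType K M] [Algebra.FinitePresentation K N]

theorem comp_comm_eq (S : Type u) [CommRing S] [Algebra K S] (f : M →ₐ[K] N) :
    letI := f.toRingHom.toAlgebra
    haveI : IsScalarTower K M N := IsScalarTower.of_algebraMap_eq fun k => (f.commutes k).symm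
    ((isoS K M N S).toRingHom.comp (algebraMap (M ⊗[K] S) ((M ⊗[K] S) ⊗[M] N))) =
      ((Algebra.TensorProduct.map (AlgHom.id S S) f).toRingHom.comp
        (Algebra.TensorProduct.comm K M S).toAlgHom.toRingHom) := by
  letI := f.toRingHom.toAlgebra
  haveI : IsScalarTower K M N := IsScalarTower.of_algebraMap_eq fun k => (f.commutes k).symm
  have : ∀ x : M ⊗[K] S, (isoS K M N S) (algebraMap (M ⊗[K] S) ((M ⊗[K] S) ⊗[M] N) x) =
      Algebra.TensorProduct.map (AlgHom.id S S) f (Algebra.TensorProduct.comm K M S x) := by
    intro x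
    induction x using TensorProduct.induction_on with
    | zero => simp
    | add x y hx hy => simp only [map_add, hx, hy]
    | tmul m s =>
      rw [Algebra.TensorProduct.algebraMap_apply, Algebra.TensorProduct.comm_tmul,
        Algebra.TensorProduct.map_tmul]
      show isoS K M N S ((m ⊗ₜ s) ⊗ₜ 1) = _
      rw [isoS_tmul]
      show s ⊗ₜ (m • (1 : N)) = s ⊗ₜ f m
      rw [Algebra.smul_def, mul_one]
      rfl
  exact RingHom.ext this

include W in
/-- Descent of étaleness of a map between finitely presented algebras along a weak colimit. -/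
theorem exists_etale_map (f : M →ₐ[K] N)
    (h : (Algebra.TensorProduct.map (AlgHom.id A A) f).toRingHom.Etale) :
    ∃ j : ι, ∀ (S : Type u) [CommRing S] [Algebra K S] (_ : G j →ₐ[K] S),
      (Algebra.TensorProduct.map (AlgHom.id S S) f).toRingHom.Etale := by
  letI := f.toRingHom.toAlgebra
  haveI : IsScalarTower K M N := IsScalarTower.of_algebraMap_eq fun k => (f.commutes k).symm
  haveI : Algebra.FinitePresentation M N :=
    Algebra.FinitePresentation.of_restrict_scalars_finitePresentation K M N
  -- the key identity, for all `S`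
  have key : ∀ (S : Type u) [CommRing S] [Algebra K S],
      (algebraMap (M ⊗[K] S) ((M ⊗[K] S) ⊗[M] N)).Etale ↔
        (Algebra.TensorProduct.map (AlgHom.id S S) f).toRingHom.Etale := by
    intro S _ _
    have e1 := comp_comm_eq (K := K) S f
    constructor
    · intro h1
      have h2 := etale_comp h1 (etale_of_ringEquiv (isoS K M N S))
      rw [e1] at h2
      have h3 := etale_comp (etale_of_ringEquiv (Algebra.TensorProduct.comm K S M).toRingEquiv) h2
      convert h3 using 1
      apply RingHom.ext
      intro x
      induction x using TensorProduct.induction_on with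
      | zero => simp
      | add x y hx hy => simp only [map_add, hx, hy]
      | tmul s m => simp
    · intro h1
      have h2 := etale_comp (etale_of_ringEquiv (Algebra.TensorProduct.comm K M S).toRingEquiv) h1
      have h3 : ((isoS K M N S).toRingHom.comp
          (algebraMap (M ⊗[K] S) ((M ⊗[K] S) ⊗[M] N))).Etale := by
        rw [e1]; exact h2
      have h4 := etale_comp h3 (etale_of_ringEquiv (isoS K M N S).symm)
      convert h4 using 1
      apply RingHom.ext
      intro x
      simp
  have hyp : Algebra.Etale (M ⊗[K] A) ((M ⊗[K] A) ⊗[M] N) :=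
    RingHom.etale_algebraMap.mp ((key A).mpr h)
  obtain ⟨j, hj⟩ := (W.baseChange M).exists_etale (C := N) hyp
  refine ⟨j, fun S _ _ θ => ?_⟩
  have := hj (M ⊗[K] S) (Algebra.TensorProduct.map (AlgHom.id M M) θ)
  exact (key S).mp (RingHom.etale_algebraMap.mpr this)

end DL

end Groth.Agent.H5.Pop.CAW
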