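import Mathlib
import Groth.Agent.Lib.Helper5.Pop.CAW3

set_option autoImplicit false
universe u
open TensorProduct

namespace Groth.Agent.H5.Pop.CAW

open Groth.Agent.H5.CA

instance fgDirected (K A : Type u) [CommRing K] [CommRing A] [Algebra K A] :
    IsDirected {P : Subalgebra K A // P.FG} (· ≤ ·) :=
  ⟨fun P Q => ⟨⟨P.1 ⊔ Q.1, P.2.sup Q.2⟩, le_sup_left (a := P.1), le_sup_right (b := Q.1)⟩⟩

instance fgNonempty (K A : Type u) [CommRing K] [CommRing A] [Algebra K A] :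
    Nonempty {P : Subalgebra K A // P.FG} := ⟨⟨⊥, Subalgebra.fg_bot⟩⟩

/-- The weak colimit of the finitely generated subalgebras. -/
noncomputable def fgWeakColimit (K A : Type u) [CommRing K] [CommRing A] [Algebra K A] :
    WeakColimit K (fun P : {P : Subalgebra K A // P.FG} => ↥P.1) A :=
  WeakColimit.ofDirected K (fun P : {P : Subalgebra K A // P.FG} => ↥P.1)
    (fun _ _ h => Subalgebra.inclusion h) A (fun P => P.1.val)
    (fun _ _ _ => rfl)
    (by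
      intro a
      refine ⟨⟨Algebra.adjoin K {a}, ?_⟩, ⟨a, Algebra.subset_adjoin (Set.mem_singleton a)⟩, rfl⟩
      have := Subalgebra.fg_adjoin_finset (R := K) ({a} : Finset A)
      simpa using this)
    (by
      intro i x hx
      refine ⟨i, le_rfl, ?_⟩
      have : x = 0 := Subtype.ext hx
      rw [this, map_zero])

theorem fgWeakColimit_g (K A : Type u) [CommRing K] [CommRing A] [Algebra K A]
    (P : {P : Subalgebra K A // P.FG}) : (fgWeakColimit K A).g P = P.1.val := rfl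

end Groth.Agent.H5.Pop.CAW

namespace Groth.Agent.H5.Pop.CAW

open Groth.Agent.H5.CA

section S3a

variable {Λ C K₀ A N₀ R : Type u} [CommRing Λ] [CommRing C] [CommRing K₀] [CommRing A]
  [CommRing N₀] [CommRing R] [Algebra Λ C] [Algebra Λ K₀] [Algebra K₀ A] [Algebra Λ A]
  [IsScalarTower Λ K₀ A] [Algebra K₀ N₀] [Algebra A R]

/-- the identification `A ⊗[P] (P ⊗[K₀] N₀) ≃ R`. -/
noncomputable def EP (P : Subalgebra K₀ A) (e : A ⊗[K₀] N₀ ≃ₐ[A] R) :
    A ⊗[↥P] (↥P ⊗[K₀] N₀) ≃ₐ[A] R :=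
  (Algebra.TensorProduct.cancelBaseChange K₀ ↥P A A N₀).trans e

theorem EP_one_tmul (P : Subalgebra K₀ A) (e : A ⊗[K₀] N₀ ≃ₐ[A] R) (y : ↥P ⊗[K₀] N₀) :
    EP P e (1 ⊗ₜ y) = e (Algebra.TensorProduct.map P.val (AlgHom.id K₀ N₀) y) := by
  induction y using TensorProduct.induction_on with
  | zero => simp
  | add x y hx hy => rw [TensorProduct.tmul_add, map_add, map_add, map_add, hx, hy]
  | tmul p n =>
    show e (Algebra.TensorProduct.cancelBaseChange K₀ ↥P A A N₀ (1 ⊗ₜ (p ⊗ₜ n))) = _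
    rw [Algebra.TensorProduct.cancelBaseChange_tmul, Algebra.TensorProduct.map_tmul]
    congr 2
    show p • (1 : A) = (p : A)
    rw [Algebra.smul_def, mul_one]
    rfl

/-- extension of a `K₀`-linear map to a `P`-linear map -/
noncomputable def extendHom (P : Subalgebra K₀ A) (ρ' : K₀ ⊗[Λ] C →ₐ[K₀] ↥P ⊗[K₀] N₀) :
    ↥P ⊗[Λ] C →ₐ[↥P] ↥P ⊗[K₀] N₀ :=
  Algebra.TensorProduct.lift (Algebra.ofId ↥P (↥P ⊗[K₀] N₀))
    ((ρ'.restrictScalars Λ).comp (Algebra.TensorProduct.includeRight : C →ₐ[Λ] K₀ ⊗[Λ] C))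
    (fun _ _ => Commute.all _ _)

theorem extendHom_tmul (P : Subalgebra K₀ A) (ρ' : K₀ ⊗[Λ] C →ₐ[K₀] ↥P ⊗[K₀] N₀) (p : ↥P)
    (c : C) : extendHom P ρ' (p ⊗ₜ c) = (p ⊗ₜ (1 : N₀)) * ρ' (1 ⊗ₜ c) := by
  rw [extendHom, Algebra.TensorProduct.lift_tmul]
  rfl

theorem map_val_smul (P : Subalgebra K₀ A) (p : ↥P) (y : ↥P ⊗[K₀] N₀) :
    Algebra.TensorProduct.map P.val (AlgHom.id K₀ N₀) ((p ⊗ₜ (1 : N₀)) * y) =
      (p : A) • Algebra.TensorProduct.map P.val (AlgHom.id K₀ N₀) y := by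
  rw [Algebra.smul_def, map_mul, Algebra.TensorProduct.algebraMap_apply,
    Algebra.TensorProduct.map_tmul]
  rfl

theorem extendHom_compat (P : Subalgebra K₀ A) (e : A ⊗[K₀] N₀ ≃ₐ[A] R)
    (uC : A ⊗[Λ] C →ₐ[A] R) (ρ' : K₀ ⊗[Λ] C →ₐ[K₀] ↥P ⊗[K₀] N₀)
    (h : ∀ c : C, e (Algebra.TensorProduct.map P.val (AlgHom.id K₀ N₀) (ρ' (1 ⊗ₜ c))) =
      uC (1 ⊗ₜ c)) (x : ↥P ⊗[Λ] C) :
    EP P e (1 ⊗ₜ extendHom P ρ' x) =
      uC (Algebra.TensorProduct.map (Algebra.ofId ↥P A) (AlgHom.id Λ C) x) := by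
  induction x using TensorProduct.induction_on with
  | zero => simp
  | add x y hx hy => rw [map_add, TensorProduct.tmul_add, map_add, map_add, map_add, hx, hy]
  | tmul p c =>
    rw [EP_one_tmul, extendHom_tmul, map_val_smul, map_smul, h, Algebra.TensorProduct.map_tmul,
      ← map_smul]
    congr 1
    rw [TensorProduct.smul_tmul', smul_eq_mul, mul_one]
    rfl

end S3a

end Groth.Agent.H5.Pop.CAW

namespace Groth.Agent.H5.Pop.CAW

open Groth.Agent.H5.CA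

section S3aMain

variable {Λ C D B K₀ A N₀ R : Type u} [CommRing Λ] [CommRing C] [CommRing D] [CommRing B]
  [CommRing K₀] [CommRing A] [CommRing N₀] [CommRing R] [Algebra Λ C] [Algebra D B]
  [Algebra Λ K₀] [Algebra D K₀] [Algebra K₀ A] [Algebra Λ A] [Algebra D A]
  [IsScalarTower Λ K₀ A] [IsScalarTower D K₀ A] [Algebra K₀ N₀] [Algebra A R]
  [Algebra K₀ R] [IsScalarTower K₀ A R]
  [Algebra.FinitePresentation Λ C] [Algebra.FinitePresentation D B]

theorem exists_stage_maps (e : A ⊗[K₀] N₀ ≃ₐ[A] R) (uC : A ⊗[Λ] C →ₐ[A] R)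
    (uB : A ⊗[D] B →ₐ[A] R) :
    ∃ (P : Subalgebra K₀ A), P.FG ∧ ∃ (fC : ↥P ⊗[Λ] C →ₐ[↥P] ↥P ⊗[K₀] N₀)
      (fB : ↥P ⊗[D] B →ₐ[↥P] ↥P ⊗[K₀] N₀),
      (∀ x, EP P e (1 ⊗ₜ fC x) =
        uC (Algebra.TensorProduct.map (Algebra.ofId ↥P A) (AlgHom.id Λ C) x)) ∧
      (∀ x, EP P e (1 ⊗ₜ fB x) =
        uB (Algebra.TensorProduct.map (Algebra.ofId ↥P A) (AlgHom.id D B) x)) := by
  set WN := (fgWeakColimit K₀ A).tensorRight N₀ with hWN
  obtain ⟨ρC, hρC⟩ : ∃ ρC : K₀ ⊗[Λ] C →ₐ[K₀] A ⊗[K₀] N₀, ∀ x, e (ρC x) =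
      uC (Algebra.TensorProduct.map (Algebra.ofId K₀ A) (AlgHom.id Λ C) x) :=
    ⟨((e.symm : R ≃ₐ[A] _).toAlgHom.restrictScalars K₀).comp
      ((uC.restrictScalars K₀).comp
        (Algebra.TensorProduct.map (Algebra.ofId K₀ A) (AlgHom.id Λ C))), fun x => by simp⟩
  obtain ⟨ρB, hρB⟩ : ∃ ρB : K₀ ⊗[D] B →ₐ[K₀] A ⊗[K₀] N₀, ∀ x, e (ρB x) =
      uB (Algebra.TensorProduct.map (Algebra.ofId K₀ A) (AlgHom.id D B) x) :=
    ⟨((e.symm : R ≃ₐ[A] _).toAlgHom.restrictScalars K₀).comp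
      ((uB.restrictScalars K₀).comp
        (Algebra.TensorProduct.map (Algebra.ofId K₀ A) (AlgHom.id D B))), fun x => by simp⟩
  obtain ⟨i₀⟩ := WN.nonempty
  obtain ⟨P₁, -, -, ρC', hC'⟩ := WN.exists_factor (K₀ ⊗[Λ] C) ρC i₀
  obtain ⟨P₂, Φ, hΦ, ρB', hB'⟩ := WN.exists_factor (K₀ ⊗[D] B) ρB P₁
  have hg : ∀ y, WN.g P₂ y = Algebra.TensorProduct.map P₂.1.val (AlgHom.id K₀ N₀) y :=
    fun _ => rfl
  refine ⟨P₂.1, P₂.2, extendHom P₂.1 (Φ.comp ρC'), extendHom P₂.1 ρB', ?_, ?_⟩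
  · apply extendHom_compat
    intro c
    rw [← hg, AlgHom.comp_apply, WN.g_adm Φ hΦ]
    have := AlgHom.congr_fun hC' (1 ⊗ₜ c)
    rw [AlgHom.comp_apply] at this
    rw [this, hρC, Algebra.TensorProduct.map_tmul, map_one]
    rfl
  · apply extendHom_compat
    intro b
    rw [← hg]
    have := AlgHom.congr_fun hB' (1 ⊗ₜ b)
    rw [AlgHom.comp_apply] at this
    rw [this, hρB, Algebra.TensorProduct.map_tmul, map_one]
    rfl

end S3aMain

section S3b

variable {Λ C K A N R : Type u} [CommRing Λ] [CommRing C] [CommRing K] [CommRing A] [CommRing N]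
  [CommRing R] [Algebra Λ C] [Algebra Λ K] [Algebra K A] [Algebra Λ A] [IsScalarTower Λ K A]
  [Algebra K N] [Algebra A R]

theorem cancel_eq_smul (a : A) (y : K ⊗[Λ] C) :
    Algebra.TensorProduct.cancelBaseChange Λ K A A C (a ⊗ₜ y) =
      a • Algebra.TensorProduct.map (Algebra.ofId K A) (AlgHom.id Λ C) y := by
  induction y using TensorProduct.induction_on with
  | zero => simp
  | add x y hx hy => rw [TensorProduct.tmul_add, map_add, map_add, smul_add, hx, hy]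
  | tmul k c =>
    rw [Algebra.TensorProduct.cancelBaseChange_tmul, Algebra.TensorProduct.map_tmul,
      TensorProduct.smul_tmul', smul_eq_mul, Algebra.smul_def, mul_comm]
    rfl

theorem etale_map_id (E : A ⊗[K] N ≃ₐ[A] R) (uC : A ⊗[Λ] C →ₐ[A] R)
    (huC : uC.toRingHom.Etale) (fC : K ⊗[Λ] C →ₐ[K] N)
    (hC : ∀ x, E (1 ⊗ₜ fC x) =
      uC (Algebra.TensorProduct.map (Algebra.ofId K A) (AlgHom.id Λ C) x)) :
    (Algebra.TensorProduct.map (AlgHom.id A A) fC).toRingHom.Etale := by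
  have h1 : ∀ z, E (Algebra.TensorProduct.map (AlgHom.id A A) fC z) =
      uC (Algebra.TensorProduct.cancelBaseChange Λ K A A C z) := by
    intro z
    induction z using TensorProduct.induction_on with
    | zero => simp
    | add x y hx hy => rw [map_add, map_add, map_add, map_add, hx, hy]
    | tmul a y =>
      rw [Algebra.TensorProduct.map_tmul, cancel_eq_smul, map_smul, ← hC]
      rw [← map_smul]
      congr 1
      rw [TensorProduct.smul_tmul', smul_eq_mul, mul_one]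
      rfl
  have h2 := etale_comp (etale_comp
    (etale_of_ringEquiv (Algebra.TensorProduct.cancelBaseChange Λ K A A C).toRingEquiv) huC)
    (etale_of_ringEquiv E.symm.toRingEquiv)
  convert h2 using 1
  apply RingHom.ext
  intro z
  show _ = E.symm (uC (Algebra.TensorProduct.cancelBaseChange Λ K A A C z))
  rw [← h1, AlgEquiv.symm_apply_apply]
  rfl

end S3b

section S3bMain

variable {Λ C D B K A N R : Type u} [CommRing Λ] [CommRing C] [CommRing D] [CommRing B]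
  [CommRing K] [CommRing A] [CommRing N] [CommRing R] [Algebra Λ C] [Algebra D B]
  [Algebra Λ K] [Algebra D K] [Algebra K A] [Algebra Λ A] [Algebra D A]
  [IsScalarTower Λ K A] [IsScalarTower D K A] [Algebra K N] [Algebra A R]
  [Algebra.FinitePresentation Λ C] [Algebra.FinitePresentation D B]
  [Algebra.FinitePresentation K N]

theorem exists_stage_etale (E : A ⊗[K] N ≃ₐ[A] R) (uC : A ⊗[Λ] C →ₐ[A] R)
    (huC : uC.toRingHom.Etale) (uB : A ⊗[D] B →ₐ[A] R) (huB : uB.toRingHom.Etale)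
    (fC : K ⊗[Λ] C →ₐ[K] N) (fB : K ⊗[D] B →ₐ[K] N)
    (hC : ∀ x, E (1 ⊗ₜ fC x) =
      uC (Algebra.TensorProduct.map (Algebra.ofId K A) (AlgHom.id Λ C) x))
    (hB : ∀ x, E (1 ⊗ₜ fB x) =
      uB (Algebra.TensorProduct.map (Algebra.ofId K A) (AlgHom.id D B) x)) :
    ∃ P : Subalgebra K A, P.FG ∧ ∀ (S : Type u) [CommRing S] [Algebra K S] (_ : ↥P →ₐ[K] S),
      (Algebra.TensorProduct.map (AlgHom.id S S) fC).toRingHom.Etale ∧
      (Algebra.TensorProduct.map (AlgHom.id S S) fB).toRingHom.Etale := by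
  obtain ⟨j₁, h₁⟩ := exists_etale_map (fgWeakColimit K A) fC (etale_map_id E uC huC fC hC)
  obtain ⟨j₂, h₂⟩ := exists_etale_map (fgWeakColimit K A) fB (etale_map_id E uB huB fB hB)
  refine ⟨j₁.1 ⊔ j₂.1, j₁.2.sup j₂.2, fun S _ _ θ => ⟨?_, ?_⟩⟩
  · exact h₁ S (θ.comp (Subalgebra.inclusion le_sup_left))
  · exact h₂ S (θ.comp (Subalgebra.inclusion le_sup_right))

end S3bMain

end Groth.Agent.H5.Pop.CAW
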