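import Mathlib
import Groth.Agent.Lib.Helper5.Pop.CAW4
import Groth.Agent.Lib.Helper5.Lim.RingModel

set_option autoImplicit false
universe u
open TensorProduct

namespace Groth.Agent.H5.Pop.CAW

open Groth.Agent.H5.CA

section Descend

variable {Λ C D B A R : Type u} [CommRing Λ] [CommRing C] [CommRing D] [CommRing B]
  [CommRing A] [CommRing R] [Algebra Λ C] [Algebra D B] [Algebra Λ A] [Algebra D A] [Algebra A R]
  [IsNoetherianRing Λ] [Algebra.FiniteType Λ C] [Algebra.FiniteType ℤ D] [Algebra.FiniteType D B]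

set_option maxHeartbeats 1600000 in
theorem descend (uC : A ⊗[Λ] C →ₐ[A] R) (huC : uC.toRingHom.Etale)
    (uB : A ⊗[D] B →ₐ[A] R) (huB : uB.toRingHom.Etale) :
    ∃ (K : Type u) (_ : CommRing K) (_ : Algebra Λ K) (_ : Algebra D K) (_ : Algebra K A)
      (_ : IsScalarTower Λ K A) (_ : IsScalarTower D K A) (_ : Algebra.FiniteType Λ K)
      (N : Type u) (_ : CommRing N) (_ : Algebra K N) (fC : K ⊗[Λ] C →ₐ[K] N)
      (fB : K ⊗[D] B →ₐ[K] N) (E : A ⊗[K] N ≃ₐ[A] R),
      (∀ x, E (1 ⊗ₜ fC x) =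
        uC (Algebra.TensorProduct.map (Algebra.ofId K A) (AlgHom.id Λ C) x)) ∧
      (∀ x, E (1 ⊗ₜ fB x) =
        uB (Algebra.TensorProduct.map (Algebra.ofId K A) (AlgHom.id D B) x)) ∧
      ∃ P : Subalgebra K A, P.FG ∧ ∀ (S : Type u) [CommRing S] [Algebra K S] (_ : ↥P →ₐ[K] S),
        (Algebra.TensorProduct.map (AlgHom.id S S) fC).toRingHom.Etale ∧
        (Algebra.TensorProduct.map (AlgHom.id S S) fB).toRingHom.Etale := by
  classical
  haveI : IsNoetherianRing D := Algebra.FiniteType.isNoetherianRing ℤ D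
  haveI : Algebra.FinitePresentation Λ C := Algebra.FinitePresentation.of_finiteType.mp inferInstance
  haveI : Algebra.FinitePresentation D B := Algebra.FinitePresentation.of_finiteType.mp inferInstance
  haveI : Algebra.FinitePresentation A R := by
    have h1 : (algebraMap A (A ⊗[Λ] C)).FinitePresentation := by
      show @Algebra.FinitePresentation _ _ _ _ (algebraMap A (A ⊗[Λ] C)).toAlgebra
      rw [toAlgebra_algebraMap]
      infer_instance
    have h2 : uC.toRingHom.FinitePresentation := huC.finitePresentation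
    have h3 := h2.comp h1
    have h4 : uC.toRingHom.comp (algebraMap A (A ⊗[Λ] C)) = algebraMap A R :=
      RingHom.ext fun a => uC.commutes a
    rw [h4] at h3
    have : @Algebra.FinitePresentation _ _ _ _ (algebraMap A R).toAlgebra := h3
    rwa [toAlgebra_algebraMap] at this
  obtain ⟨s, hs⟩ := Groth.Agent.H5.Lim.exists_model_of_finitePresentation A R
  obtain ⟨t, ht⟩ := (inferInstance : Algebra.FiniteType ℤ D).out
  obtain ⟨K₀, hK₀def⟩ : ∃ K₀ : Subalgebra Λ A,
      K₀ = Algebra.adjoin Λ (↑(s ∪ t.image (algebraMap D A)) : Set A) := ⟨_, rfl⟩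
  have hK₀fg : K₀.FG := by rw [hK₀def]; exact Subalgebra.fg_adjoin_finset _
  have hsK : ∀ x ∈ s, x ∈ K₀ := fun x hx => by
    rw [hK₀def]; exact Algebra.subset_adjoin (by simp [hx])
  have htK : ∀ x ∈ t, algebraMap D A x ∈ K₀ := fun x hx => by
    rw [hK₀def]
    exact Algebra.subset_adjoin (by
      simp only [Finset.coe_union, Finset.coe_image, Set.mem_union, Set.mem_image]
      exact Or.inr ⟨x, hx, rfl⟩)
  have hD : ∀ d : D, algebraMap D A d ∈ K₀ := by
    intro d
    have h1 : Algebra.adjoin ℤ (↑t : Set D) ≤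
        subalgebraOfSubring (K₀.toSubring.comap (algebraMap D A)) :=
      Algebra.adjoin_le (fun x hx => htK x hx)
    have h2 : d ∈ Algebra.adjoin ℤ (↑t : Set D) := by rw [ht]; trivial
    exact h1 h2
  letI algDK₀ : Algebra D ↥K₀ := (RingHom.codRestrict (algebraMap D A) K₀ hD).toAlgebra
  haveI : IsScalarTower D ↥K₀ A := IsScalarTower.of_algebraMap_eq fun _ => rfl
  obtain ⟨N₀, _, _, hfp, ⟨e⟩⟩ := hs ↥K₀ (fun x hx => ⟨⟨x, hsK x hx⟩, rfl⟩)
  obtain ⟨P, hPfg, fC, fB, hC, hB⟩ := exists_stage_maps e uC uB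
  haveI : Algebra.FiniteType Λ ↥K₀ := K₀.fg_iff_finiteType.mp hK₀fg
  haveI : Algebra.FiniteType ↥K₀ ↥P := P.fg_iff_finiteType.mp hPfg
  haveI : Algebra.FiniteType Λ ↥P := Algebra.FiniteType.trans (R := Λ) (S := ↥K₀) (A := ↥P)
    inferInstance inferInstance
  obtain ⟨P', hP', het⟩ := exists_stage_etale (K := ↥P) (N := ↥P ⊗[↥K₀] N₀) (EP P e) uC huC uB huB fC fB hC hB
  exact ⟨↥P, inferInstance, inferInstance, inferInstance, inferInstance, inferInstance,
    inferInstance, inferInstance, ↥P ⊗[↥K₀] N₀, inferInstance, inferInstance, fC, fB, EP P e,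
    hC, hB, P', hP', het⟩

end Descend

end Groth.Agent.H5.Pop.CAW
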