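import Mathlib
import Groth.Agent.Lib.Helper5.Pop.EtApprox2
import Groth.Agent.Lib.Helper5.CD.M2
import Groth.Agent.Lib.Helper3.CA.GRingTransfer
import Groth.Agent.Lib.Helper3.CA.ExcellentLoc
import Groth.Agent.Lib.Helper9.Misc.ClosedPt

set_option autoImplicit false
universe u
open AlgebraicGeometry CategoryTheory IsLocalRing Opposite TopologicalSpace

namespace Groth.Agent.H5.Pop

/-- A Noetherian local ring with regular completion map is a G-ring. -/
theorem isGRing_of_isRegularHom_cpl {R : Type u} [CommRing R] [IsLocalRing R] [IsNoetherianRing R]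
    (h : CAlg.IsRegularHom R (AdicCompletion (maximalIdeal R) R)) : CAlg.IsGRing R := by
  apply Groth.Agent.H5.GRC.isGRing_of_forall_maximal R
  intro m hm
  have hmax : m = maximalIdeal R := IsLocalRing.eq_maximalIdeal hm
  subst hmax
  have hu : (maximalIdeal R).primeCompl ≤ IsUnit.submonoid R := by
    intro x hx
    rw [Ideal.mem_primeCompl_iff, IsLocalRing.mem_maximalIdeal, mem_nonunits_iff, not_not] at hx
    exact hx
  let e : R ≃+* Localization.AtPrime (maximalIdeal R) :=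
    (IsLocalization.atUnits R (maximalIdeal R).primeCompl hu
      (S := Localization.AtPrime (maximalIdeal R))).toRingEquiv
  exact Groth.Agent.H3.GRing.isRegularHom_cpl_of_ringEquiv e h

/-- Ring-level core: if `S = R₁_𝔭₀` is a G-ring and `𝔭 ≤ 𝔭₀`, any localization `T` of `R₁` at `𝔭`
is a G-ring. -/
theorem isGRing_of_le {R₁ S T : Type u} [CommRing R₁] [CommRing S] [CommRing T] [Algebra R₁ S]
    [Algebra R₁ T] (𝔭₀ 𝔭 : Ideal R₁) [𝔭₀.IsPrime] [𝔭.IsPrime] (hle : 𝔭 ≤ 𝔭₀)
    [IsLocalization.AtPrime S 𝔭₀] [IsLocalization.AtPrime T 𝔭] (hS : CAlg.IsGRing S) :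
    CAlg.IsGRing T := by
  have hMN : 𝔭₀.primeCompl ≤ 𝔭.primeCompl := fun x hx hx' => hx (hle hx')
  letI : Algebra S T := IsLocalization.localizationAlgebraOfSubmonoidLe S T 𝔭₀.primeCompl
    𝔭.primeCompl hMN
  haveI : IsScalarTower R₁ S T := IsLocalization.localization_isScalarTower_of_submonoid_le S T
    𝔭₀.primeCompl 𝔭.primeCompl hMN
  haveI := IsLocalization.isLocalization_of_submonoid_le S T 𝔭₀.primeCompl 𝔭.primeCompl hMN
  exact Groth.Agent.H3.GRing.isGRing_of_isLocalization S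
    (𝔭.primeCompl.map (algebraMap R₁ S)) T hS

/-- S7393. -/
theorem gScheme_iff (X : Scheme.{u}) :
    (∀ x : X, ∃ U : X.Opens, x ∈ U ∧ IsAffineOpen U ∧ CAlg.IsGRing Γ(X, U)) ↔
      IsLocallyNoetherian X ∧ ∀ x : X, IsClosed ({x} : Set X) →
        CAlg.IsRegularHom (X.presheaf.stalk x)
          (AdicCompletion (IsLocalRing.maximalIdeal (X.presheaf.stalk x)) (X.presheaf.stalk x)) := by
  constructor
  · intro h
    choose U hxU hU hG using h
    refine ⟨?_, ?_⟩
    · refine isLocallyNoetherian_of_affine_cover (S := fun x : X => ⟨U x, hU x⟩) ?_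
        (fun x => (hG x).1)
      rw [eq_top_iff]
      intro x _
      exact Opens.mem_iSup.mpr ⟨x, hxU x⟩
    · intro x _
      letI : Algebra Γ(X, U x) ↑(X.presheaf.stalk x) :=
        TopCat.Presheaf.algebra_section_stalk X.presheaf ⟨x, hxU x⟩
      haveI : IsLocalization.AtPrime ↑(X.presheaf.stalk x)
          ((hU x).primeIdealOf ⟨x, hxU x⟩).asIdeal := (hU x).isLocalization_stalk ⟨x, hxU x⟩
      have hG' : CAlg.IsGRing ↑(X.presheaf.stalk x) :=
        Groth.Agent.H3.GRing.isGRing_of_isLocalization Γ(X, U x)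
          ((hU x).primeIdealOf ⟨x, hxU x⟩).asIdeal.primeCompl _ (hG x)
      exact isRegularHom_cpl_of_isGRing hG'
  · rintro ⟨hN, h⟩ x
    obtain ⟨U, hU, hxU, -⟩ := exists_isAffineOpen_mem_and_subset (x := x) (U := ⊤) trivial
    refine ⟨U, hxU, hU, ?_⟩
    haveI : IsNoetherianRing Γ(X, U) := IsLocallyNoetherian.component_noetherian ⟨U, hU⟩
    apply Groth.Agent.H3.GRing.isGRing_of_local
    intro P hP
    -- the point of `P`
    obtain ⟨z, hzdef⟩ : ∃ z : X, hU.fromSpec (⟨P, hP⟩ : PrimeSpectrum Γ(X, U)) = z := ⟨_, rfl⟩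
    have hzU : z ∈ U := by
      have : hU.fromSpec (⟨P, hP⟩ : PrimeSpectrum Γ(X, U)) ∈ Set.range hU.fromSpec :=
        Set.mem_range_self _
      rw [hU.range_fromSpec] at this
      rw [← hzdef]; exact this
    have hPz : hU.primeIdealOf ⟨z, hzU⟩ = (⟨P, hP⟩ : PrimeSpectrum Γ(X, U)) := by
      have h1 := hU.fromSpec_primeIdealOf ⟨z, hzU⟩
      have hinj : Function.Injective hU.fromSpec := hU.fromSpec.isOpenEmbedding.injective
      apply hinj
      rw [h1, hzdef]
    -- closed specialization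
    obtain ⟨x₀, hx₀mem, hx₀⟩ := Groth.Agent.H9.ClosedPt.main (closure ({z} : Set X))
      isClosed_closure ⟨z, subset_closure rfl⟩
    have hspec : z ⤳ x₀ := specializes_iff_mem_closure.mpr hx₀mem
    obtain ⟨V, hV, hx₀V, -⟩ := exists_isAffineOpen_mem_and_subset (x := x₀) (U := ⊤) trivial
    have hzV : z ∈ V := hspec.mem_open V.2 hx₀V
    haveI : IsNoetherianRing Γ(X, V) := IsLocallyNoetherian.component_noetherian ⟨V, hV⟩
    letI a1 : Algebra Γ(X, V) ↑(X.presheaf.stalk x₀) :=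
      TopCat.Presheaf.algebra_section_stalk X.presheaf ⟨x₀, hx₀V⟩
    haveI l1 : IsLocalization.AtPrime ↑(X.presheaf.stalk x₀)
        (hV.primeIdealOf ⟨x₀, hx₀V⟩).asIdeal := hV.isLocalization_stalk ⟨x₀, hx₀V⟩
    letI a2 : Algebra Γ(X, V) ↑(X.presheaf.stalk z) :=
      TopCat.Presheaf.algebra_section_stalk X.presheaf ⟨z, hzV⟩
    haveI l2 : IsLocalization.AtPrime ↑(X.presheaf.stalk z)
        (hV.primeIdealOf ⟨z, hzV⟩).asIdeal := hV.isLocalization_stalk ⟨z, hzV⟩
    haveI : IsNoetherianRing ↑(X.presheaf.stalk x₀) :=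
      IsLocalization.isNoetherianRing (hV.primeIdealOf ⟨x₀, hx₀V⟩).asIdeal.primeCompl _ inferInstance
    have hG₀ : CAlg.IsGRing ↑(X.presheaf.stalk x₀) := isGRing_of_isRegularHom_cpl (h x₀ hx₀)
    have hle : (hV.primeIdealOf ⟨z, hzV⟩).asIdeal ≤ (hV.primeIdealOf ⟨x₀, hx₀V⟩).asIdeal := by
      show hV.primeIdealOf ⟨z, hzV⟩ ≤ hV.primeIdealOf ⟨x₀, hx₀V⟩
      rw [PrimeSpectrum.le_iff_specializes]
      have h1 : hV.fromSpec (hV.primeIdealOf ⟨z, hzV⟩) ⤳ hV.fromSpec (hV.primeIdealOf ⟨x₀, hx₀V⟩) := by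
        rw [hV.fromSpec_primeIdealOf, hV.fromSpec_primeIdealOf]
        exact hspec
      exact (hV.fromSpec.isOpenEmbedding.isInducing.specializes_iff).mp h1
    have hGz : CAlg.IsGRing ↑(X.presheaf.stalk z) :=
      isGRing_of_le (hV.primeIdealOf ⟨x₀, hx₀V⟩).asIdeal (hV.primeIdealOf ⟨z, hzV⟩).asIdeal hle hG₀
    -- compare with the localization of `Γ(X, U)` at `P`
    letI a3 : Algebra Γ(X, U) ↑(X.presheaf.stalk z) :=
      TopCat.Presheaf.algebra_section_stalk X.presheaf ⟨z, hzU⟩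
    haveI l3 : IsLocalization.AtPrime ↑(X.presheaf.stalk z)
        (hU.primeIdealOf ⟨z, hzU⟩).asIdeal := hU.isLocalization_stalk ⟨z, hzU⟩
    have aux : ∀ (Q : PrimeSpectrum Γ(X, U)), Q = (⟨P, hP⟩ : PrimeSpectrum Γ(X, U)) →
        IsLocalization.AtPrime ↑(X.presheaf.stalk z) Q.asIdeal →
        IsLocalization.AtPrime ↑(X.presheaf.stalk z) P := by
      rintro _ rfl hh; exact hh
    have l3' : IsLocalization.AtPrime ↑(X.presheaf.stalk z) P := aux _ hPz l3
    haveI := l3'
    let e₁ : ↑(X.presheaf.stalk z) ≃+* Localization.AtPrime P :=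
      (IsLocalization.algEquiv P.primeCompl ↑(X.presheaf.stalk z)
        (Localization.AtPrime P)).toRingEquiv
    have hu : (maximalIdeal ↑(X.presheaf.stalk z)).primeCompl ≤
        IsUnit.submonoid ↑(X.presheaf.stalk z) := by
      intro y hy
      rw [Ideal.mem_primeCompl_iff, IsLocalRing.mem_maximalIdeal, mem_nonunits_iff, not_not] at hy
      exact hy
    let e₂ : Localization.AtPrime (maximalIdeal ↑(X.presheaf.stalk z)) ≃+* ↑(X.presheaf.stalk z) :=
      (IsLocalization.atUnits ↑(X.presheaf.stalk z) (maximalIdeal ↑(X.presheaf.stalk z)).primeCompl hu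
        (S := Localization.AtPrime (maximalIdeal ↑(X.presheaf.stalk z)))).symm.toRingEquiv
    exact ⟨↑(X.presheaf.stalk z), inferInstance, hGz, maximalIdeal ↑(X.presheaf.stalk z),
      inferInstance, ⟨e₂.trans e₁⟩⟩

end Groth.Agent.H5.Pop
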