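import Mathlib
import Groth.Agent.Lib.Helper5.Pop.CAW1
import Groth.Agent.Lib.Helper5.Pop.CAW2
import Groth.Agent.Lib.Helper5.Pop.CAW5
import Groth.Agent.Lib.Helper5.Pop.EtApprox5
import Groth.Agent.Lib.Helper5.Pop.EtPair
import Groth.Agent.Lib.Helper5.Pop.GSch

set_option autoImplicit false
universe u
open IsLocalRing TensorProduct

namespace Groth.Agent.H5.Pop.CAW

open Groth.Agent.H4.IndEtCrit Groth.Agent.H8.Hens Groth.Agent.H5.Pop

theorem etale_includeRight (Λ C Λ' : Type u) [CommRing Λ] [CommRing C] [CommRing Λ']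
    [Algebra Λ C] [Algebra Λ Λ'] [Algebra.Etale Λ Λ'] :
    (Algebra.TensorProduct.includeRight : C →ₐ[Λ] Λ' ⊗[Λ] C).toRingHom.Etale := by
  have h1 : (algebraMap C (C ⊗[Λ] Λ')).Etale := RingHom.etale_algebraMap.mpr inferInstance
  have h2 := etale_comp h1 (etale_of_ringEquiv (Algebra.TensorProduct.comm Λ C Λ').toRingEquiv)
  convert h2 using 1
  apply RingHom.ext
  intro c
  simp

section RLB

variable {Λ C D B : Type u} [CommRing Λ] [CommRing C] [CommRing D] [CommRing B]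
  [Algebra Λ C] [Algebra D B] [IsNoetherianRing Λ] [Algebra.FiniteType Λ C]
  [Algebra.FiniteType ℤ D] [Algebra.FiniteType D B]
  (𝔰 : Ideal Λ) [𝔰.IsPrime] (OS : Type u) [CommRing OS] [IsLocalRing OS] [IsNoetherianRing OS]
  [Algebra Λ OS] [IsLocalization.AtPrime OS 𝔰] (hG : CAlg.IsGRing OS)
  [Algebra D (AdicCompletion (maximalIdeal OS) OS)]
  {R : Type u} [CommRing R] [Algebra (AdicCompletion (maximalIdeal OS) OS) R]
  (uC : AdicCompletion (maximalIdeal OS) OS ⊗[Λ] C →ₐ[AdicCompletion (maximalIdeal OS) OS] R)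
  (huC : uC.toRingHom.Etale)
  (uB : AdicCompletion (maximalIdeal OS) OS ⊗[D] B →ₐ[AdicCompletion (maximalIdeal OS) OS] R)
  (huB : uB.toRingHom.Etale)
  (𝔯 : Ideal R) [𝔯.IsPrime]
  (h𝔯 : 𝔯.comap (algebraMap (AdicCompletion (maximalIdeal OS) OS) R) =
    maximalIdeal (AdicCompletion (maximalIdeal OS) OS))
  (hresC : ResSurj (uC.toRingHom.comp (Algebra.TensorProduct.includeRight :
    C →ₐ[Λ] AdicCompletion (maximalIdeal OS) OS ⊗[Λ] C).toRingHom) 𝔯)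
  (hresB : ResSurj uB.toRingHom 𝔯)

local notation "Ôs" => AdicCompletion (maximalIdeal OS) OS

set_option maxHeartbeats 3200000 in
include hG huC huB h𝔯 hresC hresB in
theorem rlb :
    ∃ (Λ' : Type u) (_ : CommRing Λ') (_ : Algebra Λ Λ') (_ : Algebra.Etale Λ Λ')
      (_ : Algebra D Λ') (𝔰' : Ideal Λ') (_ : 𝔰'.IsPrime)
      (R'' : Type u) (_ : CommRing R'') (_ : Algebra C R'') (_ : Algebra.Etale C R'')
      (𝔭'' : Ideal R'') (_ : 𝔭''.IsPrime) (b₀ : B ⊗[D] Λ' →+* R''),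
      𝔰'.comap (algebraMap Λ Λ') = 𝔰 ∧ ResSurj (algebraMap Λ Λ') 𝔰' ∧
      𝔰'.comap (algebraMap D Λ') = (maximalIdeal Ôs).comap (algebraMap D Ôs) ∧
      𝔭''.comap (algebraMap C R'') = 𝔯.comap (uC.toRingHom.comp
        (Algebra.TensorProduct.includeRight : C →ₐ[Λ] Ôs ⊗[Λ] C).toRingHom) ∧
      ResSurj (algebraMap C R'') 𝔭'' ∧
      (∀ l : Λ, b₀ (1 ⊗ₜ algebraMap Λ Λ' l) = algebraMap C R'' (algebraMap Λ C l)) ∧
      𝔭''.comap (b₀.comp (Algebra.TensorProduct.includeRight : Λ' →ₐ[D] B ⊗[D] Λ').toRingHom) =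
        𝔰' ∧
      𝔭''.comap (b₀.comp (Algebra.TensorProduct.includeLeft : B →ₐ[D] B ⊗[D] Λ').toRingHom) =
        𝔯.comap (uB.toRingHom.comp
          (Algebra.TensorProduct.includeRight : B →ₐ[D] Ôs ⊗[D] B).toRingHom) ∧
      b₀.Etale ∧ ResSurj b₀ 𝔭'' := by
  haveI : IsNoetherianRing Ôs := Groth.Agent.S0543.result OS (maximalIdeal OS)
  -- Stage 3
  obtain ⟨K, _, _, _, _, _, _, hKft, N, _, _, fC, fB, E3, hC, hB3, P, hP, het⟩ :=
    descend uC huC uB huB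
  -- Stage 4: Artin approximation
  haveI : Algebra.FiniteType K ↥P := P.fg_iff_finiteType.mp hP
  haveI : IsScalarTower Λ K ↥P := inferInstance
  haveI : Algebra.FiniteType Λ ↥P := Algebra.FiniteType.trans (R := Λ) (S := K) (A := ↥P)
    inferInstance inferInstance
  haveI : Algebra.FinitePresentation Λ ↥P := Algebra.FinitePresentation.of_finiteType.mp inferInstance
  have hregS := isRegularHom_cpl_of_isGRing hG
  haveI := isHenselization (R := OS)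
  letI : Algebra Λ (Henselization OS) :=
    ((algebraMap OS (Henselization OS)).comp (algebraMap Λ OS)).toAlgebra
  haveI : IsScalarTower Λ OS (Henselization OS) := IsScalarTower.of_algebraMap_eq fun _ => rfl
  have hcrit := crit_henselization_of_isLocalization Λ 𝔰 OS (Henselization OS)
  obtain ⟨Λ', _, _, hEt', γ, ψ, h, hψ1, -, -, hψ4⟩ :=
    approx_etale_alg' (A := Λ) OS hregS (Henselization OS) hcrit ↥P
      (P.val : ↥P →ₐ[K] Ôs).toRingHom
      (fun r => by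
        show ((algebraMap Λ ↥P r : ↥P) : Ôs) = _
        rw [← IsScalarTower.algebraMap_apply Λ OS Ôs]
        rfl) 1
  have hψ4' : ∀ p : ↥P, (p : Ôs) - ψ (h p) ∈ maximalIdeal Ôs := by
    intro p
    have := hψ4 p
    rwa [pow_one, ← AdicCompletion.maximalIdeal_eq_map] at this
  have hψh : ∀ p : ↥P, ψ (h p) ∈ maximalIdeal Ôs ↔ (p : Ôs) ∈ maximalIdeal Ôs := by
    intro p
    constructor
    · intro h1
      have := Ideal.add_mem _ (hψ4' p) h1
      rwa [sub_add_cancel] at this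
    · intro h1
      have := Ideal.sub_mem _ h1 (hψ4' p)
      rwa [sub_sub_cancel] at this
  -- the prime `𝔰'`
  obtain ⟨𝔰', h𝔰'⟩ : ∃ 𝔰' : Ideal Λ', 𝔰' = (maximalIdeal Ôs).comap ψ := ⟨_, rfl⟩
  haveI h𝔰'prime : 𝔰'.IsPrime := by rw [h𝔰']; exact Ideal.comap_isPrime ψ _
  have hmem𝔰' : ∀ x, x ∈ 𝔰' ↔ ψ x ∈ maximalIdeal Ôs := fun x => by rw [h𝔰']; rfl
  -- algebra structures on `Λ'`
  letI algKΛ' : Algebra K Λ' := (h.toRingHom.comp (algebraMap K ↥P)).toAlgebra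
  haveI : IsScalarTower Λ K Λ' := IsScalarTower.of_algebraMap_eq fun l => by
    show algebraMap Λ Λ' l = h (algebraMap K ↥P (algebraMap Λ K l))
    rw [← IsScalarTower.algebraMap_apply Λ K ↥P, h.commutes]
  letI algDΛ' : Algebra D Λ' := ((algebraMap K Λ').comp (algebraMap D K)).toAlgebra
  haveI : IsScalarTower D K Λ' := IsScalarTower.of_algebraMap_eq fun _ => rfl
  obtain ⟨θ, hθ⟩ : ∃ θ : ↥P →ₐ[K] Λ', ∀ p, θ p = h p :=
    ⟨{ h.toRingHom with commutes' := fun _ => rfl }, fun _ => rfl⟩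
  obtain ⟨hetC, hetB⟩ := het Λ' θ
  -- the ring `R''` and its structure maps
  obtain ⟨gC, hgC, hgCet⟩ : ∃ gC : C →+* Λ' ⊗[K] N, (∀ c, gC c = 1 ⊗ₜ fC (1 ⊗ₜ c)) ∧ gC.Etale := by
    refine ⟨(Algebra.TensorProduct.map (AlgHom.id Λ' Λ') fC).toRingHom.comp
      ((Algebra.TensorProduct.cancelBaseChange Λ K Λ' Λ' C).symm.toRingEquiv.toRingHom.comp
        (Algebra.TensorProduct.includeRight : C →ₐ[Λ] Λ' ⊗[Λ] C).toRingHom), fun c => ?_, ?_⟩
    · show Algebra.TensorProduct.map (AlgHom.id Λ' Λ') fC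
        ((Algebra.TensorProduct.cancelBaseChange Λ K Λ' Λ' C).symm (1 ⊗ₜ c)) = _
      rw [Algebra.TensorProduct.cancelBaseChange_symm_tmul, Algebra.TensorProduct.map_tmul]
      rfl
    · exact etale_comp (etale_comp (etale_includeRight Λ C Λ')
        (etale_of_ringEquiv _)) hetC
  obtain ⟨b₀, hb₀, hb₀et⟩ : ∃ b₀ : B ⊗[D] Λ' →+* Λ' ⊗[K] N,
      (∀ b x, b₀ (b ⊗ₜ x) = x ⊗ₜ fB (1 ⊗ₜ b)) ∧ b₀.Etale := by
    refine ⟨(Algebra.TensorProduct.map (AlgHom.id Λ' Λ') fB).toRingHom.comp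
      ((Algebra.TensorProduct.cancelBaseChange D K Λ' Λ' B).symm.toRingEquiv.toRingHom.comp
        (Algebra.TensorProduct.comm D B Λ').toRingEquiv.toRingHom), fun b x => ?_, ?_⟩
    · show Algebra.TensorProduct.map (AlgHom.id Λ' Λ') fB
        ((Algebra.TensorProduct.cancelBaseChange D K Λ' Λ' B).symm
          (Algebra.TensorProduct.comm D B Λ' (b ⊗ₜ x))) = _
      rw [Algebra.TensorProduct.comm_tmul, Algebra.TensorProduct.cancelBaseChange_symm_tmul,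
        Algebra.TensorProduct.map_tmul]
      rfl
    · exact etale_comp (etale_comp (etale_of_ringEquiv _) (etale_of_ringEquiv _)) hetB
  -- the map to `R/𝔯`
  letI algKQ : Algebra K (R ⧸ 𝔯) :=
    (((Ideal.Quotient.mk 𝔯).comp (algebraMap Ôs R)).comp (algebraMap K Ôs)).toAlgebra
  have hmhat : ∀ a : Ôs, a ∈ maximalIdeal Ôs → Ideal.Quotient.mk 𝔯 (algebraMap Ôs R a) = 0 := by
    intro a ha
    rw [Ideal.Quotient.eq_zero_iff_mem, ← Ideal.mem_comap, h𝔯]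
    exact ha
  let gN : N →ₐ[K] R ⧸ 𝔯 :=
    { toRingHom := (Ideal.Quotient.mk 𝔯).comp (E3.toAlgHom.toRingHom.comp
        (Algebra.TensorProduct.includeRight : N →ₐ[K] Ôs ⊗[K] N).toRingHom)
      commutes' := fun k => by
        show Ideal.Quotient.mk 𝔯 (E3 ((Algebra.TensorProduct.includeRight :
          N →ₐ[K] Ôs ⊗[K] N) (algebraMap K N k))) = _
        rw [AlgHom.commutes, IsScalarTower.algebraMap_apply K Ôs (Ôs ⊗[K] N), E3.commutes]
        rfl }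
  let gΛ' : Λ' →ₐ[K] R ⧸ 𝔯 :=
    { toRingHom := ((Ideal.Quotient.mk 𝔯).comp (algebraMap Ôs R)).comp ψ
      commutes' := fun k => by
        show Ideal.Quotient.mk 𝔯 (algebraMap Ôs R (ψ (h (algebraMap K ↥P k)))) =
          Ideal.Quotient.mk 𝔯 (algebraMap Ôs R (algebraMap K Ôs k))
        rw [← sub_eq_zero, ← map_sub, ← map_sub, ← neg_sub, map_neg, map_neg, neg_eq_zero]
        exact hmhat _ (hψ4' (algebraMap K ↥P k)) }
  obtain ⟨Pi0, hPi0⟩ : ∃ Pi0 : Λ' ⊗[K] N →+* R ⧸ 𝔯, ∀ x n, Pi0 (x ⊗ₜ n) =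
      Ideal.Quotient.mk 𝔯 (algebraMap Ôs R (ψ x)) * Ideal.Quotient.mk 𝔯 (E3 (1 ⊗ₜ n)) :=
    ⟨(Algebra.TensorProduct.productMap gΛ' gN).toRingHom, fun x n => by
      show Algebra.TensorProduct.productMap gΛ' gN (x ⊗ₜ n) = _
      rw [Algebra.TensorProduct.productMap_apply_tmul]
      rfl⟩
  obtain ⟨𝔭'', h𝔭''⟩ : ∃ 𝔭'' : Ideal (Λ' ⊗[K] N), 𝔭'' = RingHom.ker Pi0 := ⟨_, rfl⟩
  haveI : IsDomain (R ⧸ 𝔯) := Ideal.Quotient.isDomain 𝔯
  haveI h𝔭''prime : 𝔭''.IsPrime := by rw [h𝔭'']; exact RingHom.ker_isPrime Pi0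
  have hmem𝔭'' : ∀ z, z ∈ 𝔭'' ↔ Pi0 z = 0 := fun z => by rw [h𝔭'']; rfl
  -- formulas
  have hPi1 : ∀ n, Pi0 (1 ⊗ₜ n) = Ideal.Quotient.mk 𝔯 (E3 (1 ⊗ₜ n)) := by
    intro n
    rw [hPi0, map_one, map_one, map_one, one_mul]
  have hF1 : ∀ c, Pi0 (gC c) = Ideal.Quotient.mk 𝔯 (uC (1 ⊗ₜ c)) := by
    intro c
    rw [hgC, hPi1, hC, Algebra.TensorProduct.map_tmul, map_one]
    rfl
  have hF2 : ∀ b x, Pi0 (b₀ (b ⊗ₜ x)) = Ideal.Quotient.mk 𝔯 (algebraMap Ôs R (ψ x)) *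
      Ideal.Quotient.mk 𝔯 (uB (1 ⊗ₜ b)) := by
    intro b x
    rw [hb₀, hPi0, hB3, Algebra.TensorProduct.map_tmul, map_one]
    rfl
  have huB1 : uB (1 ⊗ₜ 1) = 1 := by
    rw [← Algebra.TensorProduct.one_def, map_one]
  -- the field
  obtain ⟨ρ, hρdef⟩ : ∃ ρ : R →+* FractionRing (R ⧸ 𝔯),
      ρ = (algebraMap (R ⧸ 𝔯) (FractionRing (R ⧸ 𝔯))).comp (Ideal.Quotient.mk 𝔯) := ⟨_, rfl⟩
  have hρ0 : ∀ r, ρ r = 0 ↔ r ∈ 𝔯 := by
    intro r
    rw [hρdef, RingHom.comp_apply,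
      map_eq_zero_iff _ (IsFractionRing.injective (R ⧸ 𝔯) (FractionRing (R ⧸ 𝔯))),
      Ideal.Quotient.eq_zero_iff_mem]
  have hρ : RingHom.ker ρ = 𝔯 := by
    ext r
    rw [RingHom.mem_ker, hρ0]
  obtain ⟨ρ'', hρ''def⟩ : ∃ ρ'' : Λ' ⊗[K] N →+* FractionRing (R ⧸ 𝔯),
      ρ'' = (algebraMap (R ⧸ 𝔯) (FractionRing (R ⧸ 𝔯))).comp Pi0 := ⟨_, rfl⟩
  have hρ'' : RingHom.ker ρ'' = 𝔭'' := by
    ext z
    rw [RingHom.mem_ker, hρ''def, RingHom.comp_apply,
      map_eq_zero_iff _ (IsFractionRing.injective (R ⧸ 𝔯) (FractionRing (R ⧸ 𝔯))), hmem𝔭'']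
  have hρ''ρ : ∀ z : Λ' ⊗[K] N, ∃ r : R, ρ'' z = ρ r := by
    intro z
    obtain ⟨r, hr⟩ := Ideal.Quotient.mk_surjective (Pi0 z)
    exact ⟨r, by rw [hρ''def, hρdef, RingHom.comp_apply, RingHom.comp_apply, hr]⟩
  have hρmk : ∀ r, algebraMap (R ⧸ 𝔯) (FractionRing (R ⧸ 𝔯)) (Ideal.Quotient.mk 𝔯 r) = ρ r := by
    intro r
    rw [hρdef]; rfl
  refine ⟨Λ', inferInstance, inferInstance, hEt', algDΛ', 𝔰', h𝔰'prime, Λ' ⊗[K] N, inferInstance,
    gC.toAlgebra, hgCet, 𝔭'', h𝔭''prime, b₀, ?_, ?_, ?_, ?_, ?_, ?_, ?_, ?_, hb₀et, ?_⟩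
  · -- c1
    ext l
    rw [Ideal.mem_comap, hmem𝔰', hψ1, algebraMap_cpl_mem_iff,
      IsLocalization.AtPrime.to_map_mem_maximal_iff OS 𝔰]
  · -- c2
    intro z
    obtain ⟨w, hw⟩ := exists_sub_algebraMap_mem_pow 1 (ψ z)
    rw [pow_one] at hw
    obtain ⟨l, t, rfl⟩ := IsLocalization.exists_mk'_eq 𝔰.primeCompl w
    refine ⟨l, t, ?_, ?_⟩
    · rw [hmem𝔰', hψ1, algebraMap_cpl_mem_iff,
        IsLocalization.AtPrime.to_map_mem_maximal_iff OS 𝔰]
      exact t.2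
    · rw [hmem𝔰', map_sub, map_mul, hψ1, hψ1]
      have e1 : algebraMap OS Ôs (algebraMap Λ OS t) * ψ z - algebraMap OS Ôs (algebraMap Λ OS l) =
          algebraMap OS Ôs (algebraMap Λ OS t) *
            (ψ z - algebraMap OS Ôs (IsLocalization.mk' OS l t)) := by
        rw [mul_sub, ← map_mul, mul_comm (algebraMap Λ OS t), IsLocalization.mk'_spec]
      rw [e1]
      exact Ideal.mul_mem_left _ _ hw
  · -- c3
    ext d
    rw [Ideal.mem_comap, Ideal.mem_comap, hmem𝔰']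
    show ψ (h (algebraMap K ↥P (algebraMap D K d))) ∈ _ ↔ _
    rw [hψh]
    show algebraMap K Ôs (algebraMap D K d) ∈ _ ↔ _
    rw [← IsScalarTower.algebraMap_apply D K Ôs]
  · -- c4
    ext c
    rw [Ideal.mem_comap, hmem𝔭'', Ideal.mem_comap]
    show Pi0 (gC c) = 0 ↔ uC (1 ⊗ₜ c) ∈ 𝔯
    rw [hF1, Ideal.Quotient.eq_zero_iff_mem]
  · -- c5
    apply resSurj_of_mem_closure gC 𝔭'' ρ'' hρ''
    intro z
    obtain ⟨r, hr⟩ := hρ''ρ z
    rw [hr]
    have h1 := mem_closure_of_resSurj _ 𝔯 ρ hρ hresC r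
    have h2 : ρ''.comp gC = ρ.comp (uC.toRingHom.comp (Algebra.TensorProduct.includeRight :
        C →ₐ[Λ] Ôs ⊗[Λ] C).toRingHom) := by
      apply RingHom.ext
      intro c
      rw [hρ''def]
      show algebraMap _ _ (Pi0 (gC c)) = ρ (uC (1 ⊗ₜ c))
      rw [hF1, hρmk]
    rw [h2]
    exact h1
  · -- c6
    intro l
    show b₀ (1 ⊗ₜ algebraMap Λ Λ' l) = gC (algebraMap Λ C l)
    rw [hb₀, hgC]
    have e1 : fB (1 ⊗ₜ 1) = 1 := by rw [← Algebra.TensorProduct.one_def, map_one]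
    have e2 : fC (1 ⊗ₜ algebraMap Λ C l) = algebraMap K N (algebraMap Λ K l) := by
      rw [← fC.commutes, Algebra.TensorProduct.algebraMap_apply,
        Algebra.algebraMap_eq_smul_one (A := K) l, Algebra.algebraMap_eq_smul_one (A := C) l,
        Algebra.algebraMap_self, RingHom.id_apply, TensorProduct.smul_tmul]
    rw [e1, e2, IsScalarTower.algebraMap_apply Λ K Λ',
      Algebra.algebraMap_eq_smul_one (A := Λ') (algebraMap Λ K l),
      Algebra.algebraMap_eq_smul_one (A := N) (algebraMap Λ K l), TensorProduct.smul_tmul]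
  · -- c7
    ext x
    rw [Ideal.mem_comap, hmem𝔭'', hmem𝔰']
    show Pi0 (b₀ (1 ⊗ₜ x)) = 0 ↔ _
    rw [hF2, huB1, map_one, mul_one, Ideal.Quotient.eq_zero_iff_mem, ← Ideal.mem_comap, h𝔯]
  · -- c8
    ext b
    rw [Ideal.mem_comap, hmem𝔭'', Ideal.mem_comap]
    show Pi0 (b₀ (b ⊗ₜ 1)) = 0 ↔ uB (1 ⊗ₜ b) ∈ 𝔯
    rw [hF2, map_one, map_one, map_one, one_mul, Ideal.Quotient.eq_zero_iff_mem]
  · -- c10
    apply resSurj_of_mem_closure b₀ 𝔭'' ρ'' hρ''
    intro z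
    obtain ⟨r, hr⟩ := hρ''ρ z
    rw [hr]
    have h1 := mem_closure_of_resSurj _ 𝔯 ρ hρ hresB r
    have hρ''b : ∀ b x, ρ'' (b₀ (b ⊗ₜ x)) = ρ (algebraMap Ôs R (ψ x)) * ρ (uB (1 ⊗ₜ b)) := by
      intro b x
      rw [hρ''def, RingHom.comp_apply, hF2, map_mul, hρmk, hρmk]
    have hFB : ∀ b : B, ρ (uB (1 ⊗ₜ b)) ∈ Subfield.closure (Set.range (ρ''.comp b₀)) := by
      intro b
      apply Subfield.subset_closure
      refine ⟨b ⊗ₜ 1, ?_⟩
      rw [RingHom.comp_apply, hρ''b, map_one, map_one, map_one, one_mul]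
    have hFΛ : ∀ l : Λ, ρ (algebraMap Ôs R (algebraMap OS Ôs (algebraMap Λ OS l))) ∈
        Subfield.closure (Set.range (ρ''.comp b₀)) := by
      intro l
      apply Subfield.subset_closure
      refine ⟨1 ⊗ₜ algebraMap Λ Λ' l, ?_⟩
      rw [RingHom.comp_apply, hρ''b, huB1, map_one, mul_one, hψ1]
    have hFO : ∀ o : Ôs, ρ (algebraMap Ôs R o) ∈
        Subfield.closure (Set.range (ρ''.comp b₀)) := by
      intro o
      obtain ⟨w, hw⟩ := exists_sub_algebraMap_mem_pow 1 o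
      rw [pow_one] at hw
      obtain ⟨l, t, rfl⟩ := IsLocalization.exists_mk'_eq 𝔰.primeCompl w
      have e1 : ρ (algebraMap Ôs R o) =
          ρ (algebraMap Ôs R (algebraMap OS Ôs (IsLocalization.mk' OS l t))) := by
        rw [← sub_eq_zero, ← map_sub, ← map_sub, hρ0, ← Ideal.mem_comap, h𝔯]
        exact hw
      have e2 : ρ (algebraMap Ôs R (algebraMap OS Ôs (IsLocalization.mk' OS l t))) *
          ρ (algebraMap Ôs R (algebraMap OS Ôs (algebraMap Λ OS t))) =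
          ρ (algebraMap Ôs R (algebraMap OS Ôs (algebraMap Λ OS l))) := by
        rw [← map_mul, ← map_mul, ← map_mul, IsLocalization.mk'_spec]
      have e3 : ρ (algebraMap Ôs R (algebraMap OS Ôs (algebraMap Λ OS t))) ≠ 0 := by
        rw [Ne, hρ0, ← Ideal.mem_comap, h𝔯, algebraMap_cpl_mem_iff,
          IsLocalization.AtPrime.to_map_mem_maximal_iff OS 𝔰]
        exact t.2
      rw [e1, eq_div_of_mul_eq e3 e2]
      exact Subfield.div_mem _ (hFΛ l) (hFΛ t)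
    have hle : Subfield.closure (Set.range (ρ.comp uB.toRingHom)) ≤
        Subfield.closure (Set.range (ρ''.comp b₀)) := by
      rw [Subfield.closure_le]
      rintro _ ⟨y, rfl⟩
      show ρ (uB y) ∈ Subfield.closure (Set.range (ρ''.comp b₀))
      induction y using TensorProduct.induction_on with
      | zero => rw [map_zero, map_zero]; exact zero_mem _
      | add x y hx hy => rw [map_add, map_add]; exact add_mem hx hy
      | tmul o b =>
        have : (o ⊗ₜ[D] b : Ôs ⊗[D] B) = algebraMap Ôs (Ôs ⊗[D] B) o * (1 ⊗ₜ b) := by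
          rw [Algebra.TensorProduct.algebraMap_apply, Algebra.TensorProduct.tmul_mul_tmul,
            mul_one, one_mul]
          rfl
        rw [this, map_mul, map_mul, uB.commutes]
        exact mul_mem (hFO o) (hFB b)
    exact hle h1

end RLB

end Groth.Agent.H5.Pop.CAW
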