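import Mathlib
import Groth.Agent.Lib.Helper5.Pop.EtIso3

set_option autoImplicit false
universe u
open IsLocalRing TensorProduct

namespace Groth.Agent.H5.Pop

/-- the map induced on local rings by an étale algebra is unramified. -/
theorem map_maximalIdeal_of_etale {C R' : Type u} [CommRing C] [CommRing R'] [Algebra C R']
    [Algebra.Etale C R']
    (𝔭 : Ideal C) [𝔭.IsPrime] (OX : Type u) [CommRing OX] [IsLocalRing OX] [Algebra C OX]
    [IsLocalization.AtPrime OX 𝔭]
    (𝔭' : Ideal R') [𝔭'.IsPrime] (OU : Type u) [CommRing OU] [IsLocalRing OU] [Algebra R' OU]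
    [IsLocalization.AtPrime OU 𝔭']
    (h𝔭 : 𝔭'.comap (algebraMap C R') = 𝔭)
    (E : OX →+* OU) (hE1 : ∀ c : C, E (algebraMap C OX c) = algebraMap R' OU (algebraMap C R' c)) :
    (maximalIdeal OX).map E = maximalIdeal OU := by
  letI algCU : Algebra C OU := ((algebraMap R' OU).comp (algebraMap C R')).toAlgebra
  haveI : IsScalarTower C R' OU := IsScalarTower.of_algebraMap_eq fun _ => rfl
  letI algXU : Algebra OX OU := E.toAlgebra
  haveI : IsScalarTower C OX OU := IsScalarTower.of_algebraMap_eq fun c => (hE1 c).symm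
  haveI : Algebra.FormallyUnramified R' OU :=
    Algebra.FormallyUnramified.of_isLocalization 𝔭'.primeCompl
  haveI : Algebra.FormallyUnramified C OU := Algebra.FormallyUnramified.comp C R' OU
  haveI : Algebra.FormallyUnramified OX OU := Algebra.FormallyUnramified.of_restrictScalars C OX OU
  haveI : Algebra.FiniteType C R' := inferInstance
  haveI : Algebra.EssFiniteType R' OU := Algebra.EssFiniteType.of_isLocalization OU 𝔭'.primeCompl
  haveI : Algebra.EssFiniteType C OU := Algebra.EssFiniteType.comp C R' OU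
  haveI : Algebra.EssFiniteType OX OU := Algebra.EssFiniteType.of_comp C OX OU
  haveI : IsLocalHom (algebraMap OX OU) := by
    constructor
    intro x hx
    obtain ⟨⟨c, s⟩, hcs⟩ := IsLocalization.surj 𝔭.primeCompl x
    simp only at hcs
    have hs : IsUnit (algebraMap C OX (s : C)) := IsLocalization.map_units OX s
    have h1 : IsUnit (algebraMap C OX c) := by
      rw [← hcs]
      have hx' : IsUnit x := by
        by_contra hx'
        have hxm : x ∈ maximalIdeal OX := (mem_maximalIdeal x).mpr hx'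
        -- then `c ∈ 𝔭`, so `E x` is not a unit
        have hc : algebraMap C OX c ∈ maximalIdeal OX := by
          rw [← hcs]; exact Ideal.mul_mem_right _ _ hxm
        have hc𝔭 : c ∈ 𝔭 := (IsLocalization.AtPrime.to_map_mem_maximal_iff OX 𝔭 c).mp hc
        have hc' : algebraMap C R' c ∈ 𝔭' := by
          have : c ∈ 𝔭'.comap (algebraMap C R') := by rw [h𝔭]; exact hc𝔭
          exact this
        have h2 : algebraMap R' OU (algebraMap C R' c) ∈ maximalIdeal OU :=
          (IsLocalization.AtPrime.to_map_mem_maximal_iff OU 𝔭' _).mpr hc'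
        rw [← hE1, ← hcs, map_mul] at h2
        have h3 : IsUnit (E x * E (algebraMap C OX (s : C))) := hx.mul (hs.map E)
        exact (mem_maximalIdeal _).mp h2 h3
      exact hx'.mul hs
    have : x * algebraMap C OX (s : C) = algebraMap C OX c := hcs
    exact isUnit_of_mul_isUnit_left (this ▸ h1)
  exact Algebra.FormallyUnramified.map_maximalIdeal


set_option maxHeartbeats 800000 in
/-- the local consequences of the approximation data when `φ` is an isomorphism of
completions. -/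
theorem pair_iso_local {C B R' : Type u} [CommRing C] [CommRing B] [CommRing R'] [Algebra C R']
    [Algebra.Etale C R']
    (𝔭 : Ideal C) [𝔭.IsPrime] (OX : Type u) [CommRing OX] [IsLocalRing OX] [IsNoetherianRing OX]
    [Algebra C OX] [IsLocalization.AtPrime OX 𝔭]
    (𝔮 : Ideal B) [𝔮.IsPrime] (OY : Type u) [CommRing OY] [IsLocalRing OY] [IsNoetherianRing OY]
    [Algebra B OY] [IsLocalization.AtPrime OY 𝔮]
    (𝔭' : Ideal R') [𝔭'.IsPrime] (OU : Type u) [CommRing OU] [IsLocalRing OU]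
    [IsNoetherianRing OU] [Algebra R' OU] [IsLocalization.AtPrime OU 𝔭']
    (h𝔭 : 𝔭'.comap (algebraMap C R') = 𝔭)
    (hresR : ∀ x : R', ∃ c s : C, s ∉ 𝔭 ∧ algebraMap C R' s * x - algebraMap C R' c ∈ 𝔭')
    (hB : B →+* R')
    (ψ : R' →+* AdicCompletion (maximalIdeal OX) OX)
    (φ : AdicCompletion (maximalIdeal OY) OY ≃+* AdicCompletion (maximalIdeal OX) OX)
    (hψC : ∀ c : C, ψ (algebraMap C R' c) =
      algebraMap OX (AdicCompletion (maximalIdeal OX) OX) (algebraMap C OX c))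
    (hunit : ∀ x, x ∉ 𝔭' → IsUnit (ψ x))
    (N : ℕ) (hN : 2 ≤ N)
    (happ : ∀ β : B, ψ (hB β) - φ (algebraMap OY (AdicCompletion (maximalIdeal OY) OY)
      (algebraMap B OY β)) ∈ (maximalIdeal OX ^ N).map
      (algebraMap OX (AdicCompletion (maximalIdeal OX) OX)))
    (E : OX →+* OU) (hE1 : ∀ c : C, E (algebraMap C OX c) = algebraMap R' OU (algebraMap C R' c))
    (Fm : OY →+* OU) (hF1 : ∀ β : B, Fm (algebraMap B OY β) = algebraMap R' OU (hB β)) :
    (∀ z : OU, ∃ w : OX, z - E w ∈ maximalIdeal OU) ∧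
    (maximalIdeal OY).map Fm = maximalIdeal OU ∧
    (∀ z : OU, ∃ w : OY, z - Fm w ∈ maximalIdeal OU) ∧
    (letI := Fm.toAlgebra; Module.Flat OY OU) ∧
    ∀ M : ℕ, M ≤ N → ∀ (b : AdicCompletion (maximalIdeal OY) OY) (cY : OY) (cX : OX),
      AdicCompletion.evalₐ (maximalIdeal OY) M b = Ideal.Quotient.mk (maximalIdeal OY ^ M) cY →
      AdicCompletion.evalₐ (maximalIdeal OX) M (φ b) = Ideal.Quotient.mk (maximalIdeal OX ^ M) cX →
      Ideal.Quotient.mk (maximalIdeal OU ^ M) (Fm cY) =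
        Ideal.Quotient.mk (maximalIdeal OU ^ M) (E cX) := by
  have hE := map_maximalIdeal_of_etale 𝔭 OX 𝔭' OU h𝔭 E hE1
  obtain ⟨φ₀, hφ₀⟩ : ∃ φ₀ : OY →+* AdicCompletion (maximalIdeal OX) OX,
      ∀ b, φ₀ b = φ (algebraMap OY (AdicCompletion (maximalIdeal OY) OY) b) :=
    ⟨φ.toRingHom.comp (algebraMap OY (AdicCompletion (maximalIdeal OY) OY)), fun _ => rfl⟩
  have happ₀ : ∀ β : B, ψ (hB β) - φ₀ (algebraMap B OY β) ∈ (maximalIdeal OX ^ N).map
      (algebraMap OX (AdicCompletion (maximalIdeal OX) OX)) := fun β => by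
    rw [hφ₀]; exact happ β
  obtain ⟨hresE, -⟩ := stalk_approx 𝔭 OX 𝔮 OY 𝔭' OU h𝔭 hresR hB ψ φ₀ hψC hunit N happ₀ E hE1 hE
    Fm hF1
  obtain ⟨Ψ, -, hΨE, happb⟩ := stalk_data 𝔭 OX 𝔮 OY 𝔭' OU hB ψ φ₀ hψC hunit N happ₀ E hE1 Fm hF1
  have happ2 : ∀ b : OY, Ψ (Fm b) - φ (algebraMap OY (AdicCompletion (maximalIdeal OY) OY) b) ∈
      (maximalIdeal OX ^ 2).map (algebraMap OX (AdicCompletion (maximalIdeal OX) OX)) := by
    intro b
    rw [← hφ₀]
    exact Ideal.map_mono (Ideal.pow_le_pow_right hN) (happb b)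
  refine ⟨hresE, map_Fm_maximalIdeal E hE hresE Ψ hΨE Fm φ happ2,
    Fm_residue E hE hresE Ψ hΨE Fm φ happ2, flat_Fm E hE hresE Ψ hΨE Fm φ happ2, ?_⟩
  intro M hM b cY cX hb1 hb2
  have happM : ∀ b, Ψ (Fm b) - φ₀ b ∈ (maximalIdeal OX ^ M).map
      (algebraMap OX (AdicCompletion (maximalIdeal OX) OX)) := fun b =>
    Ideal.map_mono (Ideal.pow_le_pow_right hM) (happb b)
  refine quot_eq_of_approx E hE hresE Ψ hΨE Fm φ₀ M happM cY cX ?_
  rw [hφ₀, ← hb2]
  -- `b - can cY ∈ 𝔪̂^M`
  have h1 : b - algebraMap OY (AdicCompletion (maximalIdeal OY) OY) cY ∈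
      maximalIdeal (AdicCompletion (maximalIdeal OY) OY) ^ M := by
    rw [← evalₐ_eq_zero_iff_mem_maximalIdeal_pow, map_sub, hb1, AlgHom.commutes, sub_eq_zero]
    rfl
  have h2 := (mem_maximalIdeal_pow_iff_of_bijective φ.toRingHom φ.bijective M _).mpr h1
  rw [← evalₐ_eq_zero_iff_mem_maximalIdeal_pow] at h2
  have h3 : φ.toRingHom (b - algebraMap OY (AdicCompletion (maximalIdeal OY) OY) cY) =
      φ b - φ (algebraMap OY (AdicCompletion (maximalIdeal OY) OY) cY) := map_sub _ _ _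
  rw [h3, map_sub, sub_eq_zero] at h2
  exact h2.symm

end Groth.Agent.H5.Pop
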