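import Mathlib
import Groth.Agent.Lib.Helper5.Pop.EtPair

set_option autoImplicit false
universe u
open IsLocalRing TensorProduct

namespace Groth.Agent.H5.Pop

open Groth.Agent.H4.IndEtCrit Groth.Agent.H8.Hens

set_option maxHeartbeats 800000 in
/-- **Algebraic core of Artin's Corollary 2.5.** -/
theorem approx_etale_pair {Λ C B : Type u} [CommRing Λ] [CommRing C] [CommRing B] [Algebra Λ C]
    [Algebra Λ B] [Algebra.FinitePresentation Λ B]
    (𝔭 : Ideal C) [𝔭.IsPrime] (OX : Type u) [CommRing OX] [IsLocalRing OX] [IsNoetherianRing OX]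
    [Algebra C OX] [IsLocalization.AtPrime OX 𝔭]
    (hreg : CAlg.IsRegularHom OX (AdicCompletion (maximalIdeal OX) OX))
    (𝔮 : Ideal B) [𝔮.IsPrime] (OY : Type u) [CommRing OY] [IsLocalRing OY] [Algebra B OY]
    [IsLocalization.AtPrime OY 𝔮]
    (φ : OY →+* AdicCompletion (maximalIdeal OX) OX)
    (hφ : ∀ l : Λ, φ (algebraMap B OY (algebraMap Λ B l)) =
      algebraMap OX (AdicCompletion (maximalIdeal OX) OX) (algebraMap C OX (algebraMap Λ C l)))
    (hloc : ∀ b ∈ maximalIdeal OY, φ b ∈ (maximalIdeal OX).map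
      (algebraMap OX (AdicCompletion (maximalIdeal OX) OX)))
    (N : ℕ) (hN : 1 ≤ N) :
    ∃ (R' : Type u) (_ : CommRing R') (_ : Algebra C R') (_ : Algebra.Etale C R')
      (𝔭' : Ideal R') (_ : 𝔭'.IsPrime) (hB : B →+* R')
      (ψ : R' →+* AdicCompletion (maximalIdeal OX) OX),
      𝔭'.comap (algebraMap C R') = 𝔭 ∧
      (∀ x : R', ∃ c s : C, s ∉ 𝔭 ∧ algebraMap C R' s * x - algebraMap C R' c ∈ 𝔭') ∧
      (∀ l : Λ, hB (algebraMap Λ B l) = algebraMap C R' (algebraMap Λ C l)) ∧
      𝔭'.comap hB = 𝔮 ∧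
      (∀ c : C, ψ (algebraMap C R' c) =
        algebraMap OX (AdicCompletion (maximalIdeal OX) OX) (algebraMap C OX c)) ∧
      (∀ x, x ∉ 𝔭' → IsUnit (ψ x)) ∧
      (∀ x ∈ 𝔭', ψ x ∈ (maximalIdeal OX).map
        (algebraMap OX (AdicCompletion (maximalIdeal OX) OX))) ∧
      ∀ β : B, ψ (hB β) - φ (algebraMap B OY β) ∈ (maximalIdeal OX ^ N).map
        (algebraMap OX (AdicCompletion (maximalIdeal OX) OX)) := by
  haveI := isHenselization (R := OX)
  letI : Algebra C (Henselization OX) :=
    ((algebraMap OX (Henselization OX)).comp (algebraMap C OX)).toAlgebra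
  haveI : IsScalarTower C OX (Henselization OX) := IsScalarTower.of_algebraMap_eq fun _ => rfl
  have hcrit := crit_henselization_of_isLocalization C 𝔭 OX (Henselization OX)
  -- algebra structures on the completion
  letI algΛX : Algebra Λ OX := ((algebraMap C OX).comp (algebraMap Λ C)).toAlgebra
  haveI : IsScalarTower Λ C OX := IsScalarTower.of_algebraMap_eq fun _ => rfl
  haveI : IsScalarTower Λ C (AdicCompletion (maximalIdeal OX) OX) :=
    IsScalarTower.of_algebraMap_eq fun _ => rfl
  -- the map from the tensor product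
  let φB : B →ₐ[Λ] AdicCompletion (maximalIdeal OX) OX :=
    { φ.comp (algebraMap B OY) with
      commutes' := fun l => by
        show φ (algebraMap B OY (algebraMap Λ B l)) = _
        rw [hφ]
        rfl }
  let f : C ⊗[Λ] B →ₐ[C] AdicCompletion (maximalIdeal OX) OX :=
    Algebra.TensorProduct.lift (Algebra.ofId C _) φB (fun _ _ => Commute.all _ _)
  obtain ⟨R', _, _, hEt, γ, ψ, h, h1, h2, hunit, h3⟩ :=
    approx_etale_alg' (A := C) OX hreg (Henselization OX) hcrit (C ⊗[Λ] B) f.toRingHom
      (fun r => by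
        show f (algebraMap C _ r) = _
        rw [f.commutes]
        rfl) N
  -- the prime
  have hm_ne : ∀ z : AdicCompletion (maximalIdeal OX) OX,
      z ∈ (maximalIdeal OX).map (algebraMap OX (AdicCompletion (maximalIdeal OX) OX)) →
      ¬ IsUnit z := not_isUnit_of_mem_map_maximalIdeal
  have hpowle : (maximalIdeal OX ^ N).map (algebraMap OX (AdicCompletion (maximalIdeal OX) OX)) ≤
      (maximalIdeal OX).map (algebraMap OX (AdicCompletion (maximalIdeal OX) OX)) :=
    Ideal.map_mono (Ideal.pow_le_self (by omega))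
  set 𝔭' : Ideal R' := (maximalIdeal (Henselization OX)).comap γ.toRingHom with h𝔭'
  have hmem : ∀ x, x ∈ 𝔭' ↔ γ x ∈ maximalIdeal (Henselization OX) := fun x => Iff.rfl
  have hunit' : ∀ x, x ∉ 𝔭' → IsUnit (ψ x) := by
    intro x hx
    apply hunit
    rw [hmem, mem_maximalIdeal, mem_nonunits_iff, not_not] at hx
    exact hx
  let hB : B →+* R' := h.toRingHom.comp
    (Algebra.TensorProduct.includeRight : B →ₐ[Λ] C ⊗[Λ] B).toRingHom
  have hfB : ∀ β : B, f (Algebra.TensorProduct.includeRight β) = φ (algebraMap B OY β) := by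
    intro β
    show f ((1 : C) ⊗ₜ[Λ] β) = _
    rw [Algebra.TensorProduct.lift_tmul, map_one, one_mul]
    rfl
  have happrox : ∀ β : B, ψ (hB β) - φ (algebraMap B OY β) ∈ (maximalIdeal OX ^ N).map
      (algebraMap OX (AdicCompletion (maximalIdeal OX) OX)) := by
    intro β
    have := h3 (Algebra.TensorProduct.includeRight β)
    rw [← hfB β, ← neg_sub]
    exact Ideal.neg_mem_iff _ |>.mpr this
  refine ⟨R', inferInstance, inferInstance, hEt, 𝔭', Ideal.comap_isPrime _ _, hB, ψ,
    ?_, ?_, ?_, ?_, h1, hunit', fun x hx => h2 x hx, happrox⟩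
  · rw [h𝔭', Ideal.comap_comap]
    have : γ.toRingHom.comp (algebraMap C R') =
        (algebraMap OX (Henselization OX)).comp (algebraMap C OX) :=
      RingHom.ext fun r => γ.commutes r
    rw [this, ← Ideal.comap_comap, IsLocalRing.maximalIdeal_comap]
    exact IsLocalization.AtPrime.comap_maximalIdeal OX 𝔭
  · intro x
    obtain ⟨y, hy⟩ := residue_surjective_of_isHenselization (R := OX) (Henselization OX) (γ x)
    obtain ⟨r, s, rfl⟩ := IsLocalization.exists_mk'_eq 𝔭.primeCompl y
    refine ⟨r, s, s.2, ?_⟩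
    rw [hmem, map_sub, map_mul, γ.commutes, γ.commutes]
    have e1 : algebraMap C (Henselization OX) r =
        algebraMap C (Henselization OX) s *
          algebraMap OX (Henselization OX) (IsLocalization.mk' OX r s) := by
      rw [IsScalarTower.algebraMap_apply C OX (Henselization OX) s, ← map_mul, mul_comm,
        IsLocalization.mk'_spec, ← IsScalarTower.algebraMap_apply]
    rw [e1, ← mul_sub]
    exact Ideal.mul_mem_left _ _ hy
  · intro l
    show h (Algebra.TensorProduct.includeRight (algebraMap Λ B l)) = _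
    rw [AlgHom.commutes, IsScalarTower.algebraMap_apply Λ C (C ⊗[Λ] B), AlgHom.commutes]
  · ext β
    rw [Ideal.mem_comap]
    constructor
    · intro hβ
      by_contra hβ𝔮
      have hu : IsUnit (algebraMap B OY β) :=
        IsLocalization.map_units OY (⟨β, hβ𝔮⟩ : 𝔮.primeCompl)
      have hu' : IsUnit (φ (algebraMap B OY β)) := hu.map φ
      apply hm_ne _ _ hu'
      have e1 := h2 _ hβ
      have e2 := hpowle (happrox β)
      have : φ (algebraMap B OY β) = ψ (hB β) - (ψ (hB β) - φ (algebraMap B OY β)) := by ring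
      rw [this]
      exact Ideal.sub_mem _ e1 e2
    · intro hβ𝔮
      by_contra hβ
      have hu := hunit' _ hβ
      apply hm_ne _ _ hu
      have e0 : algebraMap B OY β ∈ maximalIdeal OY :=
        (IsLocalization.AtPrime.to_map_mem_maximal_iff OY 𝔮 β).mpr hβ𝔮
      have e1 := hloc _ e0
      have e2 := hpowle (happrox β)
      have : ψ (hB β) = (ψ (hB β) - φ (algebraMap B OY β)) + φ (algebraMap B OY β) := by ring
      rw [this]
      exact Ideal.add_mem _ e2 e1

end Groth.Agent.H5.Pop
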