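import Mathlib
import Groth.Agent.Lib.Helper5.Pop.EtIso4
import Groth.Agent.Lib.Helper5.Pop.EtPair2
import Groth.Agent.Lib.Helper5.ES.D

set_option autoImplicit false
universe u
open IsLocalRing TensorProduct

namespace Groth.Agent.H5.Pop

/-- étaleness at a prime from the local data: flat + unramified + trivial residue extension. -/
theorem isEtaleAt_of_local {B R' : Type u} [CommRing B] [CommRing R'] [Algebra B R']
    [IsNoetherianRing B] [Algebra.FiniteType B R']
    (𝔮 : Ideal B) [𝔮.IsPrime] (OY : Type u) [CommRing OY] [IsLocalRing OY] [IsNoetherianRing OY]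
    [Algebra B OY] [IsLocalization.AtPrime OY 𝔮]
    (𝔭' : Ideal R') [𝔭'.IsPrime]
    (Fm : OY →+* Localization.AtPrime 𝔭')
    (hF1 : ∀ β : B, Fm (algebraMap B OY β) =
      algebraMap R' (Localization.AtPrime 𝔭') (algebraMap B R' β))
    (hmap : (maximalIdeal OY).map Fm = maximalIdeal (Localization.AtPrime 𝔭'))
    (hres : ∀ z : Localization.AtPrime 𝔭', ∃ w : OY, z - Fm w ∈
      maximalIdeal (Localization.AtPrime 𝔭'))
    (hflat : letI := Fm.toAlgebra; Module.Flat OY (Localization.AtPrime 𝔭')) :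
    Algebra.IsEtaleAt B 𝔭' := by
  letI algYU : Algebra OY (Localization.AtPrime 𝔭') := Fm.toAlgebra
  haveI : IsScalarTower B OY (Localization.AtPrime 𝔭') :=
    IsScalarTower.of_algebraMap_eq fun β => by
      rw [IsScalarTower.algebraMap_apply B R' (Localization.AtPrime 𝔭')]
      exact (hF1 β).symm
  haveI hloc : IsLocalHom (algebraMap OY (Localization.AtPrime 𝔭')) :=
    ((IsLocalRing.local_hom_TFAE (algebraMap OY (Localization.AtPrime 𝔭'))).out 0 2).mpr hmap.le
  haveI : Algebra.EssFiniteType R' (Localization.AtPrime 𝔭') :=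
    Algebra.EssFiniteType.of_isLocalization _ 𝔭'.primeCompl
  haveI : Algebra.EssFiniteType B (Localization.AtPrime 𝔭') :=
    Algebra.EssFiniteType.comp B R' _
  haveI : Algebra.EssFiniteType OY (Localization.AtPrime 𝔭') :=
    Algebra.EssFiniteType.of_comp B OY _
  haveI : Module.Flat OY (Localization.AtPrime 𝔭') := hflat
  haveI : Algebra.IsSeparable (ResidueField OY) (ResidueField (Localization.AtPrime 𝔭')) := by
    constructor
    intro ζ
    obtain ⟨z, rfl⟩ := IsLocalRing.residue_surjective ζ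
    obtain ⟨w, hw⟩ := hres z
    have : IsLocalRing.residue _ z = algebraMap (ResidueField OY)
        (ResidueField (Localization.AtPrime 𝔭')) (IsLocalRing.residue OY w) := by
      rw [← sub_eq_zero]
      show IsLocalRing.residue _ z - IsLocalRing.residue _ (Fm w) = 0
      rw [← map_sub, IsLocalRing.residue_eq_zero_iff]
      exact hw
    rw [this]
    exact isSeparable_algebraMap _
  haveI : Algebra.FormallyUnramified OY (Localization.AtPrime 𝔭') :=
    Algebra.FormallyUnramified.of_map_maximalIdeal hmap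
  haveI : Algebra.FormallyEtale OY (Localization.AtPrime 𝔭') :=
    Groth.Agent.H5.ES.formallyEtale_of_flat_local OY _
  haveI : Algebra.FormallyEtale B OY := Algebra.FormallyEtale.of_isLocalization 𝔮.primeCompl
  exact Algebra.FormallyEtale.comp B OY (Localization.AtPrime 𝔭')


set_option maxHeartbeats 1600000 in
/-- **Algebraic core of Artin's Corollary 2.6.** -/
theorem approx_etale_pair_iso {Λ C B : Type u} [CommRing Λ] [CommRing C] [CommRing B]
    [Algebra Λ C] [Algebra Λ B] [IsNoetherianRing Λ] [Algebra.FiniteType Λ C]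
    [Algebra.FiniteType Λ B]
    (𝔭 : Ideal C) [𝔭.IsPrime] (OX : Type u) [CommRing OX] [IsLocalRing OX] [IsNoetherianRing OX]
    [Algebra C OX] [IsLocalization.AtPrime OX 𝔭]
    (hreg : CAlg.IsRegularHom OX (AdicCompletion (maximalIdeal OX) OX))
    (𝔮 : Ideal B) [𝔮.IsPrime] (OY : Type u) [CommRing OY] [IsLocalRing OY] [IsNoetherianRing OY]
    [Algebra B OY] [IsLocalization.AtPrime OY 𝔮]
    (φ : AdicCompletion (maximalIdeal OY) OY ≃+* AdicCompletion (maximalIdeal OX) OX)
    (hφ : ∀ l : Λ, φ (algebraMap OY (AdicCompletion (maximalIdeal OY) OY)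
        (algebraMap B OY (algebraMap Λ B l))) =
      algebraMap OX (AdicCompletion (maximalIdeal OX) OX) (algebraMap C OX (algebraMap Λ C l)))
    (N : ℕ) (hN : 2 ≤ N) :
    ∃ (R' : Type u) (_ : CommRing R') (_ : Algebra C R') (_ : Algebra.Etale C R')
      (𝔭' : Ideal R') (_ : 𝔭'.IsPrime) (hB : B →+* R'),
      𝔭'.comap (algebraMap C R') = 𝔭 ∧
      (∀ l : Λ, hB (algebraMap Λ B l) = algebraMap C R' (algebraMap Λ C l)) ∧
      𝔭'.comap hB = 𝔮 ∧ hB.Etale ∧
      ∀ (OU : Type u) [CommRing OU] [IsLocalRing OU] [Algebra R' OU]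
        [IsLocalization.AtPrime OU 𝔭']
        (E : OX →+* OU) (_ : ∀ c : C, E (algebraMap C OX c) = algebraMap R' OU (algebraMap C R' c))
        (Fm : OY →+* OU) (_ : ∀ β : B, Fm (algebraMap B OY β) = algebraMap R' OU (hB β)),
        (∀ z : OU, ∃ w : OX, z - E w ∈ maximalIdeal OU) ∧
        (∀ z : OU, ∃ w : OY, z - Fm w ∈ maximalIdeal OU) ∧
        ∀ M : ℕ, M ≤ N → ∀ (b : AdicCompletion (maximalIdeal OY) OY) (cY : OY) (cX : OX),
          AdicCompletion.evalₐ (maximalIdeal OY) M b =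
            Ideal.Quotient.mk (maximalIdeal OY ^ M) cY →
          AdicCompletion.evalₐ (maximalIdeal OX) M (φ b) =
            Ideal.Quotient.mk (maximalIdeal OX ^ M) cX →
          Ideal.Quotient.mk (maximalIdeal OU ^ M) (Fm cY) =
            Ideal.Quotient.mk (maximalIdeal OU ^ M) (E cX) := by
  haveI : IsNoetherianRing C := Algebra.FiniteType.isNoetherianRing Λ C
  haveI : IsNoetherianRing B := Algebra.FiniteType.isNoetherianRing Λ B
  haveI : Algebra.FinitePresentation Λ B := Algebra.FinitePresentation.of_finiteType.mp inferInstance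
  -- Step 1: the approximation
  obtain ⟨φ₀, hφ₀⟩ : ∃ φ₀ : OY →+* AdicCompletion (maximalIdeal OX) OX,
      ∀ b, φ₀ b = φ (algebraMap OY (AdicCompletion (maximalIdeal OY) OY) b) :=
    ⟨φ.toRingHom.comp (algebraMap OY (AdicCompletion (maximalIdeal OY) OY)), fun _ => rfl⟩
  have hloc₀ : ∀ b ∈ maximalIdeal OY, φ₀ b ∈ (maximalIdeal OX).map
      (algebraMap OX (AdicCompletion (maximalIdeal OX) OX)) := by
    intro b hb
    rw [hφ₀, ← AdicCompletion.maximalIdeal_eq_map]
    have h1 : algebraMap OY (AdicCompletion (maximalIdeal OY) OY) b ∈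
        maximalIdeal (AdicCompletion (maximalIdeal OY) OY) ^ 1 := by
      rw [pow_one, AdicCompletion.maximalIdeal_eq_map]
      exact Ideal.mem_map_of_mem _ hb
    have := (mem_maximalIdeal_pow_iff_of_bijective φ.toRingHom φ.bijective 1 _).mpr h1
    rwa [pow_one] at this
  obtain ⟨R'₀, _, _, hEt₀, 𝔭'₀, h𝔭'₀prime, hB₀, ψ₀, h1, h2, h3, h4, h5, h6, -, h8⟩ :=
    approx_etale_pair (Λ := Λ) 𝔭 OX hreg 𝔮 OY φ₀ (fun l => by rw [hφ₀]; exact hφ l) hloc₀ N
      (by omega)
  haveI : Algebra.FiniteType C R'₀ := inferInstance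
  haveI : IsNoetherianRing R'₀ := Algebra.FiniteType.isNoetherianRing C R'₀
  have h8' : ∀ β : B, ψ₀ (hB₀ β) - φ (algebraMap OY (AdicCompletion (maximalIdeal OY) OY)
      (algebraMap B OY β)) ∈ (maximalIdeal OX ^ N).map
      (algebraMap OX (AdicCompletion (maximalIdeal OX) OX)) := fun β => by
    rw [← hφ₀]; exact h8 β
  -- Step 2: the local ring of `R'₀`
  haveI : IsNoetherianRing (Localization.AtPrime 𝔭'₀) :=
    IsLocalization.isNoetherianRing 𝔭'₀.primeCompl _ inferInstance
  have hunitC : ∀ s : 𝔭.primeCompl, IsUnit ((algebraMap R'₀ (Localization.AtPrime 𝔭'₀)).comp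
      (algebraMap C R'₀) (s : C)) := by
    intro s
    apply IsLocalization.map_units (Localization.AtPrime 𝔭'₀)
      (⟨algebraMap C R'₀ (s : C), ?_⟩ : 𝔭'₀.primeCompl)
    intro h
    have : (s : C) ∈ 𝔭'₀.comap (algebraMap C R'₀) := h
    rw [h1] at this
    exact s.2 this
  have hunitB : ∀ s : 𝔮.primeCompl, IsUnit ((algebraMap R'₀ (Localization.AtPrime 𝔭'₀)).comp
      hB₀ (s : B)) := by
    intro s
    apply IsLocalization.map_units (Localization.AtPrime 𝔭'₀)
      (⟨hB₀ (s : B), ?_⟩ : 𝔭'₀.primeCompl)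
    intro h
    have : (s : B) ∈ 𝔭'₀.comap hB₀ := h
    rw [h4] at this
    exact s.2 this
  let E₀ : OX →+* Localization.AtPrime 𝔭'₀ :=
    IsLocalization.lift (M := 𝔭.primeCompl) hunitC
  let Fm₀ : OY →+* Localization.AtPrime 𝔭'₀ :=
    IsLocalization.lift (M := 𝔮.primeCompl) hunitB
  have hE1₀ : ∀ c : C, E₀ (algebraMap C OX c) =
      algebraMap R'₀ (Localization.AtPrime 𝔭'₀) (algebraMap C R'₀ c) :=
    fun c => IsLocalization.lift_eq _ c
  have hF1₀ : ∀ β : B, Fm₀ (algebraMap B OY β) =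
      algebraMap R'₀ (Localization.AtPrime 𝔭'₀) (hB₀ β) :=
    fun β => IsLocalization.lift_eq _ β
  obtain ⟨-, hmap₀, hresF₀, hflat₀, -⟩ := pair_iso_local 𝔭 OX 𝔮 OY 𝔭'₀
    (Localization.AtPrime 𝔭'₀) h1 h2 hB₀ ψ₀ φ h5 h6 N hN h8' E₀ hE1₀ Fm₀ hF1₀
  -- Step 3: étaleness at `𝔭'₀`
  letI algBR : Algebra B R'₀ := hB₀.toAlgebra
  letI algΛR : Algebra Λ R'₀ := ((algebraMap C R'₀).comp (algebraMap Λ C)).toAlgebra
  haveI : IsScalarTower Λ C R'₀ := IsScalarTower.of_algebraMap_eq fun _ => rfl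
  haveI : IsScalarTower Λ B R'₀ := IsScalarTower.of_algebraMap_eq fun l => (h3 l).symm
  haveI : Algebra.FiniteType Λ R'₀ := Algebra.FiniteType.trans (S := C) inferInstance inferInstance
  haveI : Algebra.FiniteType B R'₀ := Algebra.FiniteType.of_restrictScalars_finiteType Λ B R'₀
  haveI : Algebra.FinitePresentation B R'₀ :=
    Algebra.FinitePresentation.of_finiteType.mp inferInstance
  haveI hEtAt : Algebra.IsEtaleAt B 𝔭'₀ :=
    isEtaleAt_of_local 𝔮 OY 𝔭'₀ Fm₀ hF1₀ hmap₀ hresF₀ hflat₀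
  obtain ⟨g, hg, hEtg⟩ := Algebra.exists_etale_of_isEtaleAt (R := B) 𝔭'₀
  -- Step 4: shrink
  have hdisj : Disjoint ((Submonoid.powers g : Submonoid R'₀) : Set R'₀) (𝔭'₀ : Set R'₀) := by
    rw [Set.disjoint_left]
    rintro _ ⟨n, rfl⟩ hn
    exact hg (h𝔭'₀prime.mem_of_pow_mem n hn)
  have hprime' : (𝔭'₀.map (algebraMap R'₀ (Localization.Away g))).IsPrime :=
    IsLocalization.isPrime_of_isPrime_disjoint (Submonoid.powers g) _ 𝔭'₀ h𝔭'₀prime hdisj
  have hcomap' : (𝔭'₀.map (algebraMap R'₀ (Localization.Away g))).comap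
      (algebraMap R'₀ (Localization.Away g)) = 𝔭'₀ :=
    IsLocalization.under_map_of_isPrime_disjoint (Submonoid.powers g) _ h𝔭'₀prime hdisj
  haveI : Algebra.Etale R'₀ (Localization.Away g) := Algebra.Etale.of_isLocalizationAway g
  haveI hEtC : Algebra.Etale C (Localization.Away g) := Algebra.Etale.comp C R'₀ _
  refine ⟨Localization.Away g, inferInstance, inferInstance, hEtC,
    𝔭'₀.map (algebraMap R'₀ (Localization.Away g)), hprime',
    (algebraMap R'₀ (Localization.Away g)).comp hB₀, ?_, ?_, ?_, ?_, ?_⟩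
  · rw [IsScalarTower.algebraMap_eq C R'₀ (Localization.Away g), ← Ideal.comap_comap, hcomap', h1]
  · intro l
    show algebraMap R'₀ (Localization.Away g) (hB₀ (algebraMap Λ B l)) = _
    rw [h3, ← IsScalarTower.algebraMap_apply C R'₀]
  · rw [← Ideal.comap_comap, hcomap', h4]
  · have h9 : (algebraMap B (Localization.Away g)).Etale := RingHom.etale_algebraMap.mpr hEtg
    have e : (algebraMap R'₀ (Localization.Away g)).comp hB₀ = algebraMap B (Localization.Away g) :=
      (IsScalarTower.algebraMap_eq B R'₀ _).symm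
    rw [e]
    exact h9
  · intro OU _ _ _ locU E hE1 Fm hF1
    letI algR₀U : Algebra R'₀ OU := ((algebraMap (Localization.Away g) OU).comp
      (algebraMap R'₀ (Localization.Away g))).toAlgebra
    haveI : IsScalarTower R'₀ (Localization.Away g) OU :=
      IsScalarTower.of_algebraMap_eq fun _ => rfl
    have aux : ∀ (P : Ideal R'₀) [P.IsPrime], P = 𝔭'₀ → IsLocalization.AtPrime OU P →
        IsLocalization.AtPrime OU 𝔭'₀ := by
      intro P _ hP h
      subst hP
      exact h
    haveI locU₀ : IsLocalization.AtPrime OU 𝔭'₀ :=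
      aux _ hcomap' (IsLocalization.isLocalization_isLocalization_atPrime_isLocalization
        (Submonoid.powers g) OU (𝔭'₀.map (algebraMap R'₀ (Localization.Away g))))
    haveI : IsNoetherianRing OU := IsLocalization.isNoetherianRing 𝔭'₀.primeCompl OU inferInstance
    have hE1' : ∀ c : C, E (algebraMap C OX c) = algebraMap R'₀ OU (algebraMap C R'₀ c) := by
      intro c
      rw [hE1, IsScalarTower.algebraMap_apply C R'₀ (Localization.Away g)]
      rfl
    have hF1' : ∀ β : B, Fm (algebraMap B OY β) = algebraMap R'₀ OU (hB₀ β) := by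
      intro β
      rw [hF1]
      rfl
    obtain ⟨hresE, -, hresF, -, hcmp⟩ := pair_iso_local 𝔭 OX 𝔮 OY 𝔭'₀ OU h1 h2 hB₀ ψ₀ φ h5 h6 N hN
      h8' E hE1' Fm hF1'
    exact ⟨hresE, hresF, hcmp⟩

end Groth.Agent.H5.Pop
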