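import Mathlib
import Groth.Agent.Lib.Helper5.Pop.CAW6
import Groth.Agent.Lib.Helper5.Pop.EtIso5
import Groth.Agent.S0598
import Groth.Agent.S0599
import Groth.Agent.Lib.Helper3.CA.ExcellentLoc

set_option autoImplicit false
universe u
open IsLocalRing TensorProduct

namespace Groth.Agent.H5.Pop.CAW

open Groth.Agent.H5.Pop

theorem ResSurj.comp {A₀ A R : Type u} [CommRing A₀] [CommRing A] [CommRing R] (f : A →+* R)
    (g : A₀ →+* A) (𝔮 : Ideal R) [𝔮.IsPrime] (hf : ResSurj f 𝔮) (hg : ResSurj g (𝔮.comap f)) :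
    ResSurj (f.comp g) 𝔮 := by
  haveI : IsDomain (R ⧸ 𝔮) := Ideal.Quotient.isDomain 𝔮
  obtain ⟨ρ, hρdef⟩ : ∃ ρ : R →+* FractionRing (R ⧸ 𝔮),
      ρ = (algebraMap (R ⧸ 𝔮) (FractionRing (R ⧸ 𝔮))).comp (Ideal.Quotient.mk 𝔮) := ⟨_, rfl⟩
  have hρ : RingHom.ker ρ = 𝔮 := by
    ext r
    rw [RingHom.mem_ker, hρdef, RingHom.comp_apply,
      map_eq_zero_iff _ (IsFractionRing.injective (R ⧸ 𝔮) (FractionRing (R ⧸ 𝔮))),
      Ideal.Quotient.eq_zero_iff_mem]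
  apply resSurj_of_mem_closure (f.comp g) 𝔮 ρ hρ
  intro z
  have h1 := mem_closure_of_resSurj f 𝔮 ρ hρ hf z
  have hρ' : RingHom.ker (ρ.comp f) = 𝔮.comap f := by
    ext a
    rw [RingHom.mem_ker, Ideal.mem_comap, RingHom.comp_apply, ← RingHom.mem_ker, hρ]
  have hle : Subfield.closure (Set.range (ρ.comp f)) ≤
      Subfield.closure (Set.range (ρ.comp (f.comp g))) := by
    rw [Subfield.closure_le]
    rintro _ ⟨a, rfl⟩
    exact mem_closure_of_resSurj g (𝔮.comap f) (ρ.comp f) hρ' hg a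
  exact hle h1

section RLA

variable {Λ C D B : Type u} [CommRing Λ] [CommRing C] [CommRing D] [CommRing B]
  [Algebra Λ C] [Algebra D B] [IsNoetherianRing Λ] [Algebra.FiniteType Λ C]
  [Algebra.FiniteType D B]
  (𝔰 : Ideal Λ) [𝔰.IsPrime] (OS : Type u) [CommRing OS] [IsLocalRing OS] [IsNoetherianRing OS]
  [Algebra Λ OS] [IsLocalization.AtPrime OS 𝔰]
  (𝔭 : Ideal C) [𝔭.IsPrime] (OX : Type u) [CommRing OX] [IsLocalRing OX] [IsNoetherianRing OX]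
  [Algebra C OX] [IsLocalization.AtPrime OX 𝔭]
  (i : OS →+* OX) [IsLocalHom i]
  (hi : ∀ l : Λ, i (algebraMap Λ OS l) = algebraMap C OX (algebraMap Λ C l))
  [Algebra D (AdicCompletion (maximalIdeal OS) OS)]
  (Bσ : Type u) [CommRing Bσ] [Algebra B Bσ] [Algebra (AdicCompletion (maximalIdeal OS) OS) Bσ]
  [Algebra D Bσ] [IsScalarTower D (AdicCompletion (maximalIdeal OS) OS) Bσ]
  [IsScalarTower D B Bσ] [Algebra.IsPushout D (AdicCompletion (maximalIdeal OS) OS) B Bσ]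
  (𝔮σ : Ideal Bσ) [𝔮σ.IsPrime]
  (OYσ : Type u) [CommRing OYσ] [IsLocalRing OYσ] [Algebra Bσ OYσ]
  [IsLocalization.AtPrime OYσ 𝔮σ]
  (φ : AdicCompletion (maximalIdeal OX) OX ≃+* AdicCompletion (maximalIdeal OYσ) OYσ)
  (hφ : ∀ o : OS, φ (algebraMap OX (AdicCompletion (maximalIdeal OX) OX) (i o)) =
    algebraMap OYσ (AdicCompletion (maximalIdeal OYσ) OYσ) (algebraMap Bσ OYσ
      (algebraMap (AdicCompletion (maximalIdeal OS) OS) Bσ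
        (algebraMap OS (AdicCompletion (maximalIdeal OS) OS) o))))

local notation "Ôs" => AdicCompletion (maximalIdeal OS) OS
local notation "Ôx" => AdicCompletion (maximalIdeal OX) OX

set_option maxHeartbeats 3200000 in
include 𝔰 𝔭 hi in
theorem rla_aux (j : AdicCompletion (maximalIdeal OS) OS →+* AdicCompletion (maximalIdeal OX) OX)
    (hjdef : j = φ.symm.toRingHom.comp
      ((algebraMap OYσ (AdicCompletion (maximalIdeal OYσ) OYσ)).comp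
        ((algebraMap Bσ OYσ).comp (algebraMap (AdicCompletion (maximalIdeal OS) OS) Bσ))))
    (hj : ∀ o : OS, j (algebraMap OS (AdicCompletion (maximalIdeal OS) OS) o) =
      algebraMap OX (AdicCompletion (maximalIdeal OX) OX) (i o))
    (κ : AdicCompletion (maximalIdeal OS) OS ⊗[Λ] C →+* AdicCompletion (maximalIdeal OX) OX)
    (hκ : ∀ o c, κ (o ⊗ₜ c) = j o * algebraMap OX (AdicCompletion (maximalIdeal OX) OX)
      (algebraMap C OX c))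
    (𝔭σ : Ideal (AdicCompletion (maximalIdeal OS) OS ⊗[Λ] C)) [𝔭σ.IsPrime]
    (h𝔭σ : 𝔭σ = (maximalIdeal (AdicCompletion (maximalIdeal OX) OX)).comap κ)
    (OXσ : Type u) [CommRing OXσ] [IsLocalRing OXσ]
    [Algebra (AdicCompletion (maximalIdeal OS) OS ⊗[Λ] C) OXσ] [IsLocalization.AtPrime OXσ 𝔭σ] :
    ∃ (R : Type u) (_ : CommRing R) (_ : Algebra Ôs R) (uC : Ôs ⊗[Λ] C →ₐ[Ôs] R)
      (uB : Ôs ⊗[D] B →ₐ[Ôs] R) (𝔯 : Ideal R) (_ : 𝔯.IsPrime),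
      uC.toRingHom.Etale ∧ uB.toRingHom.Etale ∧
      𝔯.comap (algebraMap Ôs R) = maximalIdeal Ôs ∧
      ResSurj (uC.toRingHom.comp (Algebra.TensorProduct.includeRight :
        C →ₐ[Λ] Ôs ⊗[Λ] C).toRingHom) 𝔯 ∧
      ResSurj uB.toRingHom 𝔯 ∧
      𝔯.comap (uC.toRingHom.comp (Algebra.TensorProduct.includeRight :
        C →ₐ[Λ] Ôs ⊗[Λ] C).toRingHom) = 𝔭 ∧
      𝔯.comap (uB.toRingHom.comp (Algebra.TensorProduct.includeRight :
        B →ₐ[D] Ôs ⊗[D] B).toRingHom) = 𝔮σ.comap (algebraMap B Bσ) := by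
  haveI : IsNoetherianRing Ôs := Groth.Agent.S0543.result OS (maximalIdeal OS)
  haveI : IsNoetherianRing Ôx := Groth.Agent.S0543.result OX (maximalIdeal OX)
  haveI : Algebra.FiniteType Ôs Bσ :=
    Algebra.FiniteType.equiv (inferInstance : Algebra.FiniteType Ôs (Ôs ⊗[D] B))
      (Algebra.IsPushout.equiv D Ôs B Bσ)
  haveI : IsNoetherianRing Bσ := Algebra.FiniteType.isNoetherianRing Ôs Bσ
  haveI : IsNoetherianRing OYσ := IsLocalization.isNoetherianRing 𝔮σ.primeCompl _ inferInstance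
  haveI : IsNoetherianRing (Ôs ⊗[Λ] C) := Algebra.FiniteType.isNoetherianRing Ôs _
  obtain ⟨β, hβ⟩ := stage1 𝔰 OS 𝔭 OX i hi j hj κ hκ 𝔭σ h𝔭σ OXσ
  have ha := comap_includeRight OS 𝔭 OX j κ hκ 𝔭σ h𝔭σ
  have hb := comap_algebraMap OS OX i j hj κ hκ 𝔭σ h𝔭σ
  -- Stage 2
  have hGÔ : CAlg.IsGRing Ôs := Groth.Agent.S0598.result Ôs
  have hGCσ : CAlg.IsGRing (Ôs ⊗[Λ] C) := Groth.Agent.S0599.result Ôs hGÔ (Ôs ⊗[Λ] C)
  have hGXσ : CAlg.IsGRing OXσ :=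
    Groth.Agent.H3.GRing.isGRing_of_isLocalization _ 𝔭σ.primeCompl _ hGCσ
  have hreg := isRegularHom_cpl_of_isGRing hGXσ
  haveI : IsNoetherianRing OXσ := hGXσ.1
  obtain ⟨φσ, hφσdef⟩ : ∃ φσ : AdicCompletion (maximalIdeal OYσ) OYσ ≃+*
      AdicCompletion (maximalIdeal OXσ) OXσ,
      φσ = φ.symm.trans β.symm := ⟨_, rfl⟩
  have hφσ : ∀ o : Ôs, φσ (algebraMap OYσ _ (algebraMap Bσ OYσ (algebraMap Ôs Bσ o))) =
      algebraMap OXσ _ (algebraMap (Ôs ⊗[Λ] C) OXσ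
        (algebraMap Ôs (Ôs ⊗[Λ] C) o)) := by
    intro o
    rw [hφσdef]
    show β.symm (φ.symm _) = _
    rw [RingEquiv.symm_apply_eq, Algebra.TensorProduct.algebraMap_apply, hβ, hκ, map_one, map_one,
      mul_one, hjdef]
    rfl
  obtain ⟨R, _, _, hEt, 𝔯, h𝔯prime, hB, h1, h3, h4, hBet, hmain⟩ :=
    approx_etale_pair_iso (Λ := Ôs) (C := Ôs ⊗[Λ] C) (B := Bσ) 𝔭σ OXσ hreg
      𝔮σ OYσ φσ hφσ 2 le_rfl
  haveI := h𝔯prime
  letI algÔR : Algebra Ôs R :=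
    ((algebraMap (Ôs ⊗[Λ] C) R).comp (algebraMap Ôs (Ôs ⊗[Λ] C))).toAlgebra
  haveI : IsScalarTower Ôs (Ôs ⊗[Λ] C) R := by
    have := IsScalarTower.of_algebraMap_eq (R := Ôs) (S := Ôs ⊗[Λ] C) (A := R) fun _ => rfl
    convert this
  -- residue fields
  have huE : ∀ y : 𝔭σ.primeCompl, IsUnit (((algebraMap R (Localization.AtPrime 𝔯)).comp
      (algebraMap (Ôs ⊗[Λ] C) R)) y) := by
    intro y
    apply IsLocalization.map_units (Localization.AtPrime 𝔯)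
      (⟨algebraMap (Ôs ⊗[Λ] C) R (y : Ôs ⊗[Λ] C), ?_⟩ : 𝔯.primeCompl)
    intro h
    have : (y : Ôs ⊗[Λ] C) ∈ 𝔯.comap (algebraMap (Ôs ⊗[Λ] C) R) := h
    rw [h1] at this
    exact y.2 this
  obtain ⟨E, hE⟩ : ∃ E : OXσ →+* Localization.AtPrime 𝔯, ∀ c, E (algebraMap (Ôs ⊗[Λ] C) OXσ c) =
      algebraMap R (Localization.AtPrime 𝔯) (algebraMap (Ôs ⊗[Λ] C) R c) :=
    ⟨IsLocalization.lift huE, IsLocalization.lift_eq huE⟩
  have huF : ∀ y : 𝔮σ.primeCompl, IsUnit (((algebraMap R (Localization.AtPrime 𝔯)).comp hB) y) := by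
    intro y
    apply IsLocalization.map_units (Localization.AtPrime 𝔯)
      (⟨hB (y : Bσ), ?_⟩ : 𝔯.primeCompl)
    intro h
    have : (y : Bσ) ∈ 𝔯.comap hB := h
    rw [h4] at this
    exact y.2 this
  obtain ⟨Fm, hFm⟩ : ∃ Fm : OYσ →+* Localization.AtPrime 𝔯, ∀ b, Fm (algebraMap Bσ OYσ b) =
      algebraMap R (Localization.AtPrime 𝔯) (hB b) :=
    ⟨IsLocalization.lift huF, IsLocalization.lift_eq huF⟩
  obtain ⟨hresE, hresF, -⟩ := hmain (Localization.AtPrime 𝔯) E hE Fm hFm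
  have hRC : ResSurj (algebraMap (Ôs ⊗[Λ] C) R) 𝔯 :=
    resSurj_of_local _ 𝔯 𝔭σ h1 OXσ (Localization.AtPrime 𝔯) E hE hresE
  have hRB : ResSurj hB 𝔯 :=
    resSurj_of_local hB 𝔯 𝔮σ h4 OYσ (Localization.AtPrime 𝔯) Fm hFm hresF
  -- the maps
  let hB' : Bσ →ₐ[Ôs] R := { hB with commutes' := fun o => h3 o }
  refine ⟨R, inferInstance, algÔR, IsScalarTower.toAlgHom Ôs (Ôs ⊗[Λ] C) R,
    hB'.comp (Algebra.IsPushout.equiv D Ôs B Bσ).toAlgHom, 𝔯, h𝔯prime, ?_, ?_, ?_, ?_, ?_, ?_, ?_⟩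
  · show (algebraMap (Ôs ⊗[Λ] C) R).Etale
    exact RingHom.etale_algebraMap.mpr hEt
  · exact etale_comp (etale_of_ringEquiv (Algebra.IsPushout.equiv D Ôs B Bσ).toRingEquiv) hBet
  · show 𝔯.comap ((algebraMap (Ôs ⊗[Λ] C) R).comp (algebraMap Ôs (Ôs ⊗[Λ] C))) = _
    rw [← Ideal.comap_comap, h1, hb]
  · apply ResSurj.comp (algebraMap (Ôs ⊗[Λ] C) R) _ 𝔯 hRC
    rw [h1]
    exact resSurj_includeRight 𝔰 OS OX i j hj κ hκ 𝔭σ h𝔭σ
  · intro z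
    obtain ⟨a, s, hs, h⟩ := hRB z
    refine ⟨(Algebra.IsPushout.equiv D Ôs B Bσ).symm a,
      (Algebra.IsPushout.equiv D Ôs B Bσ).symm s, ?_, ?_⟩
    · show hB (Algebra.IsPushout.equiv D Ôs B Bσ ((Algebra.IsPushout.equiv D Ôs B Bσ).symm s)) ∉ 𝔯
      rw [AlgEquiv.apply_symm_apply]
      exact hs
    · show hB (Algebra.IsPushout.equiv D Ôs B Bσ ((Algebra.IsPushout.equiv D Ôs B Bσ).symm s)) * z -
        hB (Algebra.IsPushout.equiv D Ôs B Bσ ((Algebra.IsPushout.equiv D Ôs B Bσ).symm a)) ∈ 𝔯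
      rw [AlgEquiv.apply_symm_apply, AlgEquiv.apply_symm_apply]
      exact h
  · show 𝔯.comap ((algebraMap (Ôs ⊗[Λ] C) R).comp _) = 𝔭
    rw [← Ideal.comap_comap, h1, ha]
  · ext b
    show hB (Algebra.IsPushout.equiv D Ôs B Bσ (1 ⊗ₜ b)) ∈ 𝔯 ↔ algebraMap B Bσ b ∈ 𝔮σ
    rw [Algebra.IsPushout.equiv_tmul, map_one, one_mul, ← h4]
    rfl


set_option maxHeartbeats 1600000 in
include 𝔰 𝔭 hi hφ in
theorem rla :
    ∃ (R : Type u) (_ : CommRing R) (_ : Algebra Ôs R) (uC : Ôs ⊗[Λ] C →ₐ[Ôs] R)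
      (uB : Ôs ⊗[D] B →ₐ[Ôs] R) (𝔯 : Ideal R) (_ : 𝔯.IsPrime),
      uC.toRingHom.Etale ∧ uB.toRingHom.Etale ∧
      𝔯.comap (algebraMap Ôs R) = maximalIdeal Ôs ∧
      ResSurj (uC.toRingHom.comp (Algebra.TensorProduct.includeRight :
        C →ₐ[Λ] Ôs ⊗[Λ] C).toRingHom) 𝔯 ∧
      ResSurj uB.toRingHom 𝔯 ∧
      𝔯.comap (uC.toRingHom.comp (Algebra.TensorProduct.includeRight :
        C →ₐ[Λ] Ôs ⊗[Λ] C).toRingHom) = 𝔭 ∧
      𝔯.comap (uB.toRingHom.comp (Algebra.TensorProduct.includeRight :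
        B →ₐ[D] Ôs ⊗[D] B).toRingHom) = 𝔮σ.comap (algebraMap B Bσ) := by
  obtain ⟨j, hjdef⟩ : ∃ j : Ôs →+* Ôx, j = φ.symm.toRingHom.comp
      ((algebraMap OYσ (AdicCompletion (maximalIdeal OYσ) OYσ)).comp
        ((algebraMap Bσ OYσ).comp (algebraMap Ôs Bσ))) := ⟨_, rfl⟩
  have hj : ∀ o : OS, j (algebraMap OS Ôs o) = algebraMap OX Ôx (i o) := by
    intro o
    rw [hjdef]
    show φ.symm _ = _
    rw [RingEquiv.symm_apply_eq, hφ]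
    rfl
  obtain ⟨κ, hκ⟩ := exists_kappa OS OX i hi j hj
  obtain ⟨𝔭σ, h𝔭σ⟩ : ∃ 𝔭σ : Ideal (Ôs ⊗[Λ] C), 𝔭σ = (maximalIdeal Ôx).comap κ := ⟨_, rfl⟩
  haveI h𝔭σprime : 𝔭σ.IsPrime := by rw [h𝔭σ]; exact Ideal.comap_isPrime κ _
  exact rla_aux 𝔰 OS 𝔭 OX i hi Bσ 𝔮σ OYσ φ j hjdef hj κ hκ 𝔭σ h𝔭σ (Localization.AtPrime 𝔭σ)

end RLA

section Main

variable {Λ C D B : Type u} [CommRing Λ] [CommRing C] [CommRing D] [CommRing B]
  [Algebra Λ C] [Algebra D B] [IsNoetherianRing Λ] [Algebra.FiniteType Λ C]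
  [Algebra.FiniteType ℤ D] [Algebra.FiniteType D B]
  (𝔰 : Ideal Λ) [𝔰.IsPrime] (OS : Type u) [CommRing OS] [IsLocalRing OS] [IsNoetherianRing OS]
  [Algebra Λ OS] [IsLocalization.AtPrime OS 𝔰] (hG : CAlg.IsGRing OS)
  (𝔭 : Ideal C) [𝔭.IsPrime] (OX : Type u) [CommRing OX] [IsLocalRing OX] [IsNoetherianRing OX]
  [Algebra C OX] [IsLocalization.AtPrime OX 𝔭]
  (i : OS →+* OX) [IsLocalHom i]
  (hi : ∀ l : Λ, i (algebraMap Λ OS l) = algebraMap C OX (algebraMap Λ C l))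
  [Algebra D (AdicCompletion (maximalIdeal OS) OS)]
  (Bσ : Type u) [CommRing Bσ] [Algebra B Bσ] [Algebra (AdicCompletion (maximalIdeal OS) OS) Bσ]
  [Algebra D Bσ] [IsScalarTower D (AdicCompletion (maximalIdeal OS) OS) Bσ]
  [IsScalarTower D B Bσ] [Algebra.IsPushout D (AdicCompletion (maximalIdeal OS) OS) B Bσ]
  (𝔮σ : Ideal Bσ) [𝔮σ.IsPrime]
  (OYσ : Type u) [CommRing OYσ] [IsLocalRing OYσ] [Algebra Bσ OYσ]
  [IsLocalization.AtPrime OYσ 𝔮σ]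
  (φ : AdicCompletion (maximalIdeal OX) OX ≃+* AdicCompletion (maximalIdeal OYσ) OYσ)
  (hφ : ∀ o : OS, φ (algebraMap OX (AdicCompletion (maximalIdeal OX) OX) (i o)) =
    algebraMap OYσ (AdicCompletion (maximalIdeal OYσ) OYσ) (algebraMap Bσ OYσ
      (algebraMap (AdicCompletion (maximalIdeal OS) OS) Bσ
        (algebraMap OS (AdicCompletion (maximalIdeal OS) OS) o))))

local notation "Ôs" => AdicCompletion (maximalIdeal OS) OS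

set_option maxHeartbeats 1600000 in
include hG hi hφ in
/-- **Ring-level form of Stacks 0CAW.** -/
theorem caw_ring :
    ∃ (Λ' : Type u) (_ : CommRing Λ') (_ : Algebra Λ Λ') (_ : Algebra.Etale Λ Λ')
      (_ : Algebra D Λ') (𝔰' : Ideal Λ') (_ : 𝔰'.IsPrime)
      (R'' : Type u) (_ : CommRing R'') (_ : Algebra C R'') (_ : Algebra.Etale C R'')
      (𝔭'' : Ideal R'') (_ : 𝔭''.IsPrime) (b₀ : B ⊗[D] Λ' →+* R''),
      𝔰'.comap (algebraMap Λ Λ') = 𝔰 ∧ ResSurj (algebraMap Λ Λ') 𝔰' ∧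
      𝔰'.comap (algebraMap D Λ') = (maximalIdeal Ôs).comap (algebraMap D Ôs) ∧
      𝔭''.comap (algebraMap C R'') = 𝔭 ∧
      ResSurj (algebraMap C R'') 𝔭'' ∧
      (∀ l : Λ, b₀ (1 ⊗ₜ algebraMap Λ Λ' l) = algebraMap C R'' (algebraMap Λ C l)) ∧
      𝔭''.comap (b₀.comp (Algebra.TensorProduct.includeRight : Λ' →ₐ[D] B ⊗[D] Λ').toRingHom) =
        𝔰' ∧
      𝔭''.comap (b₀.comp (Algebra.TensorProduct.includeLeft : B →ₐ[D] B ⊗[D] Λ').toRingHom) =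
        𝔮σ.comap (algebraMap B Bσ) ∧
      b₀.Etale ∧ ResSurj b₀ 𝔭'' := by
  obtain ⟨R, _, _, uC, uB, 𝔯, h𝔯prime, huC, huB, h𝔯, hresC, hresB, hcC, hcB⟩ :=
    rla (D := D) (B := B) 𝔰 OS 𝔭 OX i hi Bσ 𝔮σ OYσ φ hφ
  haveI := h𝔯prime
  obtain ⟨Λ', i1, i2, i3, i4, 𝔰', i5, R'', i6, i7, i8, 𝔭'', i9, b₀, c1, c2, c3, c4, c5, c6, c7, c8,
    c9, c10⟩ := rlb 𝔰 OS hG uC huC uB huB 𝔯 h𝔯 hresC hresB
  exact ⟨Λ', i1, i2, i3, i4, 𝔰', i5, R'', i6, i7, i8, 𝔭'', i9, b₀, c1, c2, c3, c4.trans hcC, c5, c6,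
    c7, c8.trans hcB, c9, c10⟩

end Main

end Groth.Agent.H5.Pop.CAW
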