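import Mathlib
import Groth.Agent.Lib.Helper5.Pop.CAW7
import Groth.Agent.Lib.Helper5.Pop.EtNbhd1

set_option autoImplicit false
universe u
open AlgebraicGeometry CategoryTheory IsLocalRing Opposite TopologicalSpace TensorProduct

namespace Groth.Agent.H5.Pop.CAW

open Groth.Agent.H5.Pop

/-- residue field criterion for a morphism `Spec R' ⟶ X` through an affine open. -/
theorem residueFieldMap_bijective_of_resSurj {X : Scheme.{u}} {V : X.Opens} (hV : IsAffineOpen V)
    {R' : CommRingCat.{u}} (α : Γ(X, V) ⟶ R') (u : Spec R') (x : X) (hx : x ∈ V)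
    (hu : (Spec.map α ≫ hV.fromSpec) u = x)
    (h : ResSurj α.hom (u : PrimeSpectrum R').asIdeal) :
    Function.Bijective ((Spec.map α ≫ hV.fromSpec).residueFieldMap u) := by
  have hu' : (Spec.map α) u = hV.primeIdealOf ⟨x, hx⟩ := by
    apply hV.fromSpec.isOpenEmbedding.injective
    rw [hV.fromSpec_primeIdealOf]
    show hV.fromSpec ((Spec.map α) u) = x
    rw [← hu, Scheme.Hom.comp_apply]
  have h𝔭 : (u : PrimeSpectrum R').asIdeal.comap α.hom = (hV.primeIdealOf ⟨x, hx⟩).asIdeal := by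
    rw [← hu']; rfl
  letI algX : Algebra Γ(X, V) ↑(X.presheaf.stalk x) :=
    TopCat.Presheaf.algebra_section_stalk X.presheaf ⟨x, hx⟩
  haveI locX : IsLocalization.AtPrime ↑(X.presheaf.stalk x) (hV.primeIdealOf ⟨x, hx⟩).asIdeal :=
    hV.isLocalization_stalk ⟨x, hx⟩
  letI algU : Algebra R' ↑((Spec R').presheaf.stalk u) := stalkAlg R' u
  haveI locU : IsLocalization.AtPrime ↑((Spec R').presheaf.stalk u)
      (u : PrimeSpectrum R').asIdeal := isLocalization_stalkAlg R' u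
  have hle₁ : (⊤ : (Spec R').Opens) ≤ (Spec.map α ≫ hV.fromSpec) ⁻¹ᵁ V := by
    intro z _
    show (Spec.map α ≫ hV.fromSpec) z ∈ V
    rw [Scheme.Hom.comp_apply]
    have : hV.fromSpec ((Spec.map α) z) ∈ Set.range hV.fromSpec := Set.mem_range_self _
    rw [hV.range_fromSpec] at this
    exact this
  obtain ⟨E, hEdef⟩ : ∃ E : ↑(X.presheaf.stalk x) →+* ↑((Spec R').presheaf.stalk u),
      E = ((Spec.map α ≫ hV.fromSpec).stalkMap u).hom.comp
        (X.presheaf.stalkCongr (Inseparable.of_eq hu)).inv.hom := ⟨_, rfl⟩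
  have hE1 : ∀ c : Γ(X, V), E (algebraMap Γ(X, V) ↑(X.presheaf.stalk x) c) =
      algebraMap R' ↑((Spec R').presheaf.stalk u) (α.hom c) := by
    intro c
    rw [hEdef]
    show ((Spec.map α ≫ hV.fromSpec).stalkMap u).hom
      ((X.presheaf.stalkCongr (Inseparable.of_eq hu)).inv.hom (X.presheaf.germ V x hx c)) = _
    rw [stalkCongr_inv_germ hu V hx c,
      stalkMap_germ_appLE (Spec.map α ≫ hV.fromSpec) V ⊤ hle₁ u trivial c,
      appLE_SpecMap_fromSpec hV α hle₁]
    rfl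
  have hres := local_of_resSurj α.hom (u : PrimeSpectrum R').asIdeal
    (hV.primeIdealOf ⟨x, hx⟩).asIdeal h𝔭 ↑(X.presheaf.stalk x) ↑((Spec R').presheaf.stalk u) E hE1 h
  refine ⟨((Spec.map α ≫ hV.fromSpec).residueFieldMap u).hom.injective, ?_⟩
  intro ζ
  obtain ⟨z, rfl⟩ := Scheme.residue_surjective _ u ζ
  obtain ⟨w, hw⟩ := hres z
  refine ⟨X.residue _ ((X.presheaf.stalkCongr (Inseparable.of_eq hu)).inv.hom w), ?_⟩
  have h9 := Scheme.residue_residueFieldMap (Spec.map α ≫ hV.fromSpec) u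
  have h10 := congr($(h9).hom ((X.presheaf.stalkCongr (Inseparable.of_eq hu)).inv.hom w))
  refine h10.trans ?_
  show IsLocalRing.residue _ (((Spec.map α ≫ hV.fromSpec).stalkMap u).hom
    ((X.presheaf.stalkCongr (Inseparable.of_eq hu)).inv.hom w)) = IsLocalRing.residue _ z
  symm
  rw [← sub_eq_zero, ← map_sub, IsLocalRing.residue_eq_zero_iff]
  rw [hEdef] at hw
  exact hw

theorem residueFieldMap_SpecMap_bijective {R R' : CommRingCat.{u}} (β : R ⟶ R') (u : Spec R')
    (h : ResSurj β.hom (u : PrimeSpectrum R').asIdeal) :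
    Function.Bijective ((Spec.map β).residueFieldMap u) := by
  have hV := isAffineOpen_top (Spec R)
  have e : Spec.map ((Scheme.ΓSpecIso R).hom ≫ β) ≫ hV.fromSpec = Spec.map β := by
    rw [IsAffineOpen.fromSpec_top, Scheme.isoSpec_Spec_inv, ← Spec.map_comp]
    simp
  have h' : ResSurj ((Scheme.ΓSpecIso R).hom ≫ β).hom (u : PrimeSpectrum R').asIdeal := by
    intro z
    obtain ⟨a, s, hs, h1⟩ := h z
    refine ⟨(Scheme.ΓSpecIso R).inv.hom a, (Scheme.ΓSpecIso R).inv.hom s, ?_, ?_⟩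
    · show β.hom ((Scheme.ΓSpecIso R).hom.hom ((Scheme.ΓSpecIso R).inv.hom s)) ∉ _
      have : (Scheme.ΓSpecIso R).hom.hom ((Scheme.ΓSpecIso R).inv.hom s) = s :=
        congr($((Scheme.ΓSpecIso R).inv_hom_id).hom s)
      rw [this]; exact hs
    · show β.hom ((Scheme.ΓSpecIso R).hom.hom ((Scheme.ΓSpecIso R).inv.hom s)) * z -
        β.hom ((Scheme.ΓSpecIso R).hom.hom ((Scheme.ΓSpecIso R).inv.hom a)) ∈ _
      have e1 : (Scheme.ΓSpecIso R).hom.hom ((Scheme.ΓSpecIso R).inv.hom s) = s :=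
        congr($((Scheme.ΓSpecIso R).inv_hom_id).hom s)
      have e2 : (Scheme.ΓSpecIso R).hom.hom ((Scheme.ΓSpecIso R).inv.hom a) = a :=
        congr($((Scheme.ΓSpecIso R).inv_hom_id).hom a)
      rw [e1, e2]; exact h1
  have key : ∀ (f : Spec R' ⟶ Spec R), f = Spec.map β → Function.Bijective (f.residueFieldMap u) →
      Function.Bijective ((Spec.map β).residueFieldMap u) := by
    rintro _ rfl h; exact h
  exact key _ e (residueFieldMap_bijective_of_resSurj hV ((Scheme.ΓSpecIso R).hom ≫ β) u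
    ((Spec.map β) u) trivial (by rw [e]) h')

theorem finiteType_int_of_affineOpen {T : Scheme.{u}}
    [LocallyOfFiniteType (specULiftZIsTerminal.from T)] {T₀ : T.Opens} (hT₀ : IsAffineOpen T₀) :
    Algebra.FiniteType ℤ Γ(T, T₀) := by
  have h1 : RingHom.FiniteType ((specULiftZIsTerminal.from T).appLE ⊤ T₀ le_top).hom :=
    HasRingHomProperty.appLE (P := @LocallyOfFiniteType) (specULiftZIsTerminal.from T)
      inferInstance ⟨⊤, isAffineOpen_top _⟩ ⟨T₀, hT₀⟩ le_top
  have h2 : RingHom.FiniteType (Scheme.ΓSpecIso (.of (ULift.{u} ℤ))).inv.hom :=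
    RingHom.FiniteType.of_surjective _ (by
      intro z
      exact ⟨(Scheme.ΓSpecIso (.of (ULift.{u} ℤ))).hom.hom z,
        congr($((Scheme.ΓSpecIso (.of (ULift.{u} ℤ))).hom_inv_id).hom z)⟩)
  have h3 : RingHom.FiniteType ((ULift.ringEquiv.{0, u} (R := ℤ)).symm.toRingHom) :=
    RingHom.FiniteType.of_surjective _ (ULift.ringEquiv.{0, u} (R := ℤ)).symm.surjective
  have h4 := (h1.comp h2).comp h3
  have h5 : ((((specULiftZIsTerminal.from T).appLE ⊤ T₀ le_top).hom.comp
      (Scheme.ΓSpecIso (.of (ULift.{u} ℤ))).inv.hom).comp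
      ((ULift.ringEquiv.{0, u} (R := ℤ)).symm.toRingHom)) = algebraMap ℤ Γ(T, T₀) :=
    Subsingleton.elim _ _
  rw [h5] at h4
  exact RingHom.finiteType_algebraMap.mp h4

end Groth.Agent.H5.Pop.CAW
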