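import Mathlib
import Groth.Agent.Lib.Helper5.Pop.CAW8
import Groth.Agent.Lib.Helper5.VAmple.A
import Groth.Agent.Lib.Helper9.Misc.PIN21
import Groth.Agent.Lib.Helper5.Lim.OpensWeakColimit
import Groth.Agent.Lib.Helper1.EtStalk

set_option autoImplicit false
universe u
open AlgebraicGeometry CategoryTheory CategoryTheory.Limits IsLocalRing Opposite TopologicalSpace
  TensorProduct

namespace Groth.Agent.H5.Pop.CAW

open Groth.Agent.H5.Pop

theorem SpecMap_appLE_primeIdealOf {X Y : Scheme.{u}} (f : X ⟶ Y) {U : X.Opens} {V : Y.Opens}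
    (hU : IsAffineOpen U) (hV : IsAffineOpen V) (e : U ≤ f ⁻¹ᵁ V) (x : X) (hx : x ∈ U) :
    (Spec.map (f.appLE V U e)) (hU.primeIdealOf ⟨x, hx⟩) = hV.primeIdealOf ⟨f x, e hx⟩ := by
  apply hV.fromSpec.isOpenEmbedding.injective
  rw [hV.fromSpec_primeIdealOf]
  show hV.fromSpec ((Spec.map (f.appLE V U e)) (hU.primeIdealOf ⟨x, hx⟩)) = f x
  rw [← Scheme.Hom.comp_apply, IsAffineOpen.SpecMap_appLE_fromSpec f hV hU e,
    Scheme.Hom.comp_apply, hU.fromSpec_primeIdealOf]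

theorem comap_appLE_primeIdealOf {X Y : Scheme.{u}} (f : X ⟶ Y) {U : X.Opens} {V : Y.Opens}
    (hU : IsAffineOpen U) (hV : IsAffineOpen V) (e : U ≤ f ⁻¹ᵁ V) (x : X) (hx : x ∈ U) :
    (hU.primeIdealOf ⟨x, hx⟩).asIdeal.comap (f.appLE V U e).hom =
      (hV.primeIdealOf ⟨f x, e hx⟩).asIdeal := by
  rw [← SpecMap_appLE_primeIdealOf f hU hV e x hx]
  rfl

set_option maxHeartbeats 3200000 in
theorem main {X Y S T : Scheme.{u}} [IsLocallyNoetherian S]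
    (p : X ⟶ S) (q : Y ⟶ T) [LocallyOfFiniteType p] [LocallyOfFiniteType q]
    [LocallyOfFiniteType (specULiftZIsTerminal.from T)]
    (x : X) (hG : CAlg.IsGRing ↑(S.presheaf.stalk (p x))) (y : Y)
    (σ : ↑(T.presheaf.stalk (q y)) →+*
      AdicCompletion (maximalIdeal ↑(S.presheaf.stalk (p x))) ↑(S.presheaf.stalk (p x)))
    [IsLocalHom σ]
    (g : Spec (CommRingCat.of (AdicCompletion (maximalIdeal ↑(S.presheaf.stalk (p x)))
      ↑(S.presheaf.stalk (p x)))) ⟶ T)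
    (hg : g = Spec.map (CommRingCat.ofHom σ) ≫ T.fromSpecStalk (q y))
    (yσ : ↑(pullback q g)) (hyσ : (pullback.fst q g) yσ = y)
    (φ : AdicCompletion (maximalIdeal ↑(X.presheaf.stalk x)) ↑(X.presheaf.stalk x) ≃+*
      AdicCompletion (maximalIdeal ↑((pullback q g).presheaf.stalk yσ))
        ↑((pullback q g).presheaf.stalk yσ))
    (hφ : φ.toRingHom.comp ((algebraMap ↑(X.presheaf.stalk x)
        (AdicCompletion (maximalIdeal ↑(X.presheaf.stalk x)) ↑(X.presheaf.stalk x))).comp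
          (p.stalkMap x).hom) =
      ((algebraMap _ (AdicCompletion (maximalIdeal
          ↑((pullback q g).presheaf.stalk yσ)) _)).comp
        ((pullback.snd q g).stalkMap yσ).hom).comp
        ((((Spec (CommRingCat.of (AdicCompletion (maximalIdeal ↑(S.presheaf.stalk (p x)))
            ↑(S.presheaf.stalk (p x))))).presheaf.germ
            ⊤ ((pullback.snd q g) yσ) trivial).hom.comp
          ((Scheme.ΓSpecIso (CommRingCat.of (AdicCompletion (maximalIdeal ↑(S.presheaf.stalk (p x)))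
            ↑(S.presheaf.stalk (p x))))).inv.hom.comp
            (algebraMap ↑(S.presheaf.stalk (p x))
              (AdicCompletion (maximalIdeal ↑(S.presheaf.stalk (p x)))
                ↑(S.presheaf.stalk (p x)))))))) :
    ∃ (V : Scheme.{u}) (v : V) (e : V ⟶ S) (τ : V ⟶ T) (W : Scheme.{u}) (w : W) (a : W ⟶ X)
      (b : W ⟶ pullback q τ),
      Etale e ∧ e v = p x ∧ Function.Bijective (e.residueFieldMap v) ∧ τ v = q y ∧
      Etale a ∧ a w = x ∧ Function.Bijective (a.residueFieldMap w) ∧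
      a ≫ p = b ≫ pullback.snd q τ ≫ e ∧
      Etale b ∧ (pullback.fst q τ) (b w) = y ∧ (pullback.snd q τ) (b w) = v ∧
      Function.Bijective (b.residueFieldMap w) := by
  -- affine opens
  obtain ⟨W₀, hW₀, hsW₀, -⟩ := exists_isAffineOpen_mem_and_subset (x := p x) (U := ⊤) trivial
  obtain ⟨V₁, hV₁, hxV₁, hV₁W⟩ :=
    exists_isAffineOpen_mem_and_subset (x := x) (U := p ⁻¹ᵁ W₀) hsW₀
  obtain ⟨T₀, hT₀, htT₀, -⟩ := exists_isAffineOpen_mem_and_subset (x := q y) (U := ⊤) trivial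
  obtain ⟨V₂, hV₂, hyV₂, hV₂T⟩ :=
    exists_isAffineOpen_mem_and_subset (x := y) (U := q ⁻¹ᵁ T₀) htT₀
  -- rings
  letI algC : Algebra Γ(S, W₀) Γ(X, V₁) := (p.appLE W₀ V₁ hV₁W).hom.toAlgebra
  letI algB : Algebra Γ(T, T₀) Γ(Y, V₂) := (q.appLE T₀ V₂ hV₂T).hom.toAlgebra
  haveI : IsNoetherianRing Γ(S, W₀) := IsLocallyNoetherian.component_noetherian ⟨W₀, hW₀⟩
  haveI : Algebra.FiniteType Γ(T, T₀) Γ(Y, V₂) := by
    have := HasRingHomProperty.appLE (P := @LocallyOfFiniteType) q inferInstance ⟨T₀, hT₀⟩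
      ⟨V₂, hV₂⟩ hV₂T
    exact this
  haveI : Algebra.FiniteType Γ(S, W₀) Γ(X, V₁) := by
    have := HasRingHomProperty.appLE (P := @LocallyOfFiniteType) p inferInstance ⟨W₀, hW₀⟩
      ⟨V₁, hV₁⟩ hV₁W
    exact this
  haveI : Algebra.FiniteType ℤ Γ(T, T₀) := finiteType_int_of_affineOpen hT₀
  -- stalks
  letI algS : Algebra Γ(S, W₀) ↑(S.presheaf.stalk (p x)) :=
    TopCat.Presheaf.algebra_section_stalk S.presheaf ⟨p x, hsW₀⟩
  letI algX : Algebra Γ(X, V₁) ↑(X.presheaf.stalk x) :=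
    TopCat.Presheaf.algebra_section_stalk X.presheaf ⟨x, hxV₁⟩
  haveI locS : IsLocalization.AtPrime ↑(S.presheaf.stalk (p x))
      (hW₀.primeIdealOf ⟨p x, hsW₀⟩).asIdeal := hW₀.isLocalization_stalk ⟨p x, hsW₀⟩
  haveI locX : IsLocalization.AtPrime ↑(X.presheaf.stalk x) (hV₁.primeIdealOf ⟨x, hxV₁⟩).asIdeal :=
    hV₁.isLocalization_stalk ⟨x, hxV₁⟩
  haveI : IsNoetherianRing ↑(S.presheaf.stalk (p x)) := hG.1
  haveI : IsNoetherianRing ↑(X.presheaf.stalk x) := H1.EtStalk.isNoetherianRing_stalk p x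
  have hi : ∀ l : Γ(S, W₀), (p.stalkMap x).hom (algebraMap Γ(S, W₀) ↑(S.presheaf.stalk (p x)) l) =
      algebraMap Γ(X, V₁) ↑(X.presheaf.stalk x) (algebraMap Γ(S, W₀) Γ(X, V₁) l) :=
    fun l => stalkMap_germ_appLE p W₀ V₁ hV₁W x hxV₁ l
  -- the base change side
  obtain ⟨σ₀', hσ₀'⟩ : ∃ σ₀' : Γ(T, T₀) ⟶ CommRingCat.of (AdicCompletion
      (maximalIdeal ↑(S.presheaf.stalk (p x))) ↑(S.presheaf.stalk (p x))),
      σ₀' = T.presheaf.germ T₀ (q y) htT₀ ≫ CommRingCat.ofHom σ := ⟨_, rfl⟩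
  have hg' : g = Spec.map σ₀' ≫ hT₀.fromSpec := by
    rw [hg, hσ₀', ← hT₀.fromSpecStalk_eq_fromSpecStalk htT₀, IsAffineOpen.fromSpecStalk,
      Spec.map_comp, Category.assoc]
    rfl
  clear hg
  subst hg'
  have hgT₀ : (⊤ : (Spec (CommRingCat.of (AdicCompletion
      (maximalIdeal ↑(S.presheaf.stalk (p x))) ↑(S.presheaf.stalk (p x))))).Opens) ≤
      (Spec.map σ₀' ≫ hT₀.fromSpec) ⁻¹ᵁ T₀ := by
    intro z _
    show (Spec.map σ₀' ≫ hT₀.fromSpec) z ∈ T₀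
    rw [Scheme.Hom.comp_apply]
    have : hT₀.fromSpec ((Spec.map σ₀') z) ∈ Set.range hT₀.fromSpec := Set.mem_range_self _
    rw [hT₀.range_fromSpec] at this
    exact this
  have hgapp := appLE_SpecMap_fromSpec hT₀ σ₀' hgT₀
  have hpb : IsPullback (pullback.fst q (Spec.map σ₀' ≫ hT₀.fromSpec))
      (pullback.snd q (Spec.map σ₀' ≫ hT₀.fromSpec)) q (Spec.map σ₀' ≫ hT₀.fromSpec) :=
    IsPullback.of_hasPullback _ _
  obtain ⟨Uσ, hUσdef⟩ : ∃ Uσ : (pullback q (Spec.map σ₀' ≫ hT₀.fromSpec)).Opens,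
      Uσ = pullback.fst q (Spec.map σ₀' ≫ hT₀.fromSpec) ⁻¹ᵁ V₂ ⊓
        pullback.snd q (Spec.map σ₀' ≫ hT₀.fromSpec) ⁻¹ᵁ ⊤ := ⟨_, rfl⟩
  have hUσaff : IsAffineOpen Uσ := by
    rw [hUσdef]
    exact Groth.Agent.H5.VAmple.isAffineOpen_inf_of_isPullback hpb hV₂ (isAffineOpen_top _) hT₀
      hV₂T hgT₀
  have e₁ : Uσ ≤ pullback.snd q (Spec.map σ₀' ≫ hT₀.fromSpec) ⁻¹ᵁ ⊤ := by
    rw [hUσdef]; exact inf_le_right
  have e₂ : Uσ ≤ pullback.fst q (Spec.map σ₀' ≫ hT₀.fromSpec) ⁻¹ᵁ V₂ := by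
    rw [hUσdef]; exact inf_le_left
  have hsq := Groth.Agent.H9.PIN.isPushout_appLE_of_isPullback' hpb hT₀ (isAffineOpen_top _) hV₂
    hgT₀ hV₂T hUσdef e₁ e₂
  have hyσU : yσ ∈ Uσ := by
    rw [hUσdef]
    refine ⟨?_, trivial⟩
    show (pullback.fst q (Spec.map σ₀' ≫ hT₀.fromSpec)) yσ ∈ V₂
    rw [hyσ]; exact hyV₂
  -- algebra structures
  letI algDÔ : Algebra Γ(T, T₀) (AdicCompletion (maximalIdeal ↑(S.presheaf.stalk (p x)))
      ↑(S.presheaf.stalk (p x))) := σ₀'.hom.toAlgebra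
  letI algBσB : Algebra Γ(Y, V₂) Γ(pullback q (Spec.map σ₀' ≫ hT₀.fromSpec), Uσ) :=
    ((pullback.fst q (Spec.map σ₀' ≫ hT₀.fromSpec)).appLE V₂ Uσ e₂).hom.toAlgebra
  letI algBσÔ : Algebra (AdicCompletion (maximalIdeal ↑(S.presheaf.stalk (p x)))
      ↑(S.presheaf.stalk (p x))) Γ(pullback q (Spec.map σ₀' ≫ hT₀.fromSpec), Uσ) :=
    ((Scheme.ΓSpecIso (CommRingCat.of (AdicCompletion (maximalIdeal ↑(S.presheaf.stalk (p x)))
      ↑(S.presheaf.stalk (p x))))).inv ≫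
      (pullback.snd q (Spec.map σ₀' ≫ hT₀.fromSpec)).appLE ⊤ Uσ e₁).hom.toAlgebra
  letI algBσD : Algebra Γ(T, T₀) Γ(pullback q (Spec.map σ₀' ≫ hT₀.fromSpec), Uσ) :=
    ((algebraMap Γ(Y, V₂) Γ(pullback q (Spec.map σ₀' ≫ hT₀.fromSpec), Uσ)).comp
      (algebraMap Γ(T, T₀) Γ(Y, V₂))).toAlgebra
  haveI : IsScalarTower Γ(T, T₀) Γ(Y, V₂) Γ(pullback q (Spec.map σ₀' ≫ hT₀.fromSpec), Uσ) :=
    IsScalarTower.of_algebraMap_eq fun _ => rfl
  have hsq' : IsPushout σ₀' (q.appLE T₀ V₂ hV₂T)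
      ((Scheme.ΓSpecIso (CommRingCat.of (AdicCompletion (maximalIdeal ↑(S.presheaf.stalk (p x)))
        ↑(S.presheaf.stalk (p x))))).inv ≫
        (pullback.snd q (Spec.map σ₀' ≫ hT₀.fromSpec)).appLE ⊤ Uσ e₁)
      ((pullback.fst q (Spec.map σ₀' ≫ hT₀.fromSpec)).appLE V₂ Uσ e₂) := by
    refine IsPushout.of_iso hsq (Iso.refl _) (Scheme.ΓSpecIso _) (Iso.refl _) (Iso.refl _)
      ?_ ?_ ?_ ?_
    · rw [hgapp, Category.assoc, Iso.inv_hom_id, Category.comp_id, Iso.refl_hom, Category.id_comp]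
    · simp
    · simp
    · simp
  haveI : IsScalarTower Γ(T, T₀) (AdicCompletion (maximalIdeal ↑(S.presheaf.stalk (p x)))
      ↑(S.presheaf.stalk (p x))) Γ(pullback q (Spec.map σ₀' ≫ hT₀.fromSpec), Uσ) :=
    IsScalarTower.of_algebraMap_eq fun d => (congr($(hsq'.w).hom d)).symm
  haveI hpush : Algebra.IsPushout Γ(T, T₀) (AdicCompletion (maximalIdeal ↑(S.presheaf.stalk (p x)))
      ↑(S.presheaf.stalk (p x))) Γ(Y, V₂) Γ(pullback q (Spec.map σ₀' ≫ hT₀.fromSpec), Uσ) :=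
    CommRingCat.isPushout_iff_isPushout.mp hsq'
  -- the local ring of the base change
  letI algYσ : Algebra Γ(pullback q (Spec.map σ₀' ≫ hT₀.fromSpec), Uσ)
      ↑((pullback q (Spec.map σ₀' ≫ hT₀.fromSpec)).presheaf.stalk yσ) :=
    TopCat.Presheaf.algebra_section_stalk (pullback q (Spec.map σ₀' ≫ hT₀.fromSpec)).presheaf
      ⟨yσ, hyσU⟩
  haveI locYσ : IsLocalization.AtPrime
      ↑((pullback q (Spec.map σ₀' ≫ hT₀.fromSpec)).presheaf.stalk yσ)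
      (hUσaff.primeIdealOf ⟨yσ, hyσU⟩).asIdeal := hUσaff.isLocalization_stalk ⟨yσ, hyσU⟩
  have hφ' : ∀ o : ↑(S.presheaf.stalk (p x)),
      φ (algebraMap ↑(X.presheaf.stalk x) (AdicCompletion (maximalIdeal ↑(X.presheaf.stalk x))
        ↑(X.presheaf.stalk x)) ((p.stalkMap x).hom o)) =
      algebraMap ↑((pullback q (Spec.map σ₀' ≫ hT₀.fromSpec)).presheaf.stalk yσ)
        (AdicCompletion (maximalIdeal
          ↑((pullback q (Spec.map σ₀' ≫ hT₀.fromSpec)).presheaf.stalk yσ))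
          ↑((pullback q (Spec.map σ₀' ≫ hT₀.fromSpec)).presheaf.stalk yσ))
        (algebraMap Γ(pullback q (Spec.map σ₀' ≫ hT₀.fromSpec), Uσ)
          ↑((pullback q (Spec.map σ₀' ≫ hT₀.fromSpec)).presheaf.stalk yσ)
          (algebraMap (AdicCompletion (maximalIdeal ↑(S.presheaf.stalk (p x)))
            ↑(S.presheaf.stalk (p x))) Γ(pullback q (Spec.map σ₀' ≫ hT₀.fromSpec), Uσ)
            (algebraMap ↑(S.presheaf.stalk (p x)) (AdicCompletion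
              (maximalIdeal ↑(S.presheaf.stalk (p x))) ↑(S.presheaf.stalk (p x))) o))) := by
    intro o
    have h1 := congrArg (fun f => f o) hφ
    simp only [RingHom.comp_apply] at h1
    rw [stalkMap_germ_appLE (pullback.snd q (Spec.map σ₀' ≫ hT₀.fromSpec)) ⊤ Uσ e₁ yσ hyσU] at h1
    exact h1
  obtain ⟨Λ', _, _, hEt', _, 𝔰', h𝔰'prime, R'', _, _, hEt'', 𝔭'', h𝔭''prime, b₀, c1, c2, c3, c4, c5,
    c6, c7, c8, c9, c10⟩ := caw_ring (Λ := Γ(S, W₀)) (C := Γ(X, V₁)) (D := Γ(T, T₀)) (B := Γ(Y, V₂))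
      (hW₀.primeIdealOf ⟨p x, hsW₀⟩).asIdeal ↑(S.presheaf.stalk (p x)) hG
      (hV₁.primeIdealOf ⟨x, hxV₁⟩).asIdeal ↑(X.presheaf.stalk x) (p.stalkMap x).hom hi
      Γ(pullback q (Spec.map σ₀' ≫ hT₀.fromSpec), Uσ) (hUσaff.primeIdealOf ⟨yσ, hyσU⟩).asIdeal
      ↑((pullback q (Spec.map σ₀' ≫ hT₀.fromSpec)).presheaf.stalk yσ) φ hφ'
  haveI := h𝔰'prime
  haveI := h𝔭''prime
  -- the schemes
  obtain ⟨αe, hαe⟩ : ∃ αe : Γ(S, W₀) ⟶ CommRingCat.of Λ',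
      αe = CommRingCat.ofHom (algebraMap Γ(S, W₀) Λ') := ⟨_, rfl⟩
  obtain ⟨ατ, hατ⟩ : ∃ ατ : Γ(T, T₀) ⟶ CommRingCat.of Λ',
      ατ = CommRingCat.ofHom (algebraMap Γ(T, T₀) Λ') := ⟨_, rfl⟩
  obtain ⟨αa, hαa⟩ : ∃ αa : Γ(X, V₁) ⟶ CommRingCat.of R'',
      αa = CommRingCat.ofHom (algebraMap Γ(X, V₁) R'') := ⟨_, rfl⟩
  obtain ⟨v, hv⟩ : ∃ v : Spec (CommRingCat.of Λ'), v = (⟨𝔰', h𝔰'prime⟩ : PrimeSpectrum Λ') :=
    ⟨_, rfl⟩
  obtain ⟨w, hw⟩ : ∃ w : Spec (CommRingCat.of R''), w = (⟨𝔭'', h𝔭''prime⟩ : PrimeSpectrum R'') :=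
    ⟨_, rfl⟩
  -- `e`
  have hev : (Spec.map αe ≫ hW₀.fromSpec) v = p x := by
    rw [Scheme.Hom.comp_apply]
    have : (Spec.map αe) v = hW₀.primeIdealOf ⟨p x, hsW₀⟩ := by
      rw [hv, hαe]; exact PrimeSpectrum.ext c1
    rw [this, hW₀.fromSpec_primeIdealOf]
  haveI : Etale (Spec.map αe) := by
    rw [HasRingHomProperty.Spec_iff (P := @Etale), hαe]
    exact RingHom.etale_algebraMap.mpr hEt'
  -- `τ`
  have hcomapσ : (maximalIdeal (AdicCompletion (maximalIdeal ↑(S.presheaf.stalk (p x)))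
      ↑(S.presheaf.stalk (p x)))).comap (algebraMap Γ(T, T₀) (AdicCompletion
      (maximalIdeal ↑(S.presheaf.stalk (p x))) ↑(S.presheaf.stalk (p x)))) =
      (hT₀.primeIdealOf ⟨q y, htT₀⟩).asIdeal := by
    letI algT : Algebra Γ(T, T₀) ↑(T.presheaf.stalk (q y)) :=
      TopCat.Presheaf.algebra_section_stalk T.presheaf ⟨q y, htT₀⟩
    haveI locT : IsLocalization.AtPrime ↑(T.presheaf.stalk (q y))
        (hT₀.primeIdealOf ⟨q y, htT₀⟩).asIdeal := hT₀.isLocalization_stalk ⟨q y, htT₀⟩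
    have h1 : algebraMap Γ(T, T₀) (AdicCompletion
        (maximalIdeal ↑(S.presheaf.stalk (p x))) ↑(S.presheaf.stalk (p x))) =
        σ.comp (algebraMap Γ(T, T₀) ↑(T.presheaf.stalk (q y))) := by
      show σ₀'.hom = _
      rw [hσ₀']; rfl
    have h2 : (maximalIdeal (AdicCompletion (maximalIdeal ↑(S.presheaf.stalk (p x)))
        ↑(S.presheaf.stalk (p x)))).comap σ = maximalIdeal ↑(T.presheaf.stalk (q y)) :=
      ((IsLocalRing.local_hom_TFAE σ).out 0 4).mp (inferInstance : IsLocalHom σ)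
    rw [h1, ← Ideal.comap_comap, h2]
    exact IsLocalization.AtPrime.under_maximalIdeal _ _
  have hτv : (Spec.map ατ ≫ hT₀.fromSpec) v = q y := by
    rw [Scheme.Hom.comp_apply]
    have : (Spec.map ατ) v = hT₀.primeIdealOf ⟨q y, htT₀⟩ := by
      rw [hv, hατ]; exact PrimeSpectrum.ext (c3.trans hcomapσ)
    rw [this, hT₀.fromSpec_primeIdealOf]
  -- `a`
  have haw : (Spec.map αa ≫ hV₁.fromSpec) w = x := by
    rw [Scheme.Hom.comp_apply]
    have : (Spec.map αa) w = hV₁.primeIdealOf ⟨x, hxV₁⟩ := by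
      rw [hw, hαa]; exact PrimeSpectrum.ext c4
    rw [this, hV₁.fromSpec_primeIdealOf]
  haveI : Etale (Spec.map αa) := by
    rw [HasRingHomProperty.Spec_iff (P := @Etale), hαa]
    exact RingHom.etale_algebraMap.mpr hEt''
  -- `b`
  have e₁' : Spec.map (CommRingCat.ofHom (algebraMap Γ(T, T₀) Γ(Y, V₂))) ≫ hT₀.fromSpec =
      hV₂.fromSpec ≫ q := IsAffineOpen.SpecMap_appLE_fromSpec q hT₀ hV₂ hV₂T
  have e₂' : Spec.map (CommRingCat.ofHom (algebraMap Γ(T, T₀) Λ')) ≫ hT₀.fromSpec =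
      𝟙 _ ≫ (Spec.map ατ ≫ hT₀.fromSpec) := by rw [Category.id_comp, hατ]
  obtain ⟨ι, hι⟩ : ∃ ι : Spec (CommRingCat.of (Γ(Y, V₂) ⊗[Γ(T, T₀)] Λ')) ⟶
      pullback q (Spec.map ατ ≫ hT₀.fromSpec),
      ι = (pullbackSpecIso Γ(T, T₀) Γ(Y, V₂) Λ').inv ≫
        pullback.map _ _ q (Spec.map ατ ≫ hT₀.fromSpec) hV₂.fromSpec (𝟙 _) hT₀.fromSpec e₁' e₂' :=
    ⟨_, rfl⟩
  haveI : IsOpenImmersion ι := by rw [hι]; infer_instance
  have hι1 : ι ≫ pullback.fst q (Spec.map ατ ≫ hT₀.fromSpec) =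
      Spec.map (CommRingCat.ofHom (Algebra.TensorProduct.includeLeftRingHom :
        Γ(Y, V₂) →+* Γ(Y, V₂) ⊗[Γ(T, T₀)] Λ')) ≫ hV₂.fromSpec := by
    rw [hι, Category.assoc, pullback.lift_fst, ← Category.assoc, pullbackSpecIso_inv_fst]
  have hι2 : ι ≫ pullback.snd q (Spec.map ατ ≫ hT₀.fromSpec) =
      Spec.map (CommRingCat.ofHom (Algebra.TensorProduct.includeRight :
        Λ' →ₐ[Γ(T, T₀)] Γ(Y, V₂) ⊗[Γ(T, T₀)] Λ').toRingHom) := by
    rw [hι, Category.assoc, pullback.lift_snd, ← Category.assoc, pullbackSpecIso_inv_snd,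
      Category.comp_id]
    rfl
  obtain ⟨b, hb⟩ : ∃ b : Spec (CommRingCat.of R'') ⟶ pullback q (Spec.map ατ ≫ hT₀.fromSpec),
      b = Spec.map (CommRingCat.ofHom b₀) ≫ ι := ⟨_, rfl⟩
  have hb1 : b ≫ pullback.fst q (Spec.map ατ ≫ hT₀.fromSpec) =
      Spec.map (CommRingCat.ofHom (b₀.comp (Algebra.TensorProduct.includeLeftRingHom :
        Γ(Y, V₂) →+* Γ(Y, V₂) ⊗[Γ(T, T₀)] Λ'))) ≫ hV₂.fromSpec := by
    rw [hb, Category.assoc, hι1, ← Category.assoc, ← Spec.map_comp]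
    rfl
  have hb2 : b ≫ pullback.snd q (Spec.map ατ ≫ hT₀.fromSpec) =
      Spec.map (CommRingCat.ofHom (b₀.comp (Algebra.TensorProduct.includeRight :
        Λ' →ₐ[Γ(T, T₀)] Γ(Y, V₂) ⊗[Γ(T, T₀)] Λ').toRingHom)) := by
    rw [hb, Category.assoc, hι2, ← Spec.map_comp]
    rfl
  haveI : Etale (Spec.map (CommRingCat.ofHom b₀)) := by
    rw [HasRingHomProperty.Spec_iff (P := @Etale)]
    exact c9
  haveI : Etale b := by rw [hb]; infer_instance
  refine ⟨Spec (CommRingCat.of Λ'), v, Spec.map αe ≫ hW₀.fromSpec, Spec.map ατ ≫ hT₀.fromSpec,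
    Spec (CommRingCat.of R''), w, Spec.map αa ≫ hV₁.fromSpec, b, inferInstance, hev, ?_, hτv,
    inferInstance, haw, ?_, ?_, inferInstance, ?_, ?_, ?_⟩
  · exact residueFieldMap_bijective_of_resSurj hW₀ αe v (p x) hsW₀ hev
      (by rw [hαe, hv]; exact c2)
  · exact residueFieldMap_bijective_of_resSurj hV₁ αa w x hxV₁ haw
      (by rw [hαa, hw]; exact c5)
  · rw [← Category.assoc b, hb2, Category.assoc,
      ← IsAffineOpen.SpecMap_appLE_fromSpec p hW₀ hV₁ hV₁W, ← Category.assoc, ← Category.assoc,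
      ← Spec.map_comp, ← Spec.map_comp]
    congr 2
    ext l
    rw [hαa, hαe]
    exact (c6 l).symm
  · rw [← Scheme.Hom.comp_apply, hb1, Scheme.Hom.comp_apply]
    have : (Spec.map (CommRingCat.ofHom (b₀.comp (Algebra.TensorProduct.includeLeftRingHom :
        Γ(Y, V₂) →+* Γ(Y, V₂) ⊗[Γ(T, T₀)] Λ')))) w = hV₂.primeIdealOf ⟨y, hyV₂⟩ := by
      rw [hw]
      apply PrimeSpectrum.ext
      refine c8.trans ?_
      have h1 := comap_appLE_primeIdealOf (pullback.fst q (Spec.map σ₀' ≫ hT₀.fromSpec)) hUσaff hV₂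
        e₂ yσ hyσU
      refine h1.trans ?_
      congr 2
      exact Subtype.ext hyσ
    rw [this, hV₂.fromSpec_primeIdealOf]
  · rw [← Scheme.Hom.comp_apply, hb2, hw, hv]
    exact PrimeSpectrum.ext c7
  · rw [hb, Scheme.residueFieldMap_comp]
    have h1 : Function.Bijective ((Spec.map (CommRingCat.ofHom b₀)).residueFieldMap w) :=
      residueFieldMap_SpecMap_bijective _ w (by rw [hw]; exact c10)
    have h2 : Function.Bijective (ι.residueFieldMap ((Spec.map (CommRingCat.ofHom b₀)) w)) :=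
      ConcreteCategory.bijective_of_isIso _
    exact h1.comp h2

end Groth.Agent.H5.Pop.CAW
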