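import Mathlib
import Groth.Prelude.Def_Smoothing
import Groth.Prelude.Def_Found
import Groth.Agent.Lib.Helper5.Pop.P4
import Groth.Agent.Lib.Helper5.CA.RegHom3
import Groth.Agent.Lib.Helper3.CA.GRingTransfer
import Groth.Agent.Lib.Helper3.CA.RegHomBC
import Groth.Agent.Lib.Helper6.DVRExc

/-!
# Unramified separable extensions of discrete valuation rings are regular (helper5)
-/

set_option autoImplicit false
universe u
open TensorProduct IsLocalRing

namespace Groth.Agent.H5.Pop

/-- Transfer of geometric reducedness along an isomorphism of base fields and an injection. -/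
theorem isGeometricallyReduced_transfer {k k' F T : Type u} [Field k] [Field k'] [CommRing F]
    [Field T] [Algebra k T] [Algebra k' F] [Algebra.IsGeometricallyReduced k T]
    (e₁ : k ≃+* k') (g : F →+* T) (hg : Function.Injective g)
    (hc : ∀ x : k, g (algebraMap k' F (e₁ x)) = algebraMap k T x) :
    Algebra.IsGeometricallyReduced k' F := by
  have h0 : CAlg.IsRegularHom k T := (Groth.Agent.H5.RegHom.isRegularHom_field_iff k T).mpr inferInstance
  letI : Algebra k' T := ((algebraMap k T).comp e₁.symm.toRingHom).toAlgebra
  have h1 : CAlg.IsRegularHom k' T :=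
    Groth.Agent.H3.GRing.isRegularHom_of_ringEquiv e₁ (RingEquiv.refl T) (fun a => by
      show algebraMap k T a = algebraMap k T (e₁.symm (e₁ a))
      rw [RingEquiv.symm_apply_apply]) h0
  haveI : Algebra.IsGeometricallyReduced k' T :=
    (Groth.Agent.H5.RegHom.isRegularHom_field_iff k' T).mp h1
  let g' : F →ₐ[k'] T :=
    { g with
      commutes' := fun x => by
        obtain ⟨y, rfl⟩ := e₁.surjective x
        show g (algebraMap k' F (e₁ y)) = algebraMap k T (e₁.symm (e₁ y))
        rw [hc, RingEquiv.symm_apply_apply] }
  exact Algebra.IsGeometricallyReduced.of_injective g' hg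

/-- geometric regularity from geometric reducedness, for fibres that are fields. -/
theorem isGeometricallyRegular_of_isField {k F : Type u} [Field k] [CommRing F] [Algebra k F]
    (hF : IsField F) [Algebra.IsGeometricallyReduced k F] : CAlg.IsGeometricallyRegular k F := by
  haveI : IsArtinianRing F := by
    letI := hF.toField
    infer_instance
  exact Groth.Agent.H6.DVRExc.isGeometricallyRegular_of_isArtinianRing

section DVR

variable {R Λ : Type u} [CommRing R] [IsDomain R] [IsDiscreteValuationRing R] [CommRing Λ]
  [IsDomain Λ] [IsDiscreteValuationRing Λ] [Algebra R Λ] [NoZeroSMulDivisors R Λ]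

attribute [local instance] Algebra.TensorProduct.rightAlgebra in
/-- The generic fibre of an unramified extension of DVRs is a field. -/
theorem isField_genericFibre
    (he : (maximalIdeal R).map (algebraMap R Λ) = maximalIdeal Λ) :
    IsField ((⊥ : Ideal R).Fiber Λ) := by
  obtain ⟨ϖ, hϖ⟩ := IsDiscreteValuationRing.exists_irreducible R
  have hϖ' : Irreducible (algebraMap R Λ ϖ) := by
    rw [IsDiscreteValuationRing.irreducible_iff_uniformizer, ← he,
      (IsDiscreteValuationRing.irreducible_iff_uniformizer ϖ).mp hϖ, Ideal.map_span,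
      Set.image_singleton]
  have hinj : Function.Injective (algebraMap R Λ) := FaithfulSMul.algebraMap_injective R Λ
  haveI h1 : IsLocalization (Algebra.algebraMapSubmonoid Λ (nonZeroDivisors R))
      ((⊥ : Ideal R).ResidueField ⊗[R] Λ) :=
    IsLocalization.tensorRight (S := Λ) (A := (⊥ : Ideal R).ResidueField) (nonZeroDivisors R)
  haveI h2 : IsFractionRing Λ ((⊥ : Ideal R).ResidueField ⊗[R] Λ) := by
    refine IsLocalization.of_le_of_exists_dvd (Algebra.algebraMapSubmonoid Λ (nonZeroDivisors R))
      (nonZeroDivisors Λ) ?_ ?_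
    · rintro _ ⟨r, hr, rfl⟩
      exact map_mem_nonZeroDivisors _ hinj hr
    · intro x hx
      obtain ⟨n, u, hu⟩ := IsDiscreteValuationRing.eq_unit_mul_pow_irreducible
        (nonZeroDivisors.ne_zero hx) hϖ'
      refine ⟨algebraMap R Λ (ϖ ^ n), ⟨ϖ ^ n, ?_, rfl⟩, ?_⟩
      · exact mem_nonZeroDivisors_of_ne_zero (pow_ne_zero n hϖ.ne_zero)
      · rw [map_pow, hu]
        exact ⟨((u⁻¹ : Λˣ) : Λ), by rw [mul_comm (u : Λ), mul_assoc, Units.mul_inv, mul_one]⟩
  letI := IsFractionRing.toField Λ (K := (⊥ : Ideal R).ResidueField ⊗[R] Λ)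
  exact Field.toIsField _

/-- The generic fibre of an unramified extension of DVRs with separable fraction field extension
is geometrically regular. -/
theorem isGeometricallyRegular_genericFibre {K L : Type u}
    (he : (maximalIdeal R).map (algebraMap R Λ) = maximalIdeal Λ)
    [Field K] [Algebra R K] [IsFractionRing R K] [Field L] [Algebra Λ L] [IsFractionRing Λ L]
    [Algebra K L] [Algebra R L] [IsScalarTower R K L] [IsScalarTower R Λ L]
    [Algebra.IsGeometricallyReduced K L] :
    CAlg.IsGeometricallyRegular (⊥ : Ideal R).ResidueField ((⊥ : Ideal R).Fiber Λ) := by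
  have hF := isField_genericFibre (R := R) (Λ := Λ) he
  let e : K ≃ₐ[R] (⊥ : Ideal R).ResidueField :=
    IsLocalization.algEquiv (nonZeroDivisors R) K (⊥ : Ideal R).ResidueField
  let φ : (⊥ : Ideal R).ResidueField →ₐ[R] L := (IsScalarTower.toAlgHom R K L).comp e.symm.toAlgHom
  let ψ : Λ →ₐ[R] L := IsScalarTower.toAlgHom R Λ L
  let g : (⊥ : Ideal R).ResidueField ⊗[R] Λ →ₐ[R] L := Algebra.TensorProduct.productMap φ ψ
  have hg : Function.Injective g := by
    letI := hF.toField
    exact g.toRingHom.injective
  haveI : Algebra.IsGeometricallyReduced (⊥ : Ideal R).ResidueField ((⊥ : Ideal R).Fiber Λ) := by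
    refine isGeometricallyReduced_transfer (k := K) (T := L) e.toRingEquiv g.toRingHom hg ?_
    intro x
    show g (algebraMap (⊥ : Ideal R).ResidueField ((⊥ : Ideal R).ResidueField ⊗[R] Λ) (e x)) = _
    rw [Algebra.TensorProduct.algebraMap_apply, Algebra.algebraMap_self_apply,
      Algebra.TensorProduct.productMap_apply_tmul, map_one, mul_one]
    show algebraMap K L (e.symm (e x)) = _
    rw [AlgEquiv.symm_apply_apply]
  exact isGeometricallyRegular_of_isField hF

end DVR

section Closed

variable {R Λ : Type u} [CommRing R] [IsLocalRing R] [CommRing Λ] [IsLocalRing Λ] [Algebra R Λ]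
  [IsLocalHom (algebraMap R Λ)]

/-- the canonical map from the closed fibre to the residue field of the target. -/
noncomputable def closedFibreToResidue :
    (maximalIdeal R).ResidueField ⊗[R] Λ →ₐ[R] ResidueField Λ :=
  Algebra.TensorProduct.productMap
    ((IsScalarTower.toAlgHom R (ResidueField R) (ResidueField Λ)).comp
      (AlgEquiv.ofBijective (IsScalarTower.toAlgHom R (R ⧸ maximalIdeal R)
        (maximalIdeal R).ResidueField)
        (Ideal.bijective_algebraMap_quotient_residueField (maximalIdeal R))).symm.toAlgHom)
    (IsScalarTower.toAlgHom R Λ (ResidueField Λ))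

/-- The closed fibre of a local homomorphism with `𝔪_R Λ = 𝔪_Λ` is a field. -/
theorem isField_closedFibre
    (he : (maximalIdeal R).map (algebraMap R Λ) = maximalIdeal Λ) :
    IsField ((maximalIdeal R).Fiber Λ) := by
  haveI : Nontrivial ((maximalIdeal R).ResidueField ⊗[R] Λ) :=
    (closedFibreToResidue (R := R) (Λ := Λ)).toRingHom.domain_nontrivial
  have hsurj : Function.Surjective (Algebra.TensorProduct.includeRight :
      Λ →ₐ[R] (maximalIdeal R).ResidueField ⊗[R] Λ) :=
    Algebra.TensorProduct.includeRight_surjective Λ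
      (Ideal.algebraMap_residueField_surjective (maximalIdeal R))
  have hker : ∀ x ∈ maximalIdeal Λ, (Algebra.TensorProduct.includeRight :
      Λ →ₐ[R] (maximalIdeal R).ResidueField ⊗[R] Λ) x = 0 := by
    intro x hx
    rw [← he] at hx
    have hle : (maximalIdeal R).map (algebraMap R Λ) ≤ RingHom.ker (Algebra.TensorProduct.includeRight :
        Λ →ₐ[R] (maximalIdeal R).ResidueField ⊗[R] Λ).toRingHom := by
      rw [Ideal.map_le_iff_le_comap]
      intro r hr
      show (Algebra.TensorProduct.includeRight :
        Λ →ₐ[R] (maximalIdeal R).ResidueField ⊗[R] Λ) (algebraMap R Λ r) = 0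
      rw [AlgHom.commutes, Algebra.TensorProduct.algebraMap_apply,
        Ideal.algebraMap_residueField_eq_zero.mpr hr, TensorProduct.zero_tmul]
    exact hle hx
  refine ⟨exists_pair_ne _, mul_comm, fun {a} ha => ?_⟩
  obtain ⟨x, rfl⟩ := hsurj a
  have hx : IsUnit x := by
    by_contra h
    exact ha (hker x ((IsLocalRing.mem_maximalIdeal x).mpr h))
  obtain ⟨u, rfl⟩ := hx
  exact ⟨Algebra.TensorProduct.includeRight ((u⁻¹ : Λˣ) : Λ), by
    rw [← map_mul, Units.mul_inv, map_one]⟩

/-- The closed fibre of an unramified local homomorphism with separable residue field extension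
is geometrically regular. -/
theorem isGeometricallyRegular_closedFibre
    (he : (maximalIdeal R).map (algebraMap R Λ) = maximalIdeal Λ)
    [Algebra.IsGeometricallyReduced (ResidueField R) (ResidueField Λ)] :
    CAlg.IsGeometricallyRegular (maximalIdeal R).ResidueField ((maximalIdeal R).Fiber Λ) := by
  have hF := isField_closedFibre (R := R) (Λ := Λ) he
  let e : (R ⧸ maximalIdeal R) ≃ₐ[R] (maximalIdeal R).ResidueField :=
    AlgEquiv.ofBijective (IsScalarTower.toAlgHom R (R ⧸ maximalIdeal R)
        (maximalIdeal R).ResidueField)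
        (Ideal.bijective_algebraMap_quotient_residueField (maximalIdeal R))
  have hg : Function.Injective (closedFibreToResidue (R := R) (Λ := Λ)) := by
    letI := hF.toField
    exact (closedFibreToResidue (R := R) (Λ := Λ)).toRingHom.injective
  haveI : Algebra.IsGeometricallyReduced (maximalIdeal R).ResidueField
      ((maximalIdeal R).Fiber Λ) := by
    refine isGeometricallyReduced_transfer (k := ResidueField R) (T := ResidueField Λ)
      e.toRingEquiv (closedFibreToResidue (R := R) (Λ := Λ)).toRingHom hg ?_
    intro x
    show closedFibreToResidue (algebraMap (maximalIdeal R).ResidueField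
      ((maximalIdeal R).ResidueField ⊗[R] Λ) (e x)) = _
    rw [Algebra.TensorProduct.algebraMap_apply, Algebra.algebraMap_self_apply, closedFibreToResidue,
      Algebra.TensorProduct.productMap_apply_tmul, map_one, mul_one]
    show algebraMap (ResidueField R) (ResidueField Λ) (e.symm (e x)) = _
    rw [AlgEquiv.symm_apply_apply]
  exact isGeometricallyRegular_of_isField hF

end Closed

/-- An extension of DVRs of ramification index one with separable residue field and fraction field
extensions is a regular homomorphism. -/
theorem isRegularHom_of_dvr {R Λ K L : Type u} [CommRing R] [IsDomain R]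
    [IsDiscreteValuationRing R] [CommRing Λ] [IsDomain Λ] [IsDiscreteValuationRing Λ] [Algebra R Λ]
    [NoZeroSMulDivisors R Λ] [IsLocalHom (algebraMap R Λ)]
    (he : (maximalIdeal R).map (algebraMap R Λ) = maximalIdeal Λ)
    [Algebra.IsGeometricallyReduced (ResidueField R) (ResidueField Λ)]
    [Field K] [Algebra R K] [IsFractionRing R K] [Field L] [Algebra Λ L] [IsFractionRing Λ L]
    [Algebra K L] [Algebra R L] [IsScalarTower R K L] [IsScalarTower R Λ L]
    [Algebra.IsGeometricallyReduced K L] : CAlg.IsRegularHom R Λ := by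
  haveI : Module.Flat R Λ := inferInstance
  refine ⟨inferInstance, fun p hp => ⟨Groth.Agent.H3.RegHomBC.isNoetherianRing_fiber R Λ p, ?_⟩⟩
  by_cases hp0 : p = ⊥
  · subst hp0
    exact isGeometricallyRegular_genericFibre (K := K) (L := L) he
  · have : p = maximalIdeal R :=
      IsLocalRing.eq_maximalIdeal (Ring.DimensionLEOne.maximalOfPrime hp0 hp)
    subst this
    exact isGeometricallyRegular_closedFibre he

/-- S6830. -/
theorem indSmooth_of_dvr {R Λ K L : Type u} [CommRing R] [IsDomain R]
    [IsDiscreteValuationRing R] [CommRing Λ] [IsDomain Λ] [IsDiscreteValuationRing Λ] [Algebra R Λ]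
    [NoZeroSMulDivisors R Λ] [IsLocalHom (algebraMap R Λ)]
    (he : (maximalIdeal R).map (algebraMap R Λ) = maximalIdeal Λ)
    [Algebra.IsGeometricallyReduced (ResidueField R) (ResidueField Λ)]
    [Field K] [Algebra R K] [IsFractionRing R K] [Field L] [Algebra Λ L] [IsFractionRing Λ L]
    [Algebra K L] [Algebra R L] [IsScalarTower R K L] [IsScalarTower R Λ L]
    [Algebra.IsGeometricallyReduced K L] : Smoothing.IndSmooth R Λ :=
  popescu (isRegularHom_of_dvr (K := K) (L := L) he)

end Groth.Agent.H5.Pop
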