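import Mathlib
import Groth.Prelude.Def_Found
import Groth.Agent.Lib.Helper5.Pop.EtApprox2
import Groth.Agent.Lib.Helper5.Pop.FunApprox

/-!
# Artin approximation in étale neighbourhoods: algebra-map and functor versions (helper5)
-/

set_option autoImplicit false
universe u
open IsLocalRing CategoryTheory CategoryTheory.Limits

namespace Groth.Agent.H5.Pop

open MvPolynomial in
/-- Algebra-map version of `approx_etale_local`. -/
theorem approx_etale_alg_local {A : Type u} [CommRing A] [IsLocalRing A] (hG : CAlg.IsGRing A)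
    (C : Type u) [CommRing C] [Algebra A C] [Algebra.FinitePresentation A C]
    (f : C →ₐ[A] AdicCompletion (maximalIdeal A) A) (N : ℕ) :
    ∃ (A' : Type u) (_ : CommRing A') (_ : Algebra A A') (_ : Algebra.Etale A A')
      (h : C →ₐ[A] A') (ψ : A' →ₐ[A] AdicCompletion (maximalIdeal A) A),
      ∀ c, f c - ψ (h c) ∈ (maximalIdeal A ^ N).map
        (algebraMap A (AdicCompletion (maximalIdeal A) A)) := by
  classical
  obtain ⟨n, π, hπ, s, hs⟩ := Algebra.FinitePresentation.out (R := A) (A := C)
  obtain ⟨F, hF⟩ : ∃ F : Fin s.card → MvPolynomial (Fin n) A, Set.range F = (s : Set _) := by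
    refine ⟨fun j => (s.equivFin.symm j : MvPolynomial (Fin n) A), ?_⟩
    ext x
    constructor
    · rintro ⟨j, rfl⟩
      exact (s.equivFin.symm j).2
    · intro hx
      exact ⟨s.equivFin ⟨x, hx⟩, by simp⟩
  have hker : RingHom.ker π.toRingHom = Ideal.span (Set.range F) := by rw [hF, hs]
  have ha : ∀ j, MvPolynomial.aeval (fun i => f (π (X i))) (F j) = 0 := by
    intro j
    have h1 : (aeval (fun i => f (π (X i))) : MvPolynomial (Fin n) A →ₐ[A] _) = f.comp π := by
      apply MvPolynomial.algHom_ext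
      intro i
      rw [aeval_X]
      rfl
    rw [h1, AlgHom.comp_apply]
    have : F j ∈ RingHom.ker π.toRingHom := by
      rw [hker]
      exact Ideal.subset_span (Set.mem_range_self j)
    have h2 : π (F j) = 0 := this
    rw [h2, map_zero]
  obtain ⟨A', _, _, hEt, ψ, m', -, -, -, -, b, hb, hab⟩ :=
    approx_etale_local hG F (fun i => f (π (X i))) ha N
  have hle : RingHom.ker π.toRingHom ≤
      RingHom.ker (aeval b : MvPolynomial (Fin n) A →ₐ[A] A').toRingHom := by
    rw [hker, Ideal.span_le]
    rintro _ ⟨j, rfl⟩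
    exact hb j
  refine ⟨A', inferInstance, inferInstance, hEt, AlgHom.liftOfSurjective π hπ (aeval b) hle, ψ,
    fun c => ?_⟩
  obtain ⟨p, rfl⟩ := hπ c
  have h1 : AlgHom.liftOfSurjective π hπ (aeval b) hle (π p) = aeval b p :=
    AlgHom.liftOfSurjective_apply _ _ _ _ _
  rw [h1]
  -- compare two ring homs modulo the ideal
  obtain ⟨J, hJ⟩ : ∃ J : Ideal (AdicCompletion (maximalIdeal A) A), J = (maximalIdeal A ^ N).map
    (algebraMap A (AdicCompletion (maximalIdeal A) A)) := ⟨_, rfl⟩
  rw [← hJ, ← Ideal.Quotient.eq]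
  have h2 : ((Ideal.Quotient.mk J).comp (f.comp π).toRingHom) =
      (Ideal.Quotient.mk J).comp (ψ.comp (aeval b : MvPolynomial (Fin n) A →ₐ[A] A')).toRingHom := by
    apply MvPolynomial.ringHom_ext
    · intro r
      show Ideal.Quotient.mk J (f (π (MvPolynomial.C r))) =
        Ideal.Quotient.mk J (ψ (aeval b (MvPolynomial.C r)))
      rw [← MvPolynomial.algebraMap_eq, AlgHom.commutes, AlgHom.commutes, AlgHom.commutes,
        AlgHom.commutes]
    · intro i
      show Ideal.Quotient.mk J (f (π (X i))) = Ideal.Quotient.mk J (ψ (aeval b (X i)))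
      rw [aeval_X, Ideal.Quotient.eq, hJ]
      exact hab i
  exact congrArg (fun φ => φ p) h2

/-- the morphism in `Under A` given by an algebra map. -/
noncomputable def toUnderHom {A : Type u} [CommRing A] {C D : Type u} [CommRing C] [Algebra A C]
    [CommRing D] [Algebra A D] (τ : C →ₐ[A] D) :
    Under.mk (CommRingCat.ofHom (algebraMap A C)) ⟶ Under.mk (CommRingCat.ofHom (algebraMap A D)) :=
  Under.homMk (CommRingCat.ofHom τ.toRingHom) (by
    ext a
    exact τ.commutes a)

/-- **Artin approximation for functors, in étale neighbourhoods** (S16106). -/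
theorem functor_approx_etale (A : Type u) [CommRing A] [IsLocalRing A]
    (hG : CAlg.IsGRing A)
    (F : Under (CommRingCat.of A) ⥤ Type u)
    (hF : ∀ (J : Type u) [SmallCategory J] [IsFiltered J], PreservesColimitsOfShape J F)
    (N : ℕ)
    (π : Under.mk (CommRingCat.ofHom (algebraMap A
        (AdicCompletion (IsLocalRing.maximalIdeal A) A))) ⟶
      Under.mk (CommRingCat.ofHom (algebraMap A (A ⧸ IsLocalRing.maximalIdeal A ^ (N + 1)))))
    (hπ : π.right = CommRingCat.ofHom
      (AdicCompletion.evalₐ (IsLocalRing.maximalIdeal A) (N + 1) :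
        AdicCompletion (IsLocalRing.maximalIdeal A) A →ₐ[A]
          A ⧸ IsLocalRing.maximalIdeal A ^ (N + 1)).toRingHom)
    (ξ : F.obj (Under.mk (CommRingCat.ofHom (algebraMap A
        (AdicCompletion (IsLocalRing.maximalIdeal A) A))))) :
    ∃ (A' : Type u) (_ : CommRing A') (_ : Algebra A A') (_ : Algebra.Etale A A')
      (φ : Under.mk (CommRingCat.ofHom (algebraMap A A')) ⟶
        Under.mk (CommRingCat.ofHom (algebraMap A (A ⧸ IsLocalRing.maximalIdeal A ^ (N + 1)))))
      (ξ' : F.obj (Under.mk (CommRingCat.ofHom (algebraMap A A')))),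
      F.map φ ξ' = F.map π ξ := by
  haveI : IsNoetherianRing A := hG.1
  obtain ⟨S, ξS, hξ⟩ := exists_fg_lift F hF ξ
  haveI : Algebra.FiniteType A S.1 := (Subalgebra.fg_iff_finiteType S.1).mp S.2
  haveI : Algebra.FinitePresentation A S.1 :=
    Algebra.FinitePresentation.of_finiteType.mp inferInstance
  obtain ⟨A', _, _, hEt, h, ψ, hψ⟩ := approx_etale_alg_local hG S.1 S.1.val (N + 1)
  refine ⟨A', inferInstance, inferInstance, hEt,
    toUnderHom ((AdicCompletion.evalₐ (maximalIdeal A) (N + 1)).comp ψ),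
    F.map (toUnderHom h) ξS, ?_⟩
  have e1 : F.map (toUnderHom ((AdicCompletion.evalₐ (maximalIdeal A) (N + 1)).comp ψ))
      (F.map (toUnderHom h) ξS) =
      F.map (toUnderHom h ≫ toUnderHom ((AdicCompletion.evalₐ (maximalIdeal A) (N + 1)).comp ψ))
        ξS := (Functor.map_comp_apply F _ _ ξS).symm
  have e2 : F.map π ξ = F.map ((fgC A (AdicCompletion (maximalIdeal A) A)).ι.app S ≫ π) ξS := by
    rw [← hξ]
    exact (Functor.map_comp_apply F ((fgC A (AdicCompletion (maximalIdeal A) A)).ι.app S) π ξS).symm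
  rw [e1, e2]
  have key : toUnderHom h ≫ toUnderHom ((AdicCompletion.evalₐ (maximalIdeal A) (N + 1)).comp ψ) =
      (fgC A (AdicCompletion (maximalIdeal A) A)).ι.app S ≫ π := ?_
  · exact congrArg (fun t => F.map t ξS) key
  apply Under.UnderMorphism.ext
  apply CommRingCat.hom_ext
  refine RingHom.ext fun (c : S.1) => ?_
  change AdicCompletion.evalₐ (maximalIdeal A) (N + 1) (ψ (h c)) =
    π.right.hom (c : AdicCompletion (maximalIdeal A) A)
  rw [hπ]
  change _ = AdicCompletion.evalₐ (maximalIdeal A) (N + 1) (c : AdicCompletion (maximalIdeal A) A)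
  have h0 : AdicCompletion.evalₐ (maximalIdeal A) (N + 1)
      ((c : AdicCompletion (maximalIdeal A) A) - ψ (h c)) = 0 := by
    have hle : (maximalIdeal A ^ (N + 1)).map (algebraMap A (AdicCompletion (maximalIdeal A) A)) ≤
        RingHom.ker (AdicCompletion.evalₐ (maximalIdeal A) (N + 1) :
          AdicCompletion (maximalIdeal A) A →ₐ[A] A ⧸ maximalIdeal A ^ (N + 1)).toRingHom := by
      rw [Ideal.map_le_iff_le_comap]
      intro a ha
      show AdicCompletion.evalₐ (maximalIdeal A) (N + 1)
        (algebraMap A (AdicCompletion (maximalIdeal A) A) a) = 0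
      rw [AlgHom.commutes]
      exact Ideal.Quotient.eq_zero_iff_mem.mpr ha
    exact hle (hψ c)
  rw [map_sub, sub_eq_zero] at h0
  exact h0.symm

end Groth.Agent.H5.Pop
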