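import Mathlib
import Groth.Agent.Lib.Helper5.Pop.EtPair2
import Groth.Agent.Lib.Helper5.Pop.EtPair4
import Groth.Agent.Lib.Helper5.Pop.EtNbhd1
import Groth.Agent.Lib.Helper5.CD.S1
import Groth.Agent.Lib.Helper1.EtStalk

set_option autoImplicit false
universe u
open AlgebraicGeometry CategoryTheory IsLocalRing Opposite TopologicalSpace

namespace Groth.Agent.H5.Pop

/-- an isomorphism of local rings maps the maximal ideal onto the maximal ideal. -/
theorem map_maximalIdeal_of_bijective {A A' : Type u} [CommRing A] [CommRing A'] [IsLocalRing A]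
    [IsLocalRing A'] (g : A →+* A') (hg : Function.Bijective g) :
    (maximalIdeal A).map g = maximalIdeal A' := by
  haveI : IsLocalHom g := by
    let e : A ≃+* A' := RingEquiv.ofBijective g hg
    exact ⟨fun a ha => by
      have : IsUnit (e.symm (g a)) := ha.map e.symm.toRingHom
      rwa [show e.symm (g a) = a from e.symm_apply_apply a] at this⟩
  rw [← IsLocalRing.maximalIdeal_comap g]
  exact Ideal.map_comap_of_surjective g hg.2 _

set_option maxHeartbeats 1600000 in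
/-- **Artin's Corollary 2.5** (S7202). -/
theorem exists_etale_nbhd_approx {X Y S : Scheme.{u}} [IsLocallyNoetherian S]
    (p : X ⟶ S) (q : Y ⟶ S) [LocallyOfFiniteType p] [LocallyOfFiniteType q] (x : X) (y : Y)
    (hxy : p x = q y)
    (hG : CAlg.IsGRing ↑(S.presheaf.stalk (p x)))
    (φ : ↑(Y.presheaf.stalk y) →+* (AdicCompletion (IsLocalRing.maximalIdeal ↑(X.presheaf.stalk x)) ↑(X.presheaf.stalk x)))
    (hφ : φ.comp ((q.stalkMap y).hom.comp (S.presheaf.stalkCongr (Inseparable.of_eq hxy)).hom.hom) =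
      (algebraMap ↑(X.presheaf.stalk x) (AdicCompletion (IsLocalRing.maximalIdeal ↑(X.presheaf.stalk x)) ↑(X.presheaf.stalk x))).comp (p.stalkMap x).hom)
    (hloc : ∀ b ∈ IsLocalRing.maximalIdeal ↑(Y.presheaf.stalk y),
      φ b ∈ (IsLocalRing.maximalIdeal ↑(X.presheaf.stalk x)).map (algebraMap ↑(X.presheaf.stalk x) (AdicCompletion (IsLocalRing.maximalIdeal ↑(X.presheaf.stalk x)) ↑(X.presheaf.stalk x))))
    (N : ℕ) (hN : 1 ≤ N) :
    ∃ (U : Scheme.{u}) (e : U ⟶ X) (u : U) (heu : e u = x) (f : U ⟶ Y) (hfu : f u = y),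
      Etale e ∧ Function.Bijective (e.residueFieldMap u) ∧ f ≫ q = e ≫ p ∧
      ∀ (b : ↑(Y.presheaf.stalk y)) (c : ↑(X.presheaf.stalk x)),
        AdicCompletion.evalₐ (IsLocalRing.maximalIdeal ↑(X.presheaf.stalk x)) N (φ b) =
          Ideal.Quotient.mk (IsLocalRing.maximalIdeal ↑(X.presheaf.stalk x) ^ N) c →
        Ideal.Quotient.mk (IsLocalRing.maximalIdeal ↑(U.presheaf.stalk u) ^ N)
            ((f.stalkMap u).hom ((Y.presheaf.stalkCongr (Inseparable.of_eq hfu)).inv.hom b)) =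
          Ideal.Quotient.mk (IsLocalRing.maximalIdeal ↑(U.presheaf.stalk u) ^ N)
            ((e.stalkMap u).hom ((X.presheaf.stalkCongr (Inseparable.of_eq heu)).inv.hom c)) := by
  -- affine opens
  obtain ⟨W, hW, hsW, -⟩ := exists_isAffineOpen_mem_and_subset (x := p x) (U := ⊤) trivial
  obtain ⟨V₁, hV₁, hxV₁, hV₁W⟩ :=
    exists_isAffineOpen_mem_and_subset (x := x) (U := p ⁻¹ᵁ W) hsW
  have hyW : y ∈ q ⁻¹ᵁ W := by
    show q y ∈ W
    rw [← hxy]; exact hsW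
  obtain ⟨V₂, hV₂, hyV₂, hV₂W⟩ :=
    exists_isAffineOpen_mem_and_subset (x := y) (U := q ⁻¹ᵁ W) hyW
  -- rings
  letI algC : Algebra Γ(S, W) Γ(X, V₁) := (p.appLE W V₁ hV₁W).hom.toAlgebra
  letI algB : Algebra Γ(S, W) Γ(Y, V₂) := (q.appLE W V₂ hV₂W).hom.toAlgebra
  haveI : IsNoetherianRing Γ(S, W) := IsLocallyNoetherian.component_noetherian ⟨W, hW⟩
  haveI : Algebra.FiniteType Γ(S, W) Γ(Y, V₂) := by
    have := HasRingHomProperty.appLE (P := @LocallyOfFiniteType) q inferInstance ⟨W, hW⟩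
      ⟨V₂, hV₂⟩ hV₂W
    exact this
  haveI : Algebra.FinitePresentation Γ(S, W) Γ(Y, V₂) :=
    Algebra.FinitePresentation.of_finiteType.mp inferInstance
  -- stalks
  letI algX : Algebra Γ(X, V₁) ↑(X.presheaf.stalk x) :=
    TopCat.Presheaf.algebra_section_stalk X.presheaf ⟨x, hxV₁⟩
  letI algY : Algebra Γ(Y, V₂) ↑(Y.presheaf.stalk y) :=
    TopCat.Presheaf.algebra_section_stalk Y.presheaf ⟨y, hyV₂⟩
  haveI locX : IsLocalization.AtPrime ↑(X.presheaf.stalk x) (hV₁.primeIdealOf ⟨x, hxV₁⟩).asIdeal :=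
    hV₁.isLocalization_stalk ⟨x, hxV₁⟩
  haveI locY : IsLocalization.AtPrime ↑(Y.presheaf.stalk y) (hV₂.primeIdealOf ⟨y, hyV₂⟩).asIdeal :=
    hV₂.isLocalization_stalk ⟨y, hyV₂⟩
  haveI : IsNoetherianRing ↑(X.presheaf.stalk x) := H1.EtStalk.isNoetherianRing_stalk p x
  have hGX : CAlg.IsGRing ↑(X.presheaf.stalk x) := by
    have h2 := LocallyOfFiniteType.stalkMap p x
    algebraize [(p.stalkMap x).hom]
    exact H5.GRC.isGRing_of_essFiniteType _ hG _
  have hreg := isRegularHom_cpl_of_isGRing hGX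
  -- compatibility over `Λ`
  have hφ' : ∀ l : Γ(S, W), φ (algebraMap Γ(Y, V₂) ↑(Y.presheaf.stalk y) (algebraMap Γ(S, W) Γ(Y, V₂) l)) =
      algebraMap ↑(X.presheaf.stalk x) (AdicCompletion (maximalIdeal ↑(X.presheaf.stalk x)) ↑(X.presheaf.stalk x))
        (algebraMap Γ(X, V₁) ↑(X.presheaf.stalk x) (algebraMap Γ(S, W) Γ(X, V₁) l)) := by
    intro l
    have h1 := congrArg (fun g => g (S.presheaf.germ W (p x) hsW l)) hφ
    simp only [RingHom.comp_apply] at h1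
    rw [stalkCongr_hom_germ hxy W hsW l] at h1
    have e1 := stalkMap_germ_appLE q W V₂ hV₂W y hyV₂ l
    have e2 := stalkMap_germ_appLE p W V₁ hV₁W x hxV₁ l
    rw [e1, e2] at h1
    exact h1
  obtain ⟨R', _, _, hEt, 𝔭', h𝔭'prime, hB, ψ, h1, h2, h3, h4, h5, h6, h7, h8⟩ :=
    approx_etale_pair (Λ := Γ(S, W)) (C := Γ(X, V₁)) (B := Γ(Y, V₂))
      (hV₁.primeIdealOf ⟨x, hxV₁⟩).asIdeal ↑(X.presheaf.stalk x) hreg
      (hV₂.primeIdealOf ⟨y, hyV₂⟩).asIdeal ↑(Y.presheaf.stalk y) φ hφ' hloc N hN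
  -- the scheme
  let α : Γ(X, V₁) ⟶ CommRingCat.of R' := CommRingCat.ofHom (algebraMap Γ(X, V₁) R')
  let β : Γ(Y, V₂) ⟶ CommRingCat.of R' := CommRingCat.ofHom hB
  let u : Spec (CommRingCat.of R') := (⟨𝔭', h𝔭'prime⟩ : PrimeSpectrum R')
  have heu : (Spec.map α ≫ hV₁.fromSpec) u = x := by
    rw [Scheme.Hom.comp_apply]
    have : (Spec.map α) u = hV₁.primeIdealOf ⟨x, hxV₁⟩ := PrimeSpectrum.ext h1
    rw [this, hV₁.fromSpec_primeIdealOf]
  have hfu : (Spec.map β ≫ hV₂.fromSpec) u = y := by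
    rw [Scheme.Hom.comp_apply]
    have : (Spec.map β) u = hV₂.primeIdealOf ⟨y, hyV₂⟩ := PrimeSpectrum.ext h4
    rw [this, hV₂.fromSpec_primeIdealOf]
  haveI : Etale (Spec.map α) := by
    rw [HasRingHomProperty.Spec_iff (P := @Etale)]
    exact RingHom.etale_algebraMap.mpr hEt
  haveI hEtale : Etale (Spec.map α ≫ hV₁.fromSpec) := inferInstance
  -- stalk of `U`
  letI algU : Algebra R' ↑((Spec (CommRingCat.of R')).presheaf.stalk u) :=
    stalkAlg (CommRingCat.of R') u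
  haveI locU : IsLocalization.AtPrime ↑((Spec (CommRingCat.of R')).presheaf.stalk u) 𝔭' :=
    isLocalization_stalkAlg (CommRingCat.of R') u
  have hle₁ : (⊤ : (Spec (CommRingCat.of R')).Opens) ≤ (Spec.map α ≫ hV₁.fromSpec) ⁻¹ᵁ V₁ := by
    intro z _
    show (Spec.map α ≫ hV₁.fromSpec) z ∈ V₁
    rw [Scheme.Hom.comp_apply]
    have : hV₁.fromSpec ((Spec.map α) z) ∈ Set.range hV₁.fromSpec := Set.mem_range_self _
    rw [hV₁.range_fromSpec] at this
    exact this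
  have hle₂ : (⊤ : (Spec (CommRingCat.of R')).Opens) ≤ (Spec.map β ≫ hV₂.fromSpec) ⁻¹ᵁ V₂ := by
    intro z _
    show (Spec.map β ≫ hV₂.fromSpec) z ∈ V₂
    rw [Scheme.Hom.comp_apply]
    have : hV₂.fromSpec ((Spec.map β) z) ∈ Set.range hV₂.fromSpec := Set.mem_range_self _
    rw [hV₂.range_fromSpec] at this
    exact this
  obtain ⟨E, hEdef⟩ : ∃ E : ↑(X.presheaf.stalk x) →+*
      ↑((Spec (CommRingCat.of R')).presheaf.stalk u),
      E = ((Spec.map α ≫ hV₁.fromSpec).stalkMap u).hom.comp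
        (X.presheaf.stalkCongr (Inseparable.of_eq heu)).inv.hom := ⟨_, rfl⟩
  obtain ⟨Fm, hFdef⟩ : ∃ Fm : ↑(Y.presheaf.stalk y) →+*
      ↑((Spec (CommRingCat.of R')).presheaf.stalk u),
      Fm = ((Spec.map β ≫ hV₂.fromSpec).stalkMap u).hom.comp
        (Y.presheaf.stalkCongr (Inseparable.of_eq hfu)).inv.hom := ⟨_, rfl⟩
  have hE1 : ∀ c : Γ(X, V₁), E (algebraMap Γ(X, V₁) ↑(X.presheaf.stalk x) c) =
      algebraMap R' ↑((Spec (CommRingCat.of R')).presheaf.stalk u) (algebraMap Γ(X, V₁) R' c) := by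
    intro c
    rw [hEdef]
    show ((Spec.map α ≫ hV₁.fromSpec).stalkMap u).hom
      ((X.presheaf.stalkCongr (Inseparable.of_eq heu)).inv.hom (X.presheaf.germ V₁ x hxV₁ c)) = _
    rw [stalkCongr_inv_germ heu V₁ hxV₁ c,
      stalkMap_germ_appLE (Spec.map α ≫ hV₁.fromSpec) V₁ ⊤ hle₁ u trivial c,
      appLE_SpecMap_fromSpec hV₁ α hle₁]
    rfl
  have hF1 : ∀ b : Γ(Y, V₂), Fm (algebraMap Γ(Y, V₂) ↑(Y.presheaf.stalk y) b) =
      algebraMap R' ↑((Spec (CommRingCat.of R')).presheaf.stalk u) (hB b) := by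
    intro b
    rw [hFdef]
    show ((Spec.map β ≫ hV₂.fromSpec).stalkMap u).hom
      ((Y.presheaf.stalkCongr (Inseparable.of_eq hfu)).inv.hom (Y.presheaf.germ V₂ y hyV₂ b)) = _
    rw [stalkCongr_inv_germ hfu V₂ hyV₂ b,
      stalkMap_germ_appLE (Spec.map β ≫ hV₂.fromSpec) V₂ ⊤ hle₂ u trivial b,
      appLE_SpecMap_fromSpec hV₂ β hle₂]
    rfl
  have hE : (maximalIdeal ↑(X.presheaf.stalk x)).map E =
      maximalIdeal ↑((Spec (CommRingCat.of R')).presheaf.stalk u) := by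
    rw [hEdef, ← Ideal.map_map,
      map_maximalIdeal_of_bijective (X.presheaf.stalkCongr (Inseparable.of_eq heu)).inv.hom
        (ConcreteCategory.bijective_of_isIso (X.presheaf.stalkCongr (Inseparable.of_eq heu)).inv)]
    exact H1.EtStalk.map_maximalIdeal_stalkMap (Spec.map α ≫ hV₁.fromSpec) u
  obtain ⟨hres, hfinal⟩ := stalk_approx (hV₁.primeIdealOf ⟨x, hxV₁⟩).asIdeal ↑(X.presheaf.stalk x)
    (hV₂.primeIdealOf ⟨y, hyV₂⟩).asIdeal ↑(Y.presheaf.stalk y) 𝔭'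
    ↑((Spec (CommRingCat.of R')).presheaf.stalk u) h1 h2 hB ψ φ h5 h6 N h8 E hE1 hE Fm hF1
  refine ⟨Spec (CommRingCat.of R'), Spec.map α ≫ hV₁.fromSpec, u, heu,
    Spec.map β ≫ hV₂.fromSpec, hfu, hEtale, ⟨?_, ?_⟩, ?_, ?_⟩
  · exact ((Spec.map α ≫ hV₁.fromSpec).residueFieldMap u).hom.injective
  · intro ζ
    obtain ⟨z, rfl⟩ := Scheme.residue_surjective _ u ζ
    obtain ⟨w, hw⟩ := hres z
    refine ⟨X.residue _ ((X.presheaf.stalkCongr (Inseparable.of_eq heu)).inv.hom w), ?_⟩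
    have h9 := Scheme.residue_residueFieldMap (Spec.map α ≫ hV₁.fromSpec) u
    have h10 := congr($(h9).hom ((X.presheaf.stalkCongr (Inseparable.of_eq heu)).inv.hom w))
    refine h10.trans ?_
    show IsLocalRing.residue _ (((Spec.map α ≫ hV₁.fromSpec).stalkMap u).hom
      ((X.presheaf.stalkCongr (Inseparable.of_eq heu)).inv.hom w)) = IsLocalRing.residue _ z
    symm
    rw [← sub_eq_zero, ← map_sub, IsLocalRing.residue_eq_zero_iff]
    rw [hEdef] at hw
    exact hw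
  · rw [Category.assoc, Category.assoc, ← IsAffineOpen.SpecMap_appLE_fromSpec q hW hV₂ hV₂W,
      ← IsAffineOpen.SpecMap_appLE_fromSpec p hW hV₁ hV₁W, ← Category.assoc, ← Category.assoc,
      ← Spec.map_comp, ← Spec.map_comp]
    congr 2
    ext l
    exact h3 l
  · intro b c hbc
    have := hfinal b c hbc
    rw [hEdef, hFdef] at this
    exact this

end Groth.Agent.H5.Pop
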