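import Mathlib
import Groth.Agent.Lib.Helper5.Pop.EtIso5
import Groth.Agent.Lib.Helper5.Pop.EtNbhd2
import Groth.Agent.Lib.Helper5.CD.S1
import Groth.Agent.Lib.Helper1.EtStalk

set_option autoImplicit false
universe u
open AlgebraicGeometry CategoryTheory IsLocalRing Opposite TopologicalSpace

namespace Groth.Agent.H5.Pop

set_option maxHeartbeats 1600000 in
/-- **Artin's Corollary 2.6** (S7203). -/
theorem exists_etale_nbhd_iso {X Y S : Scheme.{u}} [IsLocallyNoetherian S]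
    (p : X ⟶ S) (q : Y ⟶ S) [LocallyOfFiniteType p] [LocallyOfFiniteType q] (x : X) (y : Y) (hxy : p x = q y)
    (hG : CAlg.IsGRing ↑(S.presheaf.stalk (p x)))
    (φ : (AdicCompletion (IsLocalRing.maximalIdeal ↑(Y.presheaf.stalk y)) ↑(Y.presheaf.stalk y)) ≃+* (AdicCompletion (IsLocalRing.maximalIdeal ↑(X.presheaf.stalk x)) ↑(X.presheaf.stalk x)))
    (hφ : φ.toRingHom.comp ((algebraMap ↑(Y.presheaf.stalk y) (AdicCompletion (IsLocalRing.maximalIdeal ↑(Y.presheaf.stalk y)) ↑(Y.presheaf.stalk y))).comp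
        ((q.stalkMap y).hom.comp (S.presheaf.stalkCongr (Inseparable.of_eq hxy)).hom.hom)) =
      (algebraMap ↑(X.presheaf.stalk x) (AdicCompletion (IsLocalRing.maximalIdeal ↑(X.presheaf.stalk x)) ↑(X.presheaf.stalk x))).comp (p.stalkMap x).hom)
    (N : ℕ) (hN : 1 ≤ N) :
    ∃ (U : Scheme.{u}) (u : U) (e : U ⟶ X) (heu : e u = x) (f : U ⟶ Y) (hfu : f u = y),
      Etale e ∧ Function.Bijective (e.residueFieldMap u) ∧ Etale f ∧ Function.Bijective (f.residueFieldMap u) ∧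
      f ≫ q = e ≫ p ∧
      ∀ (b : (AdicCompletion (IsLocalRing.maximalIdeal ↑(Y.presheaf.stalk y)) ↑(Y.presheaf.stalk y))) (cY : ↑(Y.presheaf.stalk y)) (cX : ↑(X.presheaf.stalk x)),
        AdicCompletion.evalₐ (IsLocalRing.maximalIdeal ↑(Y.presheaf.stalk y)) N b =
          Ideal.Quotient.mk (IsLocalRing.maximalIdeal ↑(Y.presheaf.stalk y) ^ N) cY →
        AdicCompletion.evalₐ (IsLocalRing.maximalIdeal ↑(X.presheaf.stalk x)) N (φ b) =
          Ideal.Quotient.mk (IsLocalRing.maximalIdeal ↑(X.presheaf.stalk x) ^ N) cX →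
        Ideal.Quotient.mk (IsLocalRing.maximalIdeal ↑(U.presheaf.stalk u) ^ N)
            ((f.stalkMap u).hom ((Y.presheaf.stalkCongr (Inseparable.of_eq hfu)).inv.hom cY)) =
          Ideal.Quotient.mk (IsLocalRing.maximalIdeal ↑(U.presheaf.stalk u) ^ N)
            ((e.stalkMap u).hom ((X.presheaf.stalkCongr (Inseparable.of_eq heu)).inv.hom cX)) := by
  -- affine opens
  obtain ⟨W, hW, hsW, -⟩ := exists_isAffineOpen_mem_and_subset (x := p x) (U := ⊤) trivial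
  obtain ⟨V₁, hV₁, hxV₁, hV₁W⟩ :=
    exists_isAffineOpen_mem_and_subset (x := x) (U := p ⁻¹ᵁ W) hsW
  have hyW : y ∈ q ⁻¹ᵁ W := by
    show q y ∈ W
    rw [← hxy]; exact hsW
  obtain ⟨V₂, hV₂, hyV₂, hV₂W⟩ :=
    exists_isAffineOpen_mem_and_subset (x := y) (U := q ⁻¹ᵁ W) hyW
  -- rings
  letI algC : Algebra Γ(S, W) Γ(X, V₁) := (p.appLE W V₁ hV₁W).hom.toAlgebra
  letI algB : Algebra Γ(S, W) Γ(Y, V₂) := (q.appLE W V₂ hV₂W).hom.toAlgebra
  haveI : IsNoetherianRing Γ(S, W) := IsLocallyNoetherian.component_noetherian ⟨W, hW⟩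
  haveI : Algebra.FiniteType Γ(S, W) Γ(Y, V₂) := by
    have := HasRingHomProperty.appLE (P := @LocallyOfFiniteType) q inferInstance ⟨W, hW⟩
      ⟨V₂, hV₂⟩ hV₂W
    exact this
  haveI : Algebra.FiniteType Γ(S, W) Γ(X, V₁) := by
    have := HasRingHomProperty.appLE (P := @LocallyOfFiniteType) p inferInstance ⟨W, hW⟩
      ⟨V₁, hV₁⟩ hV₁W
    exact this
  -- stalks
  letI algX : Algebra Γ(X, V₁) ↑(X.presheaf.stalk x) :=
    TopCat.Presheaf.algebra_section_stalk X.presheaf ⟨x, hxV₁⟩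
  letI algY : Algebra Γ(Y, V₂) ↑(Y.presheaf.stalk y) :=
    TopCat.Presheaf.algebra_section_stalk Y.presheaf ⟨y, hyV₂⟩
  haveI locX : IsLocalization.AtPrime ↑(X.presheaf.stalk x) (hV₁.primeIdealOf ⟨x, hxV₁⟩).asIdeal :=
    hV₁.isLocalization_stalk ⟨x, hxV₁⟩
  haveI locY : IsLocalization.AtPrime ↑(Y.presheaf.stalk y) (hV₂.primeIdealOf ⟨y, hyV₂⟩).asIdeal :=
    hV₂.isLocalization_stalk ⟨y, hyV₂⟩
  haveI : IsNoetherianRing ↑(X.presheaf.stalk x) := H1.EtStalk.isNoetherianRing_stalk p x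
  haveI : IsNoetherianRing ↑(Y.presheaf.stalk y) := H1.EtStalk.isNoetherianRing_stalk q y
  have hGX : CAlg.IsGRing ↑(X.presheaf.stalk x) := by
    have h2 := LocallyOfFiniteType.stalkMap p x
    algebraize [(p.stalkMap x).hom]
    exact H5.GRC.isGRing_of_essFiniteType _ hG _
  have hreg := isRegularHom_cpl_of_isGRing hGX
  -- compatibility over `Λ`
  have hφ' : ∀ l : Γ(S, W), φ (algebraMap ↑(Y.presheaf.stalk y)
        (AdicCompletion (maximalIdeal ↑(Y.presheaf.stalk y)) ↑(Y.presheaf.stalk y))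
        (algebraMap Γ(Y, V₂) ↑(Y.presheaf.stalk y) (algebraMap Γ(S, W) Γ(Y, V₂) l))) =
      algebraMap ↑(X.presheaf.stalk x) (AdicCompletion (maximalIdeal ↑(X.presheaf.stalk x)) ↑(X.presheaf.stalk x))
        (algebraMap Γ(X, V₁) ↑(X.presheaf.stalk x) (algebraMap Γ(S, W) Γ(X, V₁) l)) := by
    intro l
    have h1 := congrArg (fun g => g (S.presheaf.germ W (p x) hsW l)) hφ
    simp only [RingHom.comp_apply] at h1
    rw [stalkCongr_hom_germ hxy W hsW l] at h1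
    have e1 := stalkMap_germ_appLE q W V₂ hV₂W y hyV₂ l
    have e2 := stalkMap_germ_appLE p W V₁ hV₁W x hxV₁ l
    rw [e1, e2] at h1
    exact h1
  obtain ⟨R', _, _, hEt, 𝔭', h𝔭'prime, hB, h1, h3, h4, hBet, hmain⟩ :=
    approx_etale_pair_iso (Λ := Γ(S, W)) (C := Γ(X, V₁)) (B := Γ(Y, V₂))
      (hV₁.primeIdealOf ⟨x, hxV₁⟩).asIdeal ↑(X.presheaf.stalk x) hreg
      (hV₂.primeIdealOf ⟨y, hyV₂⟩).asIdeal ↑(Y.presheaf.stalk y) φ hφ' (max N 2) (le_max_right _ _)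
  -- the scheme
  let α : Γ(X, V₁) ⟶ CommRingCat.of R' := CommRingCat.ofHom (algebraMap Γ(X, V₁) R')
  let β : Γ(Y, V₂) ⟶ CommRingCat.of R' := CommRingCat.ofHom hB
  let u : Spec (CommRingCat.of R') := (⟨𝔭', h𝔭'prime⟩ : PrimeSpectrum R')
  have heu : (Spec.map α ≫ hV₁.fromSpec) u = x := by
    rw [Scheme.Hom.comp_apply]
    have : (Spec.map α) u = hV₁.primeIdealOf ⟨x, hxV₁⟩ := PrimeSpectrum.ext h1
    rw [this, hV₁.fromSpec_primeIdealOf]
  have hfu : (Spec.map β ≫ hV₂.fromSpec) u = y := by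
    rw [Scheme.Hom.comp_apply]
    have : (Spec.map β) u = hV₂.primeIdealOf ⟨y, hyV₂⟩ := PrimeSpectrum.ext h4
    rw [this, hV₂.fromSpec_primeIdealOf]
  haveI : Etale (Spec.map α) := by
    rw [HasRingHomProperty.Spec_iff (P := @Etale)]
    exact RingHom.etale_algebraMap.mpr hEt
  haveI hEtale : Etale (Spec.map α ≫ hV₁.fromSpec) := inferInstance
  haveI : Etale (Spec.map β) := by
    rw [HasRingHomProperty.Spec_iff (P := @Etale)]
    exact hBet
  haveI hEtale₂ : Etale (Spec.map β ≫ hV₂.fromSpec) := inferInstance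
  -- stalk of `U`
  letI algU : Algebra R' ↑((Spec (CommRingCat.of R')).presheaf.stalk u) :=
    stalkAlg (CommRingCat.of R') u
  haveI locU : IsLocalization.AtPrime ↑((Spec (CommRingCat.of R')).presheaf.stalk u) 𝔭' :=
    isLocalization_stalkAlg (CommRingCat.of R') u
  have hle₁ : (⊤ : (Spec (CommRingCat.of R')).Opens) ≤ (Spec.map α ≫ hV₁.fromSpec) ⁻¹ᵁ V₁ := by
    intro z _
    show (Spec.map α ≫ hV₁.fromSpec) z ∈ V₁
    rw [Scheme.Hom.comp_apply]
    have : hV₁.fromSpec ((Spec.map α) z) ∈ Set.range hV₁.fromSpec := Set.mem_range_self _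
    rw [hV₁.range_fromSpec] at this
    exact this
  have hle₂ : (⊤ : (Spec (CommRingCat.of R')).Opens) ≤ (Spec.map β ≫ hV₂.fromSpec) ⁻¹ᵁ V₂ := by
    intro z _
    show (Spec.map β ≫ hV₂.fromSpec) z ∈ V₂
    rw [Scheme.Hom.comp_apply]
    have : hV₂.fromSpec ((Spec.map β) z) ∈ Set.range hV₂.fromSpec := Set.mem_range_self _
    rw [hV₂.range_fromSpec] at this
    exact this
  obtain ⟨E, hEdef⟩ : ∃ E : ↑(X.presheaf.stalk x) →+*
      ↑((Spec (CommRingCat.of R')).presheaf.stalk u),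
      E = ((Spec.map α ≫ hV₁.fromSpec).stalkMap u).hom.comp
        (X.presheaf.stalkCongr (Inseparable.of_eq heu)).inv.hom := ⟨_, rfl⟩
  obtain ⟨Fm, hFdef⟩ : ∃ Fm : ↑(Y.presheaf.stalk y) →+*
      ↑((Spec (CommRingCat.of R')).presheaf.stalk u),
      Fm = ((Spec.map β ≫ hV₂.fromSpec).stalkMap u).hom.comp
        (Y.presheaf.stalkCongr (Inseparable.of_eq hfu)).inv.hom := ⟨_, rfl⟩
  have hE1 : ∀ c : Γ(X, V₁), E (algebraMap Γ(X, V₁) ↑(X.presheaf.stalk x) c) =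
      algebraMap R' ↑((Spec (CommRingCat.of R')).presheaf.stalk u) (algebraMap Γ(X, V₁) R' c) := by
    intro c
    rw [hEdef]
    show ((Spec.map α ≫ hV₁.fromSpec).stalkMap u).hom
      ((X.presheaf.stalkCongr (Inseparable.of_eq heu)).inv.hom (X.presheaf.germ V₁ x hxV₁ c)) = _
    rw [stalkCongr_inv_germ heu V₁ hxV₁ c,
      stalkMap_germ_appLE (Spec.map α ≫ hV₁.fromSpec) V₁ ⊤ hle₁ u trivial c,
      appLE_SpecMap_fromSpec hV₁ α hle₁]
    rfl
  have hF1 : ∀ b : Γ(Y, V₂), Fm (algebraMap Γ(Y, V₂) ↑(Y.presheaf.stalk y) b) =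
      algebraMap R' ↑((Spec (CommRingCat.of R')).presheaf.stalk u) (hB b) := by
    intro b
    rw [hFdef]
    show ((Spec.map β ≫ hV₂.fromSpec).stalkMap u).hom
      ((Y.presheaf.stalkCongr (Inseparable.of_eq hfu)).inv.hom (Y.presheaf.germ V₂ y hyV₂ b)) = _
    rw [stalkCongr_inv_germ hfu V₂ hyV₂ b,
      stalkMap_germ_appLE (Spec.map β ≫ hV₂.fromSpec) V₂ ⊤ hle₂ u trivial b,
      appLE_SpecMap_fromSpec hV₂ β hle₂]
    rfl
  obtain ⟨hresE, hresF, hfinal⟩ := hmain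
    ↑((Spec (CommRingCat.of R')).presheaf.stalk u) E hE1 Fm hF1
  refine ⟨Spec (CommRingCat.of R'), u, Spec.map α ≫ hV₁.fromSpec, heu,
    Spec.map β ≫ hV₂.fromSpec, hfu, hEtale, ⟨?_, ?_⟩, hEtale₂, ⟨?_, ?_⟩, ?_, ?_⟩
  · exact ((Spec.map α ≫ hV₁.fromSpec).residueFieldMap u).hom.injective
  · intro ζ
    obtain ⟨z, rfl⟩ := Scheme.residue_surjective _ u ζ
    obtain ⟨w, hw⟩ := hresE z
    refine ⟨X.residue _ ((X.presheaf.stalkCongr (Inseparable.of_eq heu)).inv.hom w), ?_⟩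
    have h9 := Scheme.residue_residueFieldMap (Spec.map α ≫ hV₁.fromSpec) u
    have h10 := congr($(h9).hom ((X.presheaf.stalkCongr (Inseparable.of_eq heu)).inv.hom w))
    refine h10.trans ?_
    show IsLocalRing.residue _ (((Spec.map α ≫ hV₁.fromSpec).stalkMap u).hom
      ((X.presheaf.stalkCongr (Inseparable.of_eq heu)).inv.hom w)) = IsLocalRing.residue _ z
    symm
    rw [← sub_eq_zero, ← map_sub, IsLocalRing.residue_eq_zero_iff]
    rw [hEdef] at hw
    exact hw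
  · exact ((Spec.map β ≫ hV₂.fromSpec).residueFieldMap u).hom.injective
  · intro ζ
    obtain ⟨z, rfl⟩ := Scheme.residue_surjective _ u ζ
    obtain ⟨w, hw⟩ := hresF z
    refine ⟨Y.residue _ ((Y.presheaf.stalkCongr (Inseparable.of_eq hfu)).inv.hom w), ?_⟩
    have h9 := Scheme.residue_residueFieldMap (Spec.map β ≫ hV₂.fromSpec) u
    have h10 := congr($(h9).hom ((Y.presheaf.stalkCongr (Inseparable.of_eq hfu)).inv.hom w))
    refine h10.trans ?_
    show IsLocalRing.residue _ (((Spec.map β ≫ hV₂.fromSpec).stalkMap u).hom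
      ((Y.presheaf.stalkCongr (Inseparable.of_eq hfu)).inv.hom w)) = IsLocalRing.residue _ z
    symm
    rw [← sub_eq_zero, ← map_sub, IsLocalRing.residue_eq_zero_iff]
    rw [hFdef] at hw
    exact hw
  · rw [Category.assoc, Category.assoc, ← IsAffineOpen.SpecMap_appLE_fromSpec q hW hV₂ hV₂W,
      ← IsAffineOpen.SpecMap_appLE_fromSpec p hW hV₁ hV₁W, ← Category.assoc, ← Category.assoc,
      ← Spec.map_comp, ← Spec.map_comp]
    congr 2
    ext l
    exact h3 l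
  · intro b cY cX hbY hbX
    have := hfinal N (le_max_left _ _) b cY cX hbY hbX
    rw [hEdef, hFdef] at this
    exact this

end Groth.Agent.H5.Pop
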