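import Mathlib
import Groth.Prelude
import Groth.Agent.Lib.Helper5.CD.R7

set_option autoImplicit false
universe u

namespace Groth.Agent.H5.Pop.ExcFT

/-- an algebra of finite type over a J-2 ring is J-2. -/
theorem isJ2_of_finiteType (A : Type u) [CommRing A] (hA : EGA4.IsJ2 A) (B : Type u)
    [CommRing B] [Algebra A B] [Algebra.FiniteType A B] : EGA4.IsJ2 B := by
  intro C _ _ hC
  letI : Algebra A C := ((algebraMap B C).comp (algebraMap A B)).toAlgebra
  haveI : IsScalarTower A B C := IsScalarTower.of_algebraMap_eq (fun _ => rfl)
  exact hA C (Algebra.FiniteType.trans (R := A) (S := B) (A := C) inferInstance hC)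

/-- an algebra of finite type over a universally catenary ring is universally catenary. -/
theorem isUniversallyCatenary_of_finiteType (A : Type u) [CommRing A]
    (hA : CAlg.IsUniversallyCatenary A) (B : Type u)
    [CommRing B] [Algebra A B] [Algebra.FiniteType A B] : CAlg.IsUniversallyCatenary B := by
  haveI := hA.1
  refine ⟨Algebra.FiniteType.isNoetherianRing A B, ?_⟩
  intro C _ _ hC
  letI : Algebra A C := ((algebraMap B C).comp (algebraMap A B)).toAlgebra
  haveI : IsScalarTower A B C := IsScalarTower.of_algebraMap_eq (fun _ => rfl)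
  exact hA.2 C (Algebra.FiniteType.trans (R := A) (S := B) (A := C) inferInstance hC)

/-- an algebra of finite type over an excellent ring is excellent. -/
theorem isExcellent_of_finiteType (A : Type u) [CommRing A] (hA : EGA4.IsExcellent A) (B : Type u)
    [CommRing B] [Algebra A B] [Algebra.FiniteType A B] : EGA4.IsExcellent B := by
  obtain ⟨h1, h2, h3, h4⟩ := hA
  exact ⟨Algebra.FiniteType.isNoetherianRing A B, isUniversallyCatenary_of_finiteType A h2 B,
    Groth.Agent.H5.GRC.isGRing_of_finiteType A h3 B, isJ2_of_finiteType A h4 B⟩

end Groth.Agent.H5.Pop.ExcFT
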