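import Mathlib
import Groth.Prelude.Def_EGA4b
import Groth.Prelude.Def_Found
import Groth.Agent.Lib.Helper3.CA.PHomInst
import Groth.Agent.Lib.Helper3.CA.PHomAdic
import Groth.Agent.Lib.Helper3.CA.RegHomLoc
import Groth.Agent.S0543

/-!
# Adic completions of G-rings are regular over the ring (helper5)

Stacks 0AH2, assembled from helper3's `PHom` toolkit.
-/

set_option autoImplicit false
universe u
open TensorProduct

namespace Groth.Agent.H5.Pop

open Groth.Agent.H3.PHom

/-- **Stacks 0AH2**: for a G-ring `B` and any ideal `J`, the map `B → B^∧_J` is regular. -/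
theorem isRegularHom_adicCompletion_of_isGRing (B : Type u) [CommRing B] (hG : CAlg.IsGRing B)
    (J : Ideal B) : CAlg.IsRegularHom B (AdicCompletion J B) := by
  haveI : IsNoetherianRing B := hG.1
  haveI : IsNoetherianRing (AdicCompletion J B) := Groth.Agent.S0543.result B J
  have key : PFib PReg B (AdicCompletion J B) :=
    pfib_adicCompletion localProp_reg compAx_reg cancelAx_reg B J
      (fun m _ _ => fun q _ K _ _ hfin => ((hG.2 m).2 q).2 K hfin)
  refine ⟨AdicCompletion.flat_of_isNoetherian J, fun p _ =>
    ⟨Groth.Agent.H3.RegHomBC.isNoetherianRing_fiber B _ p, fun K _ _ hfin => key p K hfin⟩⟩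

end Groth.Agent.H5.Pop
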