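import Mathlib
import Groth.Prelude.Def_Found
import Groth.Prelude.Def_Hensel
import Groth.Agent.Lib.Helper5.Pop.GSch
import Groth.Agent.Lib.Helper5.CD.S1
import Groth.Agent.Lib.Helper6.DedGRing
import Groth.Agent.Lib.Helper3.CA.HensRegFF3
import Groth.Agent.Lib.Helper8.Hens.Henselization
import Groth.Agent.Lib.Helper8.Hens.Noeth
import Groth.Agent.Lib.Helper8.Hens.AtPrimeColim
import Groth.Agent.Lib.Helper8.Hens.EtaleLift
import Groth.Agent.Lib.Helper8.Hens.Transfer

/-!
# Henselian local rings are directed colimits of henselian local G-rings (helper5, S9309)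
-/

set_option autoImplicit false
universe u
open IsLocalRing

namespace Groth.Agent.H5.HensColim

open Groth.Agent.H8.Hens

instance : IsDomain (ULift.{u} ℤ) := ULift.ringEquiv.toMulEquiv.isDomain ℤ
instance : IsPrincipalIdealRing (ULift.{u} ℤ) :=
  IsPrincipalIdealRing.of_surjective (ULift.ringEquiv (R := ℤ)).symm.toRingHom
    ULift.ringEquiv.symm.surjective
instance : CharZero (ULift.{u} ℤ) :=
  charZero_of_injective_ringHom (f := (ULift.ringEquiv (R := ℤ)).symm.toRingHom)
    ULift.ringEquiv.symm.injective

/-- `ℤ` (in any universe) is a G-ring. -/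
theorem isGRing_ulift_int : CAlg.IsGRing (ULift.{u} ℤ) :=
  Groth.Agent.H6.DedGRing.isGRing_of_isDedekindDomain _

/-- The henselization of a local G-ring is a G-ring. -/
theorem isGRing_of_isHenselization (L : Type u) [CommRing L] [IsLocalRing L] (hG : CAlg.IsGRing L)
    (H : Type u) [CommRing H] [IsLocalRing H] [Algebra L H] [IsLocalHom (algebraMap L H)]
    [Hensel.IsHenselization L H] : CAlg.IsGRing H := by
  haveI : IsNoetherianRing L := hG.1
  have hreg := Groth.Agent.H5.Pop.isRegularHom_cpl_of_isGRing hG
  haveI : IsNoetherianRing H := (isNoetherianRing_iff_of_isHenselization (R := L) H).mp inferInstance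
  exact Groth.Agent.H5.Pop.isGRing_of_isRegularHom_cpl
    (Groth.Agent.H3.HensRegFF.regular_hens_of_regular L H hreg)

end Groth.Agent.H5.HensColim
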