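import Mathlib
import Groth.Agent.Lib.Helper5.Pop.HensColim

/-!
# Henselian local rings are directed colimits of henselian local G-rings, II (helper5, S9309)
-/

set_option autoImplicit false
universe u
open IsLocalRing

namespace Groth.Agent.H5.HensColim

open Groth.Agent.H8.Hens

variable (Z : Type u) [CommRing Z] (A : Type u) [CommRing A] [HenselianLocalRing A] [Algebra Z A]

/-- the finitely generated subalgebras. -/
noncomputable def Sub (s : Finset A) : Subalgebra Z A := Algebra.adjoin Z (s : Set A)

instance (s : Finset A) : Algebra.FiniteType Z (Sub Z A s) :=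
  (Subalgebra.fg_iff_finiteType _).mp (Subalgebra.fg_adjoin_finset s)

/-- the prime below the maximal ideal. -/
noncomputable def P (s : Finset A) : Ideal (Sub Z A s) :=
  (maximalIdeal A).comap (Sub Z A s).val.toRingHom

instance (s : Finset A) : (P Z A s).IsPrime := Ideal.comap_isPrime _ _

theorem mem_P (s : Finset A) (x : Sub Z A s) : x ∈ P Z A s ↔ (x : A) ∈ maximalIdeal A := Iff.rfl

/-- the local ring. -/
abbrev L (s : Finset A) : Type u := Localization.AtPrime (P Z A s)

theorem isUnit_of_primeCompl (s : Finset A) (y : (P Z A s).primeCompl) :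
    IsUnit ((Sub Z A s).val.toRingHom (y : Sub Z A s)) := by
  have h := y.2
  rw [Ideal.mem_primeCompl_iff, mem_P, mem_maximalIdeal, mem_nonunits_iff, not_not] at h
  exact h

/-- the map to `A`. -/
noncomputable def toA (s : Finset A) : L Z A s →+* A :=
  IsLocalization.lift (M := (P Z A s).primeCompl) (g := (Sub Z A s).val.toRingHom)
    (isUnit_of_primeCompl Z A s)

theorem toA_algebraMap (s : Finset A) (x : Sub Z A s) :
    toA Z A s (algebraMap (Sub Z A s) (L Z A s) x) = (x : A) :=
  IsLocalization.lift_eq _ _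

instance isLocalHom_toA (s : Finset A) : IsLocalHom (toA Z A s) := by
  refine ⟨fun z hz => ?_⟩
  obtain ⟨⟨x, y⟩, hxy⟩ := IsLocalization.surj (P Z A s).primeCompl z
  have h1 : toA Z A s z * ((y : Sub Z A s) : A) = (x : A) := by
    have := congrArg (toA Z A s) hxy
    rw [map_mul, toA_algebraMap, toA_algebraMap] at this
    exact this
  have hu : IsUnit (x : A) := by
    rw [← h1]
    exact hz.mul (isUnit_of_primeCompl Z A s y)
  have hx : x ∈ (P Z A s).primeCompl := by
    rw [Ideal.mem_primeCompl_iff, mem_P, mem_maximalIdeal, mem_nonunits_iff, not_not]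
    exact hu
  have h2 : IsUnit (algebraMap (Sub Z A s) (L Z A s) x) :=
    IsLocalization.map_units (L Z A s) (⟨x, hx⟩ : (P Z A s).primeCompl)
  rw [← hxy] at h2
  exact (IsUnit.mul_iff.mp h2).1

variable {A}

theorem sub_mono {s t : Finset A} (h : s ≤ t) : Sub Z A s ≤ Sub Z A t :=
  Algebra.adjoin_mono (Finset.coe_subset.mpr h)

/-- inclusions. -/
noncomputable def incl {s t : Finset A} (h : s ≤ t) : Sub Z A s →+* Sub Z A t :=
  (Subalgebra.inclusion (sub_mono Z h)).toRingHom

theorem incl_apply {s t : Finset A} (h : s ≤ t) (x : Sub Z A s) :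
    incl Z h x = Subalgebra.inclusion (sub_mono Z h) x := rfl

theorem coe_incl {s t : Finset A} (h : s ≤ t) (x : Sub Z A s) :
    ((incl Z h x : Sub Z A t) : A) = (x : A) := by
  rw [incl_apply]
  exact Subalgebra.coe_inclusion (sub_mono Z h) x

theorem P_comap {s t : Finset A} (h : s ≤ t) : P Z A s = (P Z A t).comap (incl Z h) := by
  ext x
  rw [mem_P, Ideal.mem_comap, mem_P, coe_incl]

/-- transition maps of the local rings. -/
noncomputable def Lmap {s t : Finset A} (h : s ≤ t) : L Z A s →+* L Z A t :=
  Localization.localRingHom (P Z A s) (P Z A t) (incl Z h) (P_comap Z h)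

instance {s t : Finset A} (h : s ≤ t) : IsLocalHom (Lmap Z h) :=
  Localization.isLocalHom_localRingHom _ _ _ _

theorem Lmap_algebraMap {s t : Finset A} (h : s ≤ t) (x : Sub Z A s) :
    Lmap Z h (algebraMap (Sub Z A s) (L Z A s) x) = algebraMap (Sub Z A t) (L Z A t) (incl Z h x) :=
  Localization.localRingHom_to_map _ _ _ _ _

theorem toA_comp_Lmap {s t : Finset A} (h : s ≤ t) : (toA Z A t).comp (Lmap Z h) = toA Z A s := by
  apply IsLocalization.ringHom_ext (P Z A s).primeCompl
  ext x
  simp only [RingHom.comp_apply]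
  rw [Lmap_algebraMap, toA_algebraMap, toA_algebraMap, coe_incl]

theorem Lmap_self (s : Finset A) : Lmap Z (le_refl s) = RingHom.id (L Z A s) := by
  apply IsLocalization.ringHom_ext (P Z A s).primeCompl
  ext x
  simp only [RingHom.comp_apply, RingHom.id_apply]
  rw [Lmap_algebraMap]
  have h1 : incl Z (le_refl s) x = x := Subtype.ext (coe_incl Z _ x)
  rw [h1]

theorem Lmap_comp {s t r : Finset A} (h₁ : s ≤ t) (h₂ : t ≤ r) :
    (Lmap Z h₂).comp (Lmap Z h₁) = Lmap Z (h₁.trans h₂) := by
  apply IsLocalization.ringHom_ext (P Z A s).primeCompl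
  ext x
  simp only [RingHom.comp_apply]
  rw [Lmap_algebraMap, Lmap_algebraMap, Lmap_algebraMap]
  have h1 : incl Z h₂ (incl Z h₁ x) = incl Z (h₁.trans h₂) x :=
    Subtype.ext (by rw [coe_incl, coe_incl, coe_incl])
  rw [h1]

variable (A)

/-- the henselian local rings. -/
abbrev G (s : Finset A) : Type u := Henselization (L Z A s)

instance (s : Finset A) : Hensel.IsHenselization (L Z A s) (G Z A s) := isHenselization

instance (s : Finset A) : HenselianLocalRing (G Z A s) :=
  (isHenselization (R := L Z A s)).henselian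

variable {A}

/-- uniqueness of maps out of the henselization. -/
theorem G_hom_ext {s : Finset A} {T : Type u} [CommRing T] [HenselianLocalRing T]
    (g₁ g₂ : G Z A s →+* T) (h : g₁.comp (algebraMap (L Z A s) (G Z A s)) =
      g₂.comp (algebraMap (L Z A s) (G Z A s)))
    (hloc : IsLocalHom (g₂.comp (algebraMap (L Z A s) (G Z A s)))) : g₁ = g₂ := by
  obtain ⟨g, -, hg⟩ := (isHenselization (R := L Z A s)).universal T
    (g₂.comp (algebraMap (L Z A s) (G Z A s))) hloc
  rw [hg g₁ h, hg g₂ rfl]

variable (A)

theorem exists_psi (s : Finset A) : ∃ g : G Z A s →+* A,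
    g.comp (algebraMap (L Z A s) (G Z A s)) = toA Z A s :=
  ((isHenselization (R := L Z A s)).universal A (toA Z A s) inferInstance).exists

/-- the maps to `A`. -/
noncomputable def psi (s : Finset A) : G Z A s →+* A := (exists_psi Z A s).choose

theorem psi_comp (s : Finset A) : (psi Z A s).comp (algebraMap (L Z A s) (G Z A s)) = toA Z A s :=
  (exists_psi Z A s).choose_spec

theorem psi_algebraMap (s : Finset A) (x : L Z A s) :
    psi Z A s (algebraMap (L Z A s) (G Z A s) x) = toA Z A s x :=
  congrArg (fun g => g x) (psi_comp Z A s)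

instance isLocalHom_psi (s : Finset A) : IsLocalHom (psi Z A s) := by
  apply isLocalHom_of_isHenselization (R := L Z A s) (G Z A s)
  rw [psi_comp]
  infer_instance

variable {A}

theorem exists_f {s t : Finset A} (h : s ≤ t) : ∃ g : G Z A s →+* G Z A t,
    g.comp (algebraMap (L Z A s) (G Z A s)) = (algebraMap (L Z A t) (G Z A t)).comp (Lmap Z h) :=
  ((isHenselization (R := L Z A s)).universal (G Z A t)
    ((algebraMap (L Z A t) (G Z A t)).comp (Lmap Z h))
    (RingHom.isLocalHom_comp _ _)).exists

/-- the transition maps. -/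
noncomputable def f (s t : Finset A) (h : s ≤ t) : G Z A s →+* G Z A t := (exists_f Z h).choose

theorem f_comp {s t : Finset A} (h : s ≤ t) :
    (f Z s t h).comp (algebraMap (L Z A s) (G Z A s)) = (algebraMap (L Z A t) (G Z A t)).comp (Lmap Z h) :=
  (exists_f Z h).choose_spec

theorem f_algebraMap {s t : Finset A} (h : s ≤ t) (x : L Z A s) :
    f Z s t h (algebraMap (L Z A s) (G Z A s) x) = algebraMap (L Z A t) (G Z A t) (Lmap Z h x) :=
  congrArg (fun g => g x) (f_comp Z h)

theorem f_self (s : Finset A) : f Z s s (le_refl s) = RingHom.id _ := by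
  apply G_hom_ext
  · rw [f_comp, Lmap_self]
    rfl
  · rw [RingHom.id_comp]
    infer_instance

theorem f_f {s t r : Finset A} (h₁ : s ≤ t) (h₂ : t ≤ r) :
    (f Z t r h₂).comp (f Z s t h₁) = f Z s r (h₁.trans h₂) := by
  apply G_hom_ext
  · rw [RingHom.comp_assoc, f_comp, ← RingHom.comp_assoc, f_comp, RingHom.comp_assoc, Lmap_comp,
      f_comp]
  · rw [f_comp]
    exact RingHom.isLocalHom_comp _ _

theorem psi_comp_f {s t : Finset A} (h : s ≤ t) : (psi Z A t).comp (f Z s t h) = psi Z A s := by
  apply G_hom_ext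
  · rw [RingHom.comp_assoc, f_comp, ← RingHom.comp_assoc, psi_comp, toA_comp_Lmap, psi_comp]
  · rw [psi_comp]
    infer_instance

theorem psi_f {s t : Finset A} (h : s ≤ t) (x : G Z A s) : psi Z A t (f Z s t h x) = psi Z A s x :=
  congrArg (fun g => g x) (psi_comp_f Z h)

instance isLocalHom_f {s t : Finset A} (h : s ≤ t) : IsLocalHom (f Z s t h) := by
  refine ⟨fun x hx => ?_⟩
  have h1 : IsUnit (psi Z A t (f Z s t h x)) := hx.map _
  rw [psi_f] at h1
  exact isUnit_of_map_unit (psi Z A s) x h1

instance : DirectedSystem (G Z A) (fun i j h => f Z i j h) where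
  map_self i x := by
    show f Z i i (le_refl i) x = x
    rw [f_self]; rfl
  map_map k j i hij hjk x := by
    show f Z j k hjk (f Z i j hij x) = f Z i k (hij.trans hjk) x
    rw [← f_f Z hij hjk]; rfl

end Groth.Agent.H5.HensColim
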