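import Mathlib
import Groth.Agent.Lib.Helper5.Pop.HensColim2

/-!
# Henselian local rings are directed colimits of henselian local G-rings, III (helper5, S9309)
-/

set_option autoImplicit false
universe u
open IsLocalRing

namespace Groth.Agent.H5.HensColim

open Groth.Agent.H8.Hens

variable (Z : Type u) [CommRing Z] (A : Type u) [CommRing A] [HenselianLocalRing A] [Algebra Z A]

/-- the comparison map, as a function. -/
noncomputable def PsiFun : DirectLimit (G Z A) (fun i j h => f Z i j h) → A :=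
  DirectLimit.lift _ (fun i x => psi Z A i x) (fun i j h x => (psi_f Z h x).symm)

theorem PsiFun_mk (s : Finset A) (x : G Z A s) :
    PsiFun Z A (⟦⟨s, x⟩⟧ : DirectLimit (G Z A) (fun i j h => f Z i j h)) = psi Z A s x := rfl

/-- the comparison map. -/
noncomputable def Psi : DirectLimit (G Z A) (fun i j h => f Z i j h) →+* A where
  toFun := PsiFun Z A
  map_one' := by
    rw [DirectLimit.one_def (∅ : Finset A), PsiFun_mk, map_one]
  map_mul' x y := by
    induction x, y using DirectLimit.induction₂ with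
    | _ i x y => rw [DirectLimit.mul_def, PsiFun_mk, PsiFun_mk, PsiFun_mk, map_mul]
  map_zero' := by
    rw [DirectLimit.zero_def (∅ : Finset A), PsiFun_mk, map_zero]
  map_add' x y := by
    induction x, y using DirectLimit.induction₂ with
    | _ i x y => rw [DirectLimit.add_def, PsiFun_mk, PsiFun_mk, PsiFun_mk, map_add]

theorem Psi_mk (s : Finset A) (x : G Z A s) :
    Psi Z A (⟦⟨s, x⟩⟧ : DirectLimit (G Z A) (fun i j h => f Z i j h)) = psi Z A s x := rfl

theorem Psi_surjective : Function.Surjective (Psi Z A) := by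
  intro a
  have ha : a ∈ Sub Z A {a} := Algebra.subset_adjoin (by simp)
  refine ⟨⟦⟨{a}, algebraMap (L Z A {a}) (G Z A {a}) (algebraMap (Sub Z A {a}) (L Z A {a}) ⟨a, ha⟩)⟩⟧, ?_⟩
  rw [Psi_mk, psi_algebraMap, toA_algebraMap]

/-- maps from finite type algebras over a stage factor through a later stage. -/
theorem exists_factor (s : Finset A) (E : Type u) [CommRing E] [Algebra (Sub Z A s) E]
    [Algebra.FiniteType (Sub Z A s) E] (φ : E →+* A)
    (hφ : ∀ r : Sub Z A s, φ (algebraMap _ E r) = (r : A)) :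
    ∃ (t : Finset A) (h : s ≤ t) (ρ : E →+* Sub Z A t), ∀ e, ((ρ e : Sub Z A t) : A) = φ e := by
  classical
  obtain ⟨n, π, hπ⟩ := Algebra.FiniteType.iff_quotient_mvPolynomial''.mp
    (inferInstance : Algebra.FiniteType (Sub Z A s) E)
  obtain ⟨a, ha⟩ : ∃ a : Fin n → A, ∀ i, a i = φ (π (MvPolynomial.X i)) := ⟨_, fun _ => rfl⟩
  obtain ⟨t, ht⟩ : ∃ t : Finset A, t = s ∪ Finset.univ.image a := ⟨_, rfl⟩
  have h : s ≤ t := by rw [ht]; exact Finset.subset_union_left
  have hat : ∀ i, a i ∈ Sub Z A t := fun i => Algebra.subset_adjoin (by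
    rw [ht]
    exact Finset.mem_coe.mpr (Finset.mem_union_right _ (Finset.mem_image_of_mem a (Finset.mem_univ i))))
  let ρ₀ : MvPolynomial (Fin n) (Sub Z A s) →+* Sub Z A t :=
    MvPolynomial.eval₂Hom (incl Z h) (fun i => ⟨a i, hat i⟩)
  have hρ₀ : (Sub Z A t).val.toRingHom.comp ρ₀ = φ.comp π.toRingHom := by
    apply MvPolynomial.ringHom_ext
    · intro r
      show ((ρ₀ (MvPolynomial.C r) : Sub Z A t) : A) = φ (π (MvPolynomial.C r))
      have h1 : ρ₀ (MvPolynomial.C r) = incl Z h r := MvPolynomial.eval₂Hom_C _ _ _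
      have h2 : π (MvPolynomial.C r) = algebraMap _ E r := by
        rw [← MvPolynomial.algebraMap_eq]; exact π.commutes r
      rw [h1, h2, hφ, coe_incl]
    · intro i
      show ((ρ₀ (MvPolynomial.X i) : Sub Z A t) : A) = φ (π (MvPolynomial.X i))
      have h1 : ρ₀ (MvPolynomial.X i) = ⟨a i, hat i⟩ := MvPolynomial.eval₂Hom_X' _ _ _
      rw [h1, ← ha]
  have hρ₀' : ∀ p, ((ρ₀ p : Sub Z A t) : A) = φ (π p) := fun p =>
    congrArg (fun g => g p) hρ₀
  have hker : RingHom.ker π.toRingHom ≤ RingHom.ker ρ₀ := by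
    intro p hp
    rw [RingHom.mem_ker] at hp ⊢
    apply Subtype.ext
    rw [hρ₀']
    have : π p = 0 := hp
    rw [this, map_zero]
    rfl
  refine ⟨t, h, π.toRingHom.liftOfRightInverse (Function.surjInv hπ)
    (Function.rightInverse_surjInv hπ) ⟨ρ₀, hker⟩, ?_⟩
  intro e
  obtain ⟨p, rfl⟩ := hπ e
  have h1 : π.toRingHom.liftOfRightInverse (Function.surjInv hπ)
      (Function.rightInverse_surjInv hπ) ⟨ρ₀, hker⟩ (π p) = ρ₀ p :=
    RingHom.liftOfRightInverse_comp_apply _ _ _ _ p
  rw [h1, hρ₀']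

set_option maxHeartbeats 1000000 in
/-- the key injectivity statement. -/
theorem exists_f_eq_zero (s : Finset A) (ξ : G Z A s) (hξ : psi Z A s ξ = 0) :
    ∃ (t : Finset A) (h : s ≤ t), f Z s t h ξ = 0 := by
  letI algSG : Algebra (Sub Z A s) (G Z A s) :=
    ((algebraMap (L Z A s) (G Z A s)).comp (algebraMap (Sub Z A s) (L Z A s))).toAlgebra
  haveI : IsScalarTower (Sub Z A s) (L Z A s) (G Z A s) :=
    IsScalarTower.of_algebraMap_eq (fun _ => rfl)
  have hcrit := crit_henselization_atPrime (Sub Z A s) (P Z A s) (G Z A s)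
  obtain ⟨E, _, _, hEt, γ, e, he⟩ := hcrit.lift ξ
  have hγ : ∀ r : Sub Z A s, γ (algebraMap _ E r) =
      algebraMap (L Z A s) (G Z A s) (algebraMap (Sub Z A s) (L Z A s) r) := fun r => γ.commutes r
  have hφ : ∀ r : Sub Z A s, ((psi Z A s).comp γ.toRingHom) (algebraMap _ E r) = (r : A) := by
    intro r
    show psi Z A s (γ (algebraMap _ E r)) = r
    rw [hγ, psi_algebraMap, toA_algebraMap]
  obtain ⟨t, h, ρ, hρ⟩ := exists_factor Z A s E ((psi Z A s).comp γ.toRingHom) hφ
  have hρ' : ∀ x : E, ((ρ x : Sub Z A t) : A) = psi Z A s (γ x) := hρ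
  letI algSGt : Algebra (Sub Z A s) (G Z A t) :=
    ((algebraMap (L Z A t) (G Z A t)).comp
      ((algebraMap (Sub Z A t) (L Z A t)).comp (incl Z h))).toAlgebra
  have halg : ∀ r : Sub Z A s, algebraMap (Sub Z A s) (G Z A t) r =
      algebraMap (L Z A t) (G Z A t) (algebraMap (Sub Z A t) (L Z A t) (incl Z h r)) :=
    fun _ => rfl
  let α : E →ₐ[Sub Z A s] G Z A t :=
    { (f Z s t h).comp γ.toRingHom with
      commutes' := fun r => by
        show f Z s t h (γ (algebraMap _ E r)) = _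
        rw [hγ, f_algebraMap, Lmap_algebraMap, halg] }
  let β : E →ₐ[Sub Z A s] G Z A t :=
    { (algebraMap (L Z A t) (G Z A t)).comp ((algebraMap (Sub Z A t) (L Z A t)).comp ρ) with
      commutes' := fun r => by
        show algebraMap (L Z A t) (G Z A t) (algebraMap (Sub Z A t) (L Z A t)
          (ρ (algebraMap _ E r))) = _
        have h1 : ρ (algebraMap _ E r) = incl Z h r := by
          apply Subtype.ext
          rw [hρ', hγ, psi_algebraMap, toA_algebraMap, coe_incl]
        rw [h1, halg] }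
  have hα : ∀ x, α x = f Z s t h (γ x) := fun _ => rfl
  have hβ : ∀ x, β x = algebraMap (L Z A t) (G Z A t) (algebraMap (Sub Z A t) (L Z A t) (ρ x)) :=
    fun _ => rfl
  have hI : RingHom.ker (psi Z A t) ≠ ⊤ := RingHom.ker_ne_top _
  have hinj := (bijective_comp_mk_of_local (A := Sub Z A s) E (G Z A t)
    (RingHom.ker (psi Z A t)) hI).1
  have hαβ : α = β := by
    apply hinj
    apply AlgHom.ext
    intro x
    show Ideal.Quotient.mk _ (α x) = Ideal.Quotient.mk _ (β x)
    rw [Ideal.Quotient.eq, RingHom.mem_ker, map_sub, sub_eq_zero, hα, hβ, psi_f, psi_algebraMap,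
      toA_algebraMap, hρ']
  refine ⟨t, h, ?_⟩
  have h1 : f Z s t h ξ = α e := by rw [hα, he]
  have h2 : ρ e = 0 := by
    apply Subtype.ext
    rw [hρ', he, hξ]
    rfl
  rw [h1, hαβ, hβ, h2, map_zero, map_zero]

theorem Psi_injective : Function.Injective (Psi Z A) := by
  rw [injective_iff_map_eq_zero]
  intro z hz
  induction z using DirectLimit.induction with
  | _ s ξ =>
    rw [Psi_mk] at hz
    obtain ⟨t, h, ht⟩ := exists_f_eq_zero Z A s ξ hz
    rw [DirectLimit.eq_of_le ⟨s, ξ⟩ t h]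
    show (⟦⟨t, f Z s t h ξ⟩⟧ : DirectLimit (G Z A) (fun i j h => f Z i j h)) = 0
    rw [ht, DirectLimit.zero_def t]

/-- the comparison isomorphism. -/
noncomputable def PsiEquiv : A ≃+* DirectLimit (G Z A) (fun i j h => f Z i j h) :=
  (RingEquiv.ofBijective (Psi Z A) ⟨Psi_injective Z A, Psi_surjective Z A⟩).symm

end Groth.Agent.H5.HensColim
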