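import Mathlib
import Groth.Agent.Lib.Helper5.Pop.HensColim3

/-!
# Henselian local rings are directed colimits of henselian local G-rings, IV (helper5, S9309)
-/

set_option autoImplicit false
universe u
open IsLocalRing

namespace Groth.Agent.H5.HensColim

open Groth.Agent.H8.Hens

theorem isGRing_G (Z : Type u) [CommRing Z] (A : Type u) [CommRing A] [HenselianLocalRing A]
    [Algebra Z A] (hZ : CAlg.IsGRing Z) (s : Finset A) : CAlg.IsGRing (G Z A s) := by
  haveI : Algebra.EssFiniteType (Sub Z A s) (L Z A s) :=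
    Algebra.EssFiniteType.of_isLocalization _ (P Z A s).primeCompl
  haveI : Algebra.EssFiniteType Z (L Z A s) := Algebra.EssFiniteType.comp Z (Sub Z A s) (L Z A s)
  have h1 : CAlg.IsGRing (L Z A s) := Groth.Agent.H5.GRC.isGRing_of_essFiniteType Z hZ (L Z A s)
  exact isGRing_of_isHenselization (L Z A s) h1 (G Z A s)

/-- S9309. -/
theorem main (A : Type u) [CommRing A] [HenselianLocalRing A] :
    ∃ (ι : Type u) (_ : Preorder ι) (_ : IsDirectedOrder ι) (_ : Nonempty ι) (G : ι → Type u)
      (_ : ∀ i, CommRing (G i)) (f : ∀ i j : ι, i ≤ j → (G i →+* G j))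
      (_ : DirectedSystem G (fun i j h => f i j h)),
      (∀ i, HenselianLocalRing (G i) ∧ CAlg.IsGRing (G i)) ∧
      (∀ (i j : ι) (h : i ≤ j), IsLocalHom (f i j h)) ∧
      Nonempty (A ≃+* DirectLimit G f) := by
  letI : Algebra (ULift.{u} ℤ) A := ULift.algebra' ℤ A
  exact ⟨Finset A, inferInstance, inferInstance, inferInstance, HensColim.G (ULift.{u} ℤ) A,
    inferInstance, HensColim.f (ULift.{u} ℤ), inferInstance,
    fun i => ⟨inferInstance, isGRing_G _ _ isGRing_ulift_int i⟩,
    fun i j h => inferInstance, ⟨PsiEquiv _ _⟩⟩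

end Groth.Agent.H5.HensColim
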