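import Mathlib
import Groth.Prelude.Def_Hensel
import Groth.Agent.Lib.Helper5.Lim.FGSub2
import Groth.Agent.Lib.Helper8.Hens.Noeth

/-!
# Descent of finitely presented schemes over a henselian local ring to a Noetherian henselian
local ring (helper5)
-/

set_option autoImplicit false
universe u
open AlgebraicGeometry CategoryTheory CategoryTheory.Limits IsLocalRing

namespace Groth.Agent.H5.Pop.HensDesc

open Groth.Agent.H5.Lim Groth.Agent.H8.Hens

/-- Existence of models over f.g. `ℤ`-subalgebras. -/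
theorem exists_model_fgz' {A : Type u} [CommRing A]
    {X : Scheme.{u}} (f : X ⟶ Spec (CommRingCat.of A)) [LocallyOfFinitePresentation f]
    [QuasiCompact f] [QuasiSeparated f] :
    ∃ A₀ : Subalgebra ℤ A, A₀.FG ∧
      ∃ (X₀ : Scheme.{u}) (f₀ : X₀ ⟶ Spec (CommRingCat.of ↥A₀)) (g : X ⟶ X₀),
        LocallyOfFinitePresentation f₀ ∧ QuasiCompact f₀ ∧ QuasiSeparated f₀ ∧
          IsPullback g f f₀ (Spec.map (CommRingCat.ofHom (algebraMap (↥A₀) A))) := by
  let f' : X ⟶ (fgzCone A).pt := f
  haveI : LocallyOfFinitePresentation f' := ‹LocallyOfFinitePresentation f›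
  haveI : QuasiCompact f' := ‹QuasiCompact f›
  haveI : QuasiSeparated f' := ‹QuasiSeparated f›
  obtain ⟨k, ⟨M⟩⟩ := exists_model (fgzDiagram A) (fgzCone A) (isLimitFgzCone A) f'
  exact ⟨k.unop.1, k.unop.2, M.Y, M.p, M.g, M.lfp, M.qc, M.qs, M.pb⟩

/-- A henselian local ring receives a local map from a Noetherian henselian local ring through which
a given finitely generated subring factors. -/
theorem exists_noeth_hens (A : Type u) [CommRing A] [HenselianLocalRing A] (A₁ : Subalgebra ℤ A)
    (hfg : A₁.FG) :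
    ∃ (A₀ : Type u) (_ : CommRing A₀) (_ : HenselianLocalRing A₀) (_ : IsNoetherianRing A₀)
      (ψ : A₁ →+* A₀) (φ : A₀ →+* A), IsLocalHom φ ∧ φ.comp ψ = algebraMap A₁ A := by
  haveI : Algebra.FiniteType ℤ A₁ := (Subalgebra.fg_iff_finiteType A₁).mp hfg
  haveI : IsNoetherianRing A₁ := Algebra.FiniteType.isNoetherianRing ℤ A₁
  obtain ⟨p, hp⟩ : ∃ p : Ideal A₁, p = (maximalIdeal A).comap (algebraMap A₁ A) := ⟨_, rfl⟩
  haveI : p.IsPrime := by rw [hp]; exact Ideal.comap_isPrime _ _
  have hmemp : ∀ a : A₁, a ∈ p ↔ algebraMap A₁ A a ∈ maximalIdeal A := fun a => by rw [hp]; rfl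
  have hunit : ∀ y : p.primeCompl, IsUnit (algebraMap A₁ A y) := fun y => by
    by_contra h
    exact y.2 ((hmemp _).mpr ((IsLocalRing.mem_maximalIdeal _).mpr h))
  obtain ⟨l₁, hl₁⟩ : ∃ l₁ : Localization.AtPrime p →+* A,
      l₁ = IsLocalization.lift (M := p.primeCompl) hunit := ⟨_, rfl⟩
  have hl₁c : l₁.comp (algebraMap A₁ (Localization.AtPrime p)) = algebraMap A₁ A := by
    rw [hl₁]; exact IsLocalization.lift_comp hunit
  have hl₁loc : IsLocalHom l₁ := by
    constructor
    intro x hx
    obtain ⟨a, s, rfl⟩ := IsLocalization.exists_mk'_eq p.primeCompl x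
    have h1 : algebraMap A₁ A a = algebraMap A₁ A s * l₁ (IsLocalization.mk' _ a s) := by
      rw [hl₁]
      exact (IsLocalization.lift_mk'_spec _ _ _ _).mp rfl
    have h2 : IsUnit (algebraMap A₁ A a) := by rw [h1]; exact (hunit s).mul hx
    rw [IsLocalization.AtPrime.isUnit_mk'_iff (Localization.AtPrime p) p]
    intro ha
    exact (IsLocalRing.mem_maximalIdeal _).mp ((hmemp a).mp ha) h2
  haveI : IsNoetherianRing (Localization.AtPrime p) :=
    IsLocalization.isNoetherianRing p.primeCompl _ inferInstance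
  haveI := isHenselization (R := Localization.AtPrime p)
  haveI : IsNoetherianRing (Henselization (Localization.AtPrime p)) :=
    (isNoetherianRing_iff_of_isHenselization (R := Localization.AtPrime p)
      (Henselization (Localization.AtPrime p))).mp inferInstance
  obtain ⟨φ, hφ, -⟩ := (isHenselization (R := Localization.AtPrime p)).universal A l₁ hl₁loc
  have hφ' : φ.comp (algebraMap (Localization.AtPrime p) (Henselization (Localization.AtPrime p))) =
      l₁ := hφ
  have hφloc : IsLocalHom φ := by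
    refine ((local_hom_TFAE φ).out 0 2).mpr ?_
    rw [← map_maximalIdeal_of_isHenselization (R := Localization.AtPrime p)
        (Henselization (Localization.AtPrime p)), Ideal.map_map, hφ']
    exact ((local_hom_TFAE l₁).out 0 2).mp hl₁loc
  refine ⟨Henselization (Localization.AtPrime p), inferInstance, inferInstance, inferInstance,
    (algebraMap (Localization.AtPrime p) (Henselization (Localization.AtPrime p))).comp
      (algebraMap A₁ (Localization.AtPrime p)), φ, hφloc, ?_⟩
  rw [← RingHom.comp_assoc, hφ', hl₁c]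

theorem main (A : Type u) [CommRing A] [HenselianLocalRing A]
    {X : Scheme.{u}} (f : X ⟶ Spec (CommRingCat.of A)) [LocallyOfFinitePresentation f]
    [QuasiCompact f] [QuasiSeparated f] :
    ∃ (A₀ : Type u) (_ : CommRing A₀) (_ : HenselianLocalRing A₀) (_ : IsNoetherianRing A₀)
      (φ : A₀ →+* A) (_ : IsLocalHom φ)
      (X₀ : Scheme.{u}) (f₀ : X₀ ⟶ Spec (CommRingCat.of A₀)) (g : X ⟶ X₀),
      LocallyOfFiniteType f₀ ∧ QuasiCompact f₀ ∧
        IsPullback g f f₀ (Spec.map (CommRingCat.ofHom φ)) := by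
  obtain ⟨A₁, hfg, X₁, f₁, g₁, hlfp, hqc, hqs, hpb⟩ := exists_model_fgz' f
  obtain ⟨A₀, _, _, _, ψ, φ, hφloc, hφψ⟩ := exists_noeth_hens A A₁ hfg
  have hcomp : Spec.map (CommRingCat.ofHom φ) ≫ Spec.map (CommRingCat.ofHom ψ) =
      Spec.map (CommRingCat.ofHom (algebraMap (↥A₁) A)) := by
    rw [← Spec.map_comp, ← CommRingCat.ofHom_comp, hφψ]
  have hw : g₁ ≫ f₁ = (f ≫ Spec.map (CommRingCat.ofHom φ)) ≫ Spec.map (CommRingCat.ofHom ψ) := by
    rw [Category.assoc, hcomp]; exact hpb.w
  refine ⟨A₀, inferInstance, inferInstance, inferInstance, φ, hφloc,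
    pullback f₁ (Spec.map (CommRingCat.ofHom ψ)), pullback.snd _ _,
    pullback.lift g₁ (f ≫ Spec.map (CommRingCat.ofHom φ)) hw, inferInstance, inferInstance, ?_⟩
  refine IsPullback.of_right ?_ (pullback.lift_snd _ _ _) (IsPullback.of_hasPullback f₁ _)
  rw [pullback.lift_fst, hcomp]
  exact hpb

end Groth.Agent.H5.Pop.HensDesc
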