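import Mathlib
import Groth.Prelude.Def_Found
import Groth.Prelude.Def_Hens2
import Groth.Agent.Lib.Helper5.Pop.Approx
import Groth.Agent.Lib.Helper5.Pop.GRingAdic
import Groth.Agent.Lib.Helper5.Pop.CplCompare
import Groth.Agent.Lib.Helper8.PairHens.Factor
import Groth.Agent.Lib.Helper8.PairHens.NoethPair
import Groth.Agent.S9276
import Groth.Agent.S0599

/-!
# Artin approximation in étale neighbourhoods of a closed subset `V(I)` (helper5)
-/

set_option autoImplicit false
universe u
open TensorProduct

namespace Groth.Agent.H5.Pop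

open Groth.Agent.H8.PairHens Groth.Agent.H1.ComplQuot

/-- **Artin approximation** for algebras of finite presentation over a base ring `A` mapping to a
Noetherian henselian pair `(R, I)` with regular completion map. -/
theorem artin_approx_base {A R : Type u} [CommRing A] [CommRing R] [Algebra A R]
    [IsNoetherianRing R] (I : Ideal R) [HenselianRing R I]
    (hreg : CAlg.IsRegularHom R (AdicCompletion I R))
    (B : Type u) [CommRing B] [Algebra A B] [Algebra.FinitePresentation A B]
    (f : B →ₐ[A] AdicCompletion I R) (N : ℕ) :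
    ∃ g : B →ₐ[A] R, ∀ b, f b - algebraMap R (AdicCompletion I R) (g b) ∈
      (I ^ N).map (algebraMap R (AdicCompletion I R)) := by
  haveI : IsScalarTower A R (AdicCompletion I R) := IsScalarTower.of_algebraMap_eq fun _ => rfl
  let f' : R ⊗[A] B →ₐ[R] AdicCompletion I R :=
    Algebra.TensorProduct.lift (Algebra.ofId R (AdicCompletion I R)) f (fun _ _ => Commute.all _ _)
  obtain ⟨τ, hτ⟩ := artin_approx I hreg f' N
  refine ⟨(τ.restrictScalars A).comp Algebra.TensorProduct.includeRight, fun b => ?_⟩
  have h1 := hτ (1 ⊗ₜ b)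
  have h2 : f' (1 ⊗ₜ b) = f b := by
    show Algebra.TensorProduct.lift _ _ _ _ = _
    rw [Algebra.TensorProduct.lift_tmul, map_one, one_mul]
  rw [h2] at h1
  exact h1

section Pair

variable {C : Type u} [CommRing C] (J : Ideal C) {Ch : Type u} [CommRing Ch] [Algebra C Ch]

/-- The comparison map of completions for a henselization of a pair. -/
noncomputable def cplPair : AdicCompletion J C →+* AdicCompletion (J.map (algebraMap C Ch)) Ch :=
  compMap (algebraMap C Ch) J (J.map (algebraMap C Ch)) rfl

variable {J}

theorem cplPair_bijective (hB : Hens2.IsPairHenselization C J Ch) :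
    Function.Bijective (cplPair J (Ch := Ch)) := by
  have hinj : ∀ (n : ℕ) (a : C), algebraMap C Ch a ∈ (J.map (algebraMap C Ch)) ^ n → a ∈ J ^ n := by
    intro n a ha
    rw [← Ideal.map_pow] at ha
    exact mem_pow_of_algebraMap_mem hB n a ha
  have hsurj : ∀ (n : ℕ) (b : Ch), ∃ a : C, b - algebraMap C Ch a ∈ (J.map (algebraMap C Ch)) ^ n := by
    intro n b
    obtain ⟨a, ha⟩ := exists_sub_mem_pow (exists_sub_mem_of_isPairHenselization hB) n b
    exact ⟨a, by rw [← Ideal.map_pow]; exact ha⟩
  exact ⟨compMap_injective_of _ _ _ _ hinj, compMap_surjective_of _ _ _ _ hinj hsurj⟩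

theorem cplPair_of (c : C) : cplPair J (Ch := Ch) (algebraMap C (AdicCompletion J C) c) =
    algebraMap Ch _ (algebraMap C Ch c) := compMap_of _ _ _ _ c

/-- `evalₐ` detects congruences after passing to the henselization. -/
theorem evalₐ_eq_zero_of_cplPair_mem (hB : Hens2.IsPairHenselization C J Ch) (N : ℕ)
    (x : AdicCompletion J C)
    (hx : cplPair J (Ch := Ch) x ∈ ((J.map (algebraMap C Ch)) ^ N).map
      (algebraMap Ch (AdicCompletion (J.map (algebraMap C Ch)) Ch))) :
    AdicCompletion.evalₐ J N x = 0 := by
  have h1 : AdicCompletion.evalₐ (J.map (algebraMap C Ch)) N (cplPair J (Ch := Ch) x) = 0 := by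
    have hle : ((J.map (algebraMap C Ch)) ^ N).map
        (algebraMap Ch (AdicCompletion (J.map (algebraMap C Ch)) Ch)) ≤
        RingHom.ker (AdicCompletion.evalₐ (J.map (algebraMap C Ch)) N).toRingHom := by
      rw [Ideal.map_le_iff_le_comap]
      intro a ha
      show AdicCompletion.evalₐ (J.map (algebraMap C Ch)) N (algebraMap Ch _ a) = 0
      rw [AlgHom.commutes]
      exact Ideal.Quotient.eq_zero_iff_mem.mpr ha
    exact hle hx
  rw [cplPair, evalₐ_compMap] at h1
  induction x using AdicCompletion.induction_on with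
  | h s =>
    rw [level_mk] at h1
    rw [AdicCompletion.evalₐ_mk, Ideal.Quotient.eq_zero_iff_mem]
    have h2 := Ideal.Quotient.eq_zero_iff_mem.mp h1
    rw [← Ideal.map_pow] at h2
    exact mem_pow_of_algebraMap_mem hB N _ h2

end Pair

/-- **Artin approximation in étale neighbourhoods of `V(I)`** (core of S8823). -/
theorem approx_pair_etale (A : Type u) [CommRing A] (hA : CAlg.IsGRing A) (I : Ideal A)
    (B C : Type u) [CommRing B] [Algebra A B] [Algebra.FiniteType A B] [CommRing C] [Algebra A C]
    [Algebra.FiniteType A C]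
    (f₀ : B →ₐ[A] AdicCompletion (I.map (algebraMap A C)) C) (N : ℕ) :
    ∃ (C' : Type u) (_ : CommRing C') (_ : Algebra C C') (_ : Algebra.Etale C C'),
      IsoMod (I.map (algebraMap A C)) C' ∧
      ∃ ψ : B →+* C', (∀ a : A, ψ (algebraMap A B a) = algebraMap C C' (algebraMap A C a)) ∧
        ∀ (b : B) (c : C), ψ b - algebraMap C C' c ∈
            ((I.map (algebraMap A C)).map (algebraMap C C')) ^ N →
          AdicCompletion.evalₐ (I.map (algebraMap A C)) N (f₀ b) = Ideal.Quotient.mk _ c := by
  haveI : IsNoetherianRing A := hA.1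
  have hC : CAlg.IsGRing C := Groth.Agent.S0599.result A hA C
  haveI : IsNoetherianRing C := hC.1
  have hCh : Hens2.IsPairHenselization C (I.map (algebraMap A C)) (Hp C (I.map (algebraMap A C))) :=
    isPairHenselization C _
  obtain ⟨hN, -, -⟩ := NoethPair.main C (I.map (algebraMap A C)) _ hCh
  haveI := hN
  have hGh : CAlg.IsGRing (Hp C (I.map (algebraMap A C))) :=
    Groth.Agent.S9276.result C hC _ _ hCh
  haveI : HenselianRing (Hp C (I.map (algebraMap A C)))
    ((I.map (algebraMap A C)).map (algebraMap C (Hp C (I.map (algebraMap A C))))) := hCh.1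
  have hreg := isRegularHom_adicCompletion_of_isGRing _ hGh
    ((I.map (algebraMap A C)).map (algebraMap C (Hp C (I.map (algebraMap A C)))))
  letI : Algebra A (Hp C (I.map (algebraMap A C))) :=
    ((algebraMap C (Hp C (I.map (algebraMap A C)))).comp (algebraMap A C)).toAlgebra
  haveI : IsScalarTower A C (Hp C (I.map (algebraMap A C))) :=
    IsScalarTower.of_algebraMap_eq fun _ => rfl
  haveI : Algebra.FinitePresentation A B := Algebra.FinitePresentation.of_finiteType.mp inferInstance
  let f : B →ₐ[A] AdicCompletion ((I.map (algebraMap A C)).map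
      (algebraMap C (Hp C (I.map (algebraMap A C))))) (Hp C (I.map (algebraMap A C))) :=
    { (cplPair (I.map (algebraMap A C)) (Ch := Hp C (I.map (algebraMap A C)))).comp f₀.toRingHom with
      commutes' := fun a => by
        show cplPair _ (f₀ (algebraMap A B a)) = _
        rw [f₀.commutes]
        exact cplPair_of (algebraMap A C a) }
  obtain ⟨g, hg⟩ := artin_approx_base _ hreg B f N
  let φP : C ⊗[A] B →ₐ[C] Hp C (I.map (algebraMap A C)) :=
    Algebra.TensorProduct.lift (Algebra.ofId C _) g (fun _ _ => Commute.all _ _)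
  obtain ⟨C', _, _, hEt, hiso, ψP, ι, hι⟩ := exists_isoMod_factor hCh (C ⊗[A] B) φP
  have hιψ : ∀ b : B, ι (ψP (1 ⊗ₜ b)) = g b := by
    intro b
    have := DFunLike.congr_fun hι (1 ⊗ₜ b)
    rw [AlgHom.comp_apply] at this
    rw [this]
    show Algebra.TensorProduct.lift _ _ _ _ = _
    rw [Algebra.TensorProduct.lift_tmul, map_one, one_mul]
  refine ⟨C', inferInstance, inferInstance, hEt, hiso,
    ψP.toRingHom.comp (Algebra.TensorProduct.includeRight : B →ₐ[A] C ⊗[A] B).toRingHom, ?_, ?_⟩
  · intro a
    show ψP ((Algebra.TensorProduct.includeRight : B →ₐ[A] C ⊗[A] B) (algebraMap A B a)) = _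
    rw [AlgHom.commutes, IsScalarTower.algebraMap_apply A C (C ⊗[A] B), AlgHom.commutes]
  · intro b c hbc
    have hbc' : ψP (1 ⊗ₜ b) - algebraMap C C' c ∈
        ((I.map (algebraMap A C)).map (algebraMap C C')) ^ N := hbc
    have h3 : g b - algebraMap C (Hp C (I.map (algebraMap A C))) c ∈
        ((I.map (algebraMap A C)).map (algebraMap C (Hp C (I.map (algebraMap A C))))) ^ N := by
      rw [← hιψ, ← ι.commutes c, ← map_sub]
      have hle : (((I.map (algebraMap A C)).map (algebraMap C C')) ^ N).map ι.toRingHom ≤
          ((I.map (algebraMap A C)).map (algebraMap C (Hp C (I.map (algebraMap A C))))) ^ N := by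
        rw [Ideal.map_pow, Ideal.map_map]
        have : ι.toRingHom.comp (algebraMap C C') = algebraMap C (Hp C (I.map (algebraMap A C))) :=
          RingHom.ext fun x => ι.commutes x
        rw [this]
      exact hle (Ideal.mem_map_of_mem _ hbc')
    have key : cplPair (I.map (algebraMap A C)) (Ch := Hp C (I.map (algebraMap A C)))
        (f₀ b - algebraMap C _ c) ∈
        (((I.map (algebraMap A C)).map (algebraMap C (Hp C (I.map (algebraMap A C))))) ^ N).map
          (algebraMap (Hp C (I.map (algebraMap A C))) _) := by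
      rw [map_sub, cplPair_of]
      have e1 : cplPair (I.map (algebraMap A C)) (Ch := Hp C (I.map (algebraMap A C))) (f₀ b) -
          algebraMap (Hp C (I.map (algebraMap A C))) _ (algebraMap C _ c) =
          (f b - algebraMap (Hp C (I.map (algebraMap A C))) _ (g b)) +
            algebraMap (Hp C (I.map (algebraMap A C))) _
              (g b - algebraMap C (Hp C (I.map (algebraMap A C))) c) := by
        rw [map_sub]
        show _ = (cplPair _ (f₀ b) - _) + _
        ring
      rw [e1]
      exact Ideal.add_mem _ (hg b) (Ideal.mem_map_of_mem _ h3)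
    have h5 := evalₐ_eq_zero_of_cplPair_mem hCh N _ key
    rw [map_sub, AlgHom.commutes, sub_eq_zero] at h5
    exact h5

end Groth.Agent.H5.Pop
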