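import Mathlib
import Groth.Agent.Lib.Helper5.CA.FinCL

/-!
# Rig-closed quotients are complete local domains of dimension one (helper5)

Let `R` be a Noetherian domain, complete for the adic topology of a nonzero ideal `J` such that
every nonzero prime of `R` contains `J`. Then `R` is a local ring, and complete for its
maximal ideal.
-/

set_option autoImplicit false

open Polynomial

namespace Groth.Agent.H5.Pop

universe u

section

variable {R : Type u} [CommRing R] [IsDomain R] [IsNoetherianRing R]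

/-- if all nonzero primes contain a fixed nonzero element `f`, they are all minimal over `(f)`. -/
theorem mem_minimalPrimes_of_forall_mem (f : R) (hf : f ≠ 0)
    (hprime : ∀ Q : Ideal R, Q.IsPrime → Q ≠ ⊥ → f ∈ Q) (Q : Ideal R) [hQ : Q.IsPrime]
    (hQ0 : Q ≠ ⊥) : Q ∈ (Ideal.span {f}).minimalPrimes := by
  classical
  by_contra hQM
  have hfin : (Ideal.span {f}).minimalPrimes.Finite :=
    Ideal.finite_minimalPrimes_of_isNoetherianRing R _
  have hfQ : Ideal.span {f} ≤ Q := by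
    rw [Ideal.span_singleton_le_iff_mem]; exact hprime Q hQ hQ0
  -- a minimal prime below `Q`
  obtain ⟨P₀, hP₀, hP₀Q⟩ := Ideal.exists_minimalPrimes_le hfQ
  -- prime avoidance
  have hnot : ¬ ((Q : Set R) ⊆ ⋃ i ∈ (↑hfin.toFinset : Set (Ideal R)), (i : Set R)) := by
    rw [Ideal.subset_union_prime (f := fun i : Ideal R => i) P₀ P₀
      (fun i hi _ _ => (Ideal.IsMinimalPrime.isPrime ((Set.Finite.mem_toFinset hfin).mp hi)))]
    rintro ⟨P, hP, hQP⟩
    have hPM : P ∈ (Ideal.span {f}).minimalPrimes := (Set.Finite.mem_toFinset hfin).mp hP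
    have : P ≤ Q := hPM.2 ⟨hQ, hfQ⟩ hQP
    exact hQM (le_antisymm hQP this ▸ hPM)
  rw [Set.not_subset] at hnot
  obtain ⟨g, hgQ, hg⟩ := hnot
  have hgM : ∀ P ∈ (Ideal.span {f}).minimalPrimes, g ∉ P := by
    intro P hP hgP
    apply hg
    simp only [Set.mem_iUnion]
    exact ⟨P, by simpa using hP, hgP⟩
  have hg0 : g ≠ 0 := by
    rintro rfl
    exact hgM P₀ hP₀ (zero_mem _)
  have hgQ' : Ideal.span {g} ≤ Q := by
    rw [Ideal.span_singleton_le_iff_mem]; exact hgQ
  obtain ⟨Q'', hQ'', hQ''Q⟩ := Ideal.exists_minimalPrimes_le hgQ'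
  have hQ''prime : Q''.IsPrime := hQ''.1.1
  have hgQ'' : g ∈ Q'' := hQ''.1.2 (Ideal.mem_span_singleton_self g)
  have hQ''0 : Q'' ≠ ⊥ := by
    rintro rfl
    exact hg0 (by simpa using hgQ'')
  have hht : Q''.height ≤ 1 :=
    Ideal.height_le_one_of_isPrincipal_of_mem_minimalPrimes (Ideal.span {g}) Q'' hQ''
  have hfQ'' : Ideal.span {f} ≤ Q'' := by
    rw [Ideal.span_singleton_le_iff_mem]; exact hprime Q'' hQ''prime hQ''0
  obtain ⟨P, hP, hPQ''⟩ := Ideal.exists_minimalPrimes_le hfQ''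
  have hPprime : P.IsPrime := hP.1.1
  have hP0 : P ≠ ⊥ := by
    rintro rfl
    exact hf (by simpa using hP.1.2 (Ideal.mem_span_singleton_self f))
  have hbot : (⊥ : Ideal R).IsPrime := Ideal.isPrime_bot
  rcases eq_or_lt_of_le hPQ'' with h | h
  · exact hgM P hP (h ▸ hgQ'')
  · have h1 : (⊥ : Ideal R).height < P.height :=
      Ideal.height_strict_mono_of_isPrime_of_isPrime (bot_lt_iff_ne_bot.mpr hP0)
    have h2 : P.height < Q''.height := Ideal.height_strict_mono_of_isPrime_of_isPrime h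
    have h3 : P.height < 1 := lt_of_lt_of_le h2 hht
    have h4 : P.height = 0 := by
      rwa [Order.lt_one_iff] at h3
    rw [h4] at h1
    exact not_lt_bot h1

/-- under the same hypothesis, every nonzero prime is maximal. -/
theorem isMaximal_of_forall_mem (f : R) (hf : f ≠ 0)
    (hprime : ∀ Q : Ideal R, Q.IsPrime → Q ≠ ⊥ → f ∈ Q) (Q : Ideal R) [hQ : Q.IsPrime]
    (hQ0 : Q ≠ ⊥) : Q.IsMaximal := by
  obtain ⟨m, hm, hQm⟩ := Ideal.exists_le_maximal Q hQ.ne_top
  have hm0 : m ≠ ⊥ := fun h => hQ0 (le_bot_iff.mp (h ▸ hQm))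
  have hmprime : m.IsPrime := hm.isPrime
  have h1 := mem_minimalPrimes_of_forall_mem f hf hprime m hm0
  have hfQ : Ideal.span {f} ≤ Q := by
    rw [Ideal.span_singleton_le_iff_mem]; exact hprime Q hQ hQ0
  have : m ≤ Q := h1.2 ⟨hQ, hfQ⟩ hQm
  exact le_antisymm hQm this ▸ hm

end

section

variable {R : Type u} [CommRing R] [IsDomain R]

/-- in a domain complete for `J`, an element which is idempotent modulo `J` is congruent to
`0` or `1`. -/
theorem mem_or_one_sub_mem_of_isAdicComplete (J : Ideal R) [IsAdicComplete J R] (e₀ : R)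
    (he₀ : e₀ * (1 - e₀) ∈ J) : e₀ ∈ J ∨ 1 - e₀ ∈ J := by
  have hmon : (X ^ 2 - X : R[X]).Monic := by
    apply Polynomial.monic_X_pow_sub
    simp
  have hev : (X ^ 2 - X : R[X]).eval e₀ = - (e₀ * (1 - e₀)) := by
    simp; ring
  have hder : (X ^ 2 - X : R[X]).derivative.eval e₀ = 2 * e₀ - 1 := by
    simp; norm_num
  obtain ⟨e, he, hee₀⟩ := HenselianRing.is_henselian (R := R) (I := J) (X ^ 2 - X : R[X]) hmon e₀
    (by rw [hev]; exact J.neg_mem he₀)
    (by
      rw [hder]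
      refine IsUnit.of_mul_eq_one (Ideal.Quotient.mk J (2 * e₀ - 1)) ?_
      rw [← map_mul, ← map_one (Ideal.Quotient.mk J), Ideal.Quotient.mk_eq_mk_iff_sub_mem]
      have : (2 * e₀ - 1) * (2 * e₀ - 1) - 1 = - (4 * (e₀ * (1 - e₀))) := by ring
      rw [this]
      exact J.neg_mem (J.mul_mem_left _ he₀))
  have hroot : e * (e - 1) = 0 := by
    have := he
    simp only [IsRoot.def, eval_sub, eval_pow, eval_X] at this
    rw [← this]; ring
  rcases mul_eq_zero.mp hroot with h | h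
  · left
    rw [h, zero_sub] at hee₀
    simpa using J.neg_mem hee₀
  · right
    have : e = 1 := by linear_combination h
    rwa [this] at hee₀

end

section

variable {R : Type u} [CommRing R] [IsDomain R] [IsNoetherianRing R]

/-- **Structure of rig-closed quotients**: a Noetherian domain complete for a nonzero ideal `J`
contained in every nonzero prime is a local ring. -/
theorem isLocalRing_of_forall_le (J : Ideal R) (hJ0 : J ≠ ⊥) [IsAdicComplete J R]
    (hprime : ∀ Q : Ideal R, Q.IsPrime → Q ≠ ⊥ → J ≤ Q) : IsLocalRing R := by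
  classical
  have hJtop : J ≠ ⊤ := by
    rintro rfl
    have : Subsingleton R := IsAdicComplete.subsingleton (R := R) (M := R) ‹_›
    exact not_subsingleton R this
  obtain ⟨f, hfJ, hf⟩ := Submodule.exists_mem_ne_zero_of_ne_bot hJ0
  have hprime' : ∀ Q : Ideal R, Q.IsPrime → Q ≠ ⊥ → f ∈ Q := fun Q hQ hQ0 => hprime Q hQ hQ0 hfJ
  have hfin : (Ideal.span {f}).minimalPrimes.Finite :=
    Ideal.finite_minimalPrimes_of_isNoetherianRing R _
  -- maximal ideals are nonzero
  have hmax0 : ∀ m : Ideal R, m.IsMaximal → m ≠ ⊥ := by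
    rintro m hm rfl
    obtain ⟨m', hm', hJm'⟩ := Ideal.exists_le_maximal J hJtop
    have : m' = ⊥ := (hm.eq_of_le hm'.ne_top bot_le).symm
    exact hJ0 (le_bot_iff.mp (this ▸ hJm'))
  obtain ⟨m₁, hm₁⟩ := Ideal.exists_maximal R
  refine IsLocalRing.of_unique_max_ideal ⟨m₁, hm₁, fun m₂ hm₂ => ?_⟩
  by_contra hne
  -- the other minimal primes
  set s : Finset (Ideal R) := hfin.toFinset.erase m₁ with hs
  have hcop : m₁ ⊔ ⨅ P ∈ s, P = ⊤ := by
    refine Ideal.sup_iInf_eq_top fun P hP => ?_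
    have hP' : P ∈ (Ideal.span {f}).minimalPrimes :=
      (Set.Finite.mem_toFinset hfin).mp (Finset.mem_of_mem_erase hP)
    have hPprime : P.IsPrime := hP'.1.1
    have hP0 : P ≠ ⊥ := by
      rintro rfl
      exact hf (by simpa using hP'.1.2 (Ideal.mem_span_singleton_self f))
    have hPmax : P.IsMaximal := isMaximal_of_forall_mem f hf hprime' P hP0
    exact Ideal.IsMaximal.coprime_of_ne hm₁ hPmax (Finset.ne_of_mem_erase hP).symm
  obtain ⟨a, ha, b, hb, hab⟩ := Submodule.mem_sup.mp ((Ideal.eq_top_iff_one _).mp hcop)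
  -- `a * b` lies in the radical of `J`
  have habrad : a * b ∈ J.radical := by
    rw [Ideal.radical_eq_sInf, Ideal.mem_sInf]
    rintro P ⟨hJP, hPprime⟩
    have hP0 : P ≠ ⊥ := fun h => hJ0 (le_bot_iff.mp (h ▸ hJP))
    by_cases hPm : P = m₁
    · exact P.mul_mem_right _ (hPm ▸ ha)
    · have hP' : P ∈ s := by
        rw [hs, Finset.mem_erase]
        exact ⟨hPm, (Set.Finite.mem_toFinset hfin).mpr
          (mem_minimalPrimes_of_forall_mem f hf hprime' P hP0)⟩
      have : b ∈ P := by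
        have := (Ideal.mem_iInf.mp hb) P
        exact (Ideal.mem_iInf.mp this) hP'
      exact P.mul_mem_left _ this
  obtain ⟨t, ht⟩ := Ideal.exists_radical_pow_le_of_fg J (IsNoetherian.noetherian _)
  have habt : (a * b) ^ (t + 1) ∈ J := by
    rw [pow_succ]
    exact J.mul_mem_right _ (ht (Ideal.pow_mem_pow habrad t))
  have hcopr : IsCoprime (a ^ (t + 1)) (b ^ (t + 1)) :=
    IsCoprime.pow ⟨1, 1, by rw [one_mul, one_mul, hab]⟩
  obtain ⟨u, v, huv⟩ := hcopr
  have he₀ : (u * a ^ (t + 1)) * (1 - u * a ^ (t + 1)) ∈ J := by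
    have : (u * a ^ (t + 1)) * (1 - u * a ^ (t + 1)) = u * v * (a * b) ^ (t + 1) := by
      rw [← huv]; ring
    rw [this]
    exact J.mul_mem_left _ habt
  have ham₁ : u * a ^ (t + 1) ∈ m₁ := by
    rw [pow_succ]
    exact m₁.mul_mem_left _ (m₁.mul_mem_left _ ha)
  have hm₂s : m₂ ∈ s := by
    rw [hs, Finset.mem_erase]
    have : m₂.IsPrime := hm₂.isPrime
    exact ⟨hne, (Set.Finite.mem_toFinset hfin).mpr
      (mem_minimalPrimes_of_forall_mem f hf hprime' m₂ (hmax0 m₂ hm₂))⟩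
  have hbm₂ : b ∈ m₂ := (Ideal.mem_iInf.mp ((Ideal.mem_iInf.mp hb) m₂)) hm₂s
  have hbm₂' : 1 - u * a ^ (t + 1) ∈ m₂ := by
    have : 1 - u * a ^ (t + 1) = v * b ^ (t + 1) := by rw [← huv]; ring
    rw [this, pow_succ]
    exact m₂.mul_mem_left _ (m₂.mul_mem_left _ hbm₂)
  have hJm₁ : J ≤ m₁ := hprime m₁ hm₁.isPrime (hmax0 m₁ hm₁)
  have hJm₂ : J ≤ m₂ := hprime m₂ hm₂.isPrime (hmax0 m₂ hm₂)
  rcases mem_or_one_sub_mem_of_isAdicComplete J _ he₀ with h | h
  · -- `e₀ ∈ J ⊆ m₂` and `1 - e₀ ∈ m₂`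
    apply hm₂.ne_top
    rw [Ideal.eq_top_iff_one]
    have := m₂.add_mem (hJm₂ h) hbm₂'
    simpa using this
  · apply hm₁.ne_top
    rw [Ideal.eq_top_iff_one]
    have := m₁.add_mem ham₁ (hJm₁ h)
    simpa using this

/-- ... and it is complete for its maximal ideal. -/
theorem isAdicComplete_maximalIdeal_of_forall_le [IsLocalRing R] (J : Ideal R) (hJ0 : J ≠ ⊥)
    [IsAdicComplete J R] (hprime : ∀ Q : Ideal R, Q.IsPrime → Q ≠ ⊥ → J ≤ Q) :
    IsAdicComplete (IsLocalRing.maximalIdeal R) R := by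
  obtain ⟨f, hfJ, hf⟩ := Submodule.exists_mem_ne_zero_of_ne_bot hJ0
  have hprime' : ∀ Q : Ideal R, Q.IsPrime → Q ≠ ⊥ → f ∈ Q := fun Q hQ hQ0 => hprime Q hQ hQ0 hfJ
  have hJtop : J ≠ ⊤ := by
    rintro rfl
    have : Subsingleton R := IsAdicComplete.subsingleton (R := R) (M := R) ‹_›
    exact not_subsingleton R this
  have hJm : J ≤ IsLocalRing.maximalIdeal R := IsLocalRing.le_maximalIdeal hJtop
  have hrad : J.radical = IsLocalRing.maximalIdeal R := by
    refine le_antisymm ?_ ?_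
    · rw [← (IsLocalRing.maximalIdeal.isMaximal R).isPrime.radical]
      exact Ideal.radical_mono hJm
    · rw [Ideal.radical_eq_sInf]
      refine le_sInf ?_
      rintro P ⟨hJP, hPprime⟩
      have hP0 : P ≠ ⊥ := fun h => hJ0 (le_bot_iff.mp (h ▸ hJP))
      have : P.IsMaximal := isMaximal_of_forall_mem f hf hprime' P hP0
      rw [IsLocalRing.eq_maximalIdeal this]
  obtain ⟨t, ht⟩ := Ideal.exists_radical_pow_le_of_fg J (IsNoetherian.noetherian _)
  rw [hrad] at ht
  exact Groth.Agent.H5.FinCL.isAdicComplete_of_le_of_pow_le J _ hJm t ht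

end

end Groth.Agent.H5.Pop
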