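import Mathlib
import Groth.Agent.Lib.Helper5.Pop.RigLocal
import Groth.Agent.Lib.Helper5.Pop.GRingAdic
import Groth.Agent.Lib.Helper5.CA.RegHom1
import Groth.Agent.Lib.Helper3.CA.RegHomComp
import Groth.Agent.S0598
import Groth.Agent.S0599

/-!
# Regularity of `A/p → (A/p){x}` for a rig-closed prime (helper5)
-/

set_option autoImplicit false

namespace Groth.Agent.H5.Pop

universe u

/-- composition of regular homomorphisms (Noetherian target). -/
theorem isRegularHom_comp (A B C : Type u) [CommRing A] [CommRing B] [CommRing C]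
    [Algebra A B] [Algebra B C] [Algebra A C] [IsScalarTower A B C] [IsNoetherianRing C]
    (hAB : CAlg.IsRegularHom A B) (hBC : CAlg.IsRegularHom B C) : CAlg.IsRegularHom A C := by
  haveI : Module.Flat A B := hAB.1
  haveI : Module.Flat B C := hBC.1
  refine ⟨Module.Flat.trans A B C, fun p _ => ⟨H3.RegHomBC.isNoetherianRing_fiber A C p, ?_⟩⟩
  intro K _ _ hfin
  exact H3.RegHomBC.geomRegFibres_comp A B C
    (fun p _ K _ _ hK => (hAB.2 p).2 K hK)
    (fun q _ => H3.RegHomBC.isNoetherianRing_fiber B C q)
    (fun q _ K _ _ hK => (hBC.2 q).2 K hK)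
    (fun p _ => H3.RegHomBC.isNoetherianRing_fiber A C p) p K hfin

/-- a Noetherian domain complete for a nonzero ideal contained in all nonzero primes is a
G-ring. -/
theorem isGRing_of_forall_le {R : Type u} [CommRing R] [IsDomain R] [IsNoetherianRing R]
    (J : Ideal R) (hJ0 : J ≠ ⊥) [IsAdicComplete J R]
    (hprime : ∀ Q : Ideal R, Q.IsPrime → Q ≠ ⊥ → J ≤ Q) : CAlg.IsGRing R := by
  haveI : IsLocalRing R := isLocalRing_of_forall_le J hJ0 hprime
  haveI : IsAdicComplete (IsLocalRing.maximalIdeal R) R :=
    isAdicComplete_maximalIdeal_of_forall_le J hJ0 hprime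
  exact Groth.Agent.S0598.result R

/-- surjective images of precomplete modules are precomplete. -/
theorem isPrecomplete_of_surjective {A : Type*} [CommRing A] (I : Ideal A) {M N : Type*}
    [AddCommGroup M] [Module A M] [AddCommGroup N] [Module A N] [IsPrecomplete I M]
    (f : M →ₗ[A] N) (hf : Function.Surjective f) : IsPrecomplete I N := by
  rw [← AdicCompletion.of_surjective_iff]
  have h1 : Function.Surjective (AdicCompletion.map I f) := AdicCompletion.map_surjective I hf
  have h2 : Function.Surjective (AdicCompletion.of I M) := AdicCompletion.of_surjective I M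
  have h3 : (AdicCompletion.of I N) ∘ f = (AdicCompletion.map I f) ∘ (AdicCompletion.of I M) := by
    funext x
    exact (AdicCompletion.map_of I f x).symm
  have h4 : Function.Surjective ((AdicCompletion.of I N) ∘ f) := by
    rw [h3]; exact h1.comp h2
  exact Function.Surjective.of_comp h4

end Groth.Agent.H5.Pop
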