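import Mathlib
import Groth.Agent.Lib.Helper5.Pop.RigReg
import Groth.Agent.S0543

set_option autoImplicit false

namespace Groth.Agent.H5.Pop

universe u

theorem isRegularHom_restricted_of_rigClosed (A : Type u) [CommRing A] [IsNoetherianRing A]
    (I : Ideal A) [IsAdicComplete I A] (p : PrimeSpectrum A)
    (hp : ¬ I ≤ p.asIdeal ∧ ∀ q : PrimeSpectrum A, p ≤ q → ¬ I ≤ q.asIdeal → q = p) (n : ℕ) :
    CAlg.IsRegularHom (A ⧸ p.asIdeal)
      (AdicCompletion (I.map (algebraMap A (MvPolynomial (Fin n) (A ⧸ p.asIdeal))))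
        (MvPolynomial (Fin n) (A ⧸ p.asIdeal))) := by
  set R := A ⧸ p.asIdeal with hR
  set J : Ideal R := I.map (algebraMap A R) with hJ
  -- completeness of the quotient
  haveI hprec : IsPrecomplete J R := by
    rw [hJ, IsPrecomplete.map_algebraMap_iff]
    exact isPrecomplete_of_surjective I (Submodule.mkQ p.asIdeal) (Submodule.mkQ_surjective _)
  haveI hhaus : IsHausdorff J R := by
    rw [hJ, IsHausdorff.map_algebraMap_iff]
    exact IsHausdorff.of_le_jacobson I R (IsAdicComplete.le_jacobson_bot I)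
  haveI : IsAdicComplete J R := { hhaus, hprec with }
  have hJ0 : J ≠ ⊥ := by
    intro h
    apply hp.1
    intro a ha
    have : algebraMap A R a ∈ J := Ideal.mem_map_of_mem _ ha
    rw [h, Ideal.mem_bot] at this
    exact Ideal.Quotient.eq_zero_iff_mem.mp this
  have hprime : ∀ Q : Ideal R, Q.IsPrime → Q ≠ ⊥ → J ≤ Q := by
    intro Q hQ hQ0
    by_contra hJQ
    apply hQ0
    let q : PrimeSpectrum A := ⟨Q.comap (algebraMap A R), inferInstance⟩
    have hpq : p ≤ q := by
      intro a ha
      change algebraMap A R a ∈ Q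
      have : algebraMap A R a = 0 := Ideal.Quotient.eq_zero_iff_mem.mpr ha
      rw [this]; exact zero_mem _
    have hIq : ¬ I ≤ q.asIdeal := by
      intro h
      apply hJQ
      rw [hJ, Ideal.map_le_iff_le_comap]
      exact h
    have hqp := hp.2 q hpq hIq
    rw [eq_bot_iff]
    intro x hx
    obtain ⟨a, rfl⟩ := Ideal.Quotient.mk_surjective x
    have : a ∈ q.asIdeal := hx
    rw [hqp] at this
    rw [Ideal.mem_bot]
    exact Ideal.Quotient.eq_zero_iff_mem.mpr this
  have hG : CAlg.IsGRing R := isGRing_of_forall_le J hJ0 hprime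
  have hGB : CAlg.IsGRing (MvPolynomial (Fin n) R) :=
    Groth.Agent.S0599.result R hG (MvPolynomial (Fin n) R)
  haveI : IsNoetherianRing (MvPolynomial (Fin n) R) := hGB.1
  set J' : Ideal (MvPolynomial (Fin n) R) := I.map (algebraMap A (MvPolynomial (Fin n) R))
  haveI : IsNoetherianRing (AdicCompletion J' (MvPolynomial (Fin n) R)) :=
    Groth.Agent.S0543.result _ J'
  have h1 : CAlg.IsRegularHom (MvPolynomial (Fin n) R)
      (AdicCompletion J' (MvPolynomial (Fin n) R)) :=
    isRegularHom_adicCompletion_of_isGRing _ hGB J'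
  haveI : Algebra.Smooth R (MvPolynomial (Fin n) R) := ⟨inferInstance, inferInstance⟩
  have h2 : CAlg.IsRegularHom R (MvPolynomial (Fin n) R) := H5.RegHom.isRegularHom_of_smooth R _
  exact isRegularHom_comp R (MvPolynomial (Fin n) R) _ h2 h1

end Groth.Agent.H5.Pop
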