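import Mathlib
import Groth.Prelude
import Groth.Agent.Lib.Helper5.Pop.ExcFT
import Groth.Agent.Lib.Helper8.EssEt.Main40
import Groth.Agent.Lib.Helper8.GNHens.G7
import Groth.Agent.Lib.Helper8.Hens.IntegralHens
import Groth.Agent.Lib.Helper8.Hens.HenselianFinite

set_option autoImplicit false
universe u

open Polynomial

namespace Groth.Agent.H5.Pop.StrHensFrac

/-- a nonzero element of a domain `B`, integral over `A`, divides the image of an element of `A`
with nonzero image. -/
theorem exists_mul_eq_algebraMap (A B : Type*) [CommRing A] [CommRing B] [IsDomain B] [Algebra A B]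
    (b : B) (hb : b ≠ 0) (hint : IsIntegral A b) :
    ∃ (c : A) (b' : B), algebraMap A B c ≠ 0 ∧ b * b' = algebraMap A B c := by
  obtain ⟨p, hp, h0⟩ := hint
  rw [← Polynomial.aeval_def] at h0
  suffices H : ∀ n (p : A[X]), p.Monic → p.natDegree = n → aeval b p = 0 →
      ∃ (c : A) (b' : B), algebraMap A B c ≠ 0 ∧ b * b' = algebraMap A B c from
    H _ p hp rfl h0
  intro n
  induction n with
  | zero =>
    intro p hp hdeg h0
    have : p = 1 := by
      have := Polynomial.eq_C_of_natDegree_eq_zero hdeg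
      rw [this]
      have h1 : p.coeff 0 = 1 := by
        have := hp.coeff_natDegree
        rwa [hdeg] at this
      rw [h1, C_1]
    rw [this, map_one] at h0
    exact absurd h0 one_ne_zero
  | succ n ih =>
    intro p hp hdeg h0
    have hdec := Polynomial.X_mul_divX_add p
    have hev : b * aeval b p.divX + algebraMap A B (p.coeff 0) = 0 := by
      have h2 := congrArg (aeval b) hdec
      rw [map_add, map_mul, aeval_X, aeval_C] at h2
      rw [h2, h0]
    by_cases hc : algebraMap A B (p.coeff 0) = 0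
    · rw [hc, add_zero] at hev
      have hq0 : aeval b p.divX = 0 := (mul_eq_zero.mp hev).resolve_left hb
      have hqdeg : p.divX.natDegree = n := by
        rw [Polynomial.natDegree_divX_eq_natDegree_tsub_one, hdeg]; rfl
      have hqm : p.divX.Monic := by
        rw [Polynomial.Monic, Polynomial.leadingCoeff, hqdeg, Polynomial.coeff_divX, ← hdeg]
        exact hp.coeff_natDegree
      exact ih p.divX hqm hqdeg hq0
    · refine ⟨-(p.coeff 0), aeval b p.divX, ?_, ?_⟩
      · rw [map_neg]; exact neg_ne_zero.mpr hc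
      · rw [map_neg]; exact eq_neg_of_add_eq_zero_left hev

open Groth.Agent.H8.Hens in
theorem main (A S : Type u) [CommRing A] [HenselianLocalRing A] [IsReduced A]
    (hA : EGA4.IsExcellent A)
    [CommRing S] [IsLocalRing S] [Algebra A S] [IsLocalHom (algebraMap A S)]
    [Hensel.IsStrictHenselization A S] (Q : Ideal S) (hQ : Q ∈ minimalPrimes S) [Q.IsPrime]
    (t : Finset (FractionRing (S ⧸ Q))) :
    ∃ D' : Subalgebra A (S ⧸ Q), (D' : Set (S ⧸ Q)) = (algebraMap (S ⧸ Q) (FractionRing (S ⧸ Q))) ⁻¹'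
        (Subfield.closure (Set.range (algebraMap A (FractionRing (S ⧸ Q))) ∪
          (t : Set (FractionRing (S ⧸ Q)))) : Set (FractionRing (S ⧸ Q))) ∧
      EGA4.IsExcellent D' ∧ ∃ _ : HenselianLocalRing D',
        ∀ l ∈ Subfield.closure (Set.range (algebraMap A (FractionRing (S ⧸ Q))) ∪
            (t : Set (FractionRing (S ⧸ Q)))),
          ∃ a ∈ D', ∃ b ∈ D', algebraMap (S ⧸ Q) (FractionRing (S ⧸ Q)) b ≠ 0 ∧
            l * algebraMap (S ⧸ Q) (FractionRing (S ⧸ Q)) b =
              algebraMap (S ⧸ Q) (FractionRing (S ⧸ Q)) a := by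
  haveI := hA.1
  obtain ⟨D', hset, hfin, -⟩ := Groth.Agent.H8.EssEt.main40 A S Q hQ t
  obtain ⟨L, hL⟩ : ∃ L : Subfield (FractionRing (S ⧸ Q)),
    L = Subfield.closure (Set.range (algebraMap A (FractionRing (S ⧸ Q))) ∪
          (t : Set (FractionRing (S ⧸ Q)))) := ⟨_, rfl⟩
  rw [← hL] at hset ⊢
  have hmem : ∀ z : S ⧸ Q, z ∈ D' ↔ algebraMap (S ⧸ Q) (FractionRing (S ⧸ Q)) z ∈ L := by
    intro z
    rw [← SetLike.mem_coe, hset]
    rfl
  haveI : Module.Finite A D' := hfin
  haveI : IsLocalRing D' := isLocalRing_of_isDomain_of_finite A D'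
  refine ⟨D', hset, Groth.Agent.H5.Pop.ExcFT.isExcellent_of_finiteType A hA D',
    henselianLocalRing_of_finite A D', ?_⟩
  intro l hl
  haveI : Algebra.IsIntegral A S := Groth.Agent.H8.GNHens.isIntegral_of_isStrictHenselization A S
  obtain ⟨a, b, hb, rfl⟩ := IsFractionRing.div_surjective (A := S ⧸ Q) l
  have hb0 : b ≠ 0 := nonZeroDivisors.ne_zero hb
  have hbint : IsIntegral A b := by
    obtain ⟨b', rfl⟩ := Ideal.Quotient.mk_surjective b
    exact (Algebra.IsIntegral.isIntegral (R := A) b').map (Ideal.Quotient.mkₐ A Q)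
  obtain ⟨c, b', hc, hbb'⟩ := exists_mul_eq_algebraMap A (S ⧸ Q) b hb0 hbint
  have hinj := IsFractionRing.injective (S ⧸ Q) (FractionRing (S ⧸ Q))
  have hbK : algebraMap (S ⧸ Q) (FractionRing (S ⧸ Q)) b ≠ 0 := by
    intro h
    exact hb0 (hinj (h.trans (map_zero _).symm))
  have hcL : algebraMap (S ⧸ Q) (FractionRing (S ⧸ Q)) (algebraMap A (S ⧸ Q) c) ∈ L := by
    rw [hL, ← IsScalarTower.algebraMap_apply]
    exact Subfield.subset_closure (Or.inl ⟨c, rfl⟩)
  have hkey : algebraMap (S ⧸ Q) (FractionRing (S ⧸ Q)) a /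
      algebraMap (S ⧸ Q) (FractionRing (S ⧸ Q)) b *
        algebraMap (S ⧸ Q) (FractionRing (S ⧸ Q)) (algebraMap A (S ⧸ Q) c) =
      algebraMap (S ⧸ Q) (FractionRing (S ⧸ Q)) (a * b') := by
    rw [← hbb', map_mul, map_mul]
    field_simp
  refine ⟨a * b', ?_, algebraMap A (S ⧸ Q) c, ?_, ?_, hkey⟩
  · rw [hmem, ← hkey]
    exact L.mul_mem hl hcL
  · exact D'.algebraMap_mem c
  · intro h
    exact hc (hinj (h.trans (map_zero _).symm))

end Groth.Agent.H5.Pop.StrHensFrac
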