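import Mathlib
import Groth.Prelude.Def_Smoothing
import Groth.Agent.Lib.Helper8.StdEl.C
import Groth.Agent.Lib.Helper8.StdEl.O

/-!
# Popescu program, part V1: Jacobian data at a smooth prime, strong form, and lifting
along a quotient of the base ring.
-/

set_option autoImplicit false
universe u
open MvPolynomial

namespace Groth.Agent.H5.Pop

/-- Strong form of Stacks 07CB: at a smooth prime `q` of `A = R[x]/(f)` there are rows, columns and a
polynomial `t` not in `q` with `t f_ℓ ∈ (f_rows)` for all `ℓ` and the Jacobian minor not in `q`. -/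
theorem exists_jacobian_data {R A : Type u} [CommRing R] [CommRing A] [Algebra R A] {n m : ℕ}
    (f : Fin m → MvPolynomial (Fin n) R) (φ : MvPolynomial (Fin n) R →ₐ[R] A)
    (hφ : Function.Surjective φ)
    (hker : RingHom.ker φ.toRingHom = Ideal.span (Set.range f)) (q : Ideal A) [q.IsPrime]
    [Algebra.IsSmoothAt R q] :
    ∃ (c : ℕ) (rows : Fin c ↪ Fin m) (cols : Fin c ↪ Fin n) (t : MvPolynomial (Fin n) R),
      φ t ∉ q ∧ φ (Smoothing.jacobianMinor f rows cols) ∉ q ∧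
      ∀ ℓ : Fin m, t * f ℓ ∈ Ideal.span (Set.range (f ∘ rows)) := by
  classical
  obtain ⟨Q, hQdef⟩ : ∃ Q : Ideal (MvPolynomial (Fin n) R), Q = q.comap φ.toRingHom := ⟨_, rfl⟩
  have hQmem : ∀ x, x ∈ Q ↔ φ x ∈ q := fun x => by rw [hQdef]; exact Iff.rfl
  haveI hQprime : Q.IsPrime := by rw [hQdef]; exact Ideal.comap_isPrime _ _
  obtain ⟨I, hIdef⟩ : ∃ I : Ideal (MvPolynomial (Fin n) R), I = Ideal.span (Set.range f) :=
    ⟨_, rfl⟩
  have hImem : ∀ x, x ∈ I ↔ φ x = 0 := fun x => by rw [hIdef, ← hker]; exact Iff.rfl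
  have hfI : ∀ ℓ, f ℓ ∈ I := fun ℓ => by rw [hIdef]; exact Ideal.subset_span ⟨ℓ, rfl⟩
  have hIQ : I ≤ Q := fun x hx => (hQmem x).mpr (by rw [(hImem x).mp hx]; exact q.zero_mem)
  let ι : MvPolynomial (Fin n) R →+* FractionRing (MvPolynomial (Fin n) R ⧸ Q) :=
    (algebraMap (MvPolynomial (Fin n) R ⧸ Q) (FractionRing (MvPolynomial (Fin n) R ⧸ Q))).comp
      (Ideal.Quotient.mk Q)
  have hι : ∀ x, ι x = 0 ↔ x ∈ Q := fun x => by
    show algebraMap (MvPolynomial (Fin n) R ⧸ Q) _ (Ideal.Quotient.mk Q x) = 0 ↔ _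
    rw [IsFractionRing.to_map_eq_zero_iff, Ideal.Quotient.eq_zero_iff_mem]
  have hfrac : ∀ z : FractionRing (MvPolynomial (Fin n) R ⧸ Q),
      ∃ d r : MvPolynomial (Fin n) R, d ∉ Q ∧ ι d * z = ι r := by
    intro z
    obtain ⟨x, y, rfl⟩ := IsLocalization.exists_mk'_eq (nonZeroDivisors (MvPolynomial (Fin n) R ⧸ Q)) z
    obtain ⟨r, rfl⟩ := Ideal.Quotient.mk_surjective x
    obtain ⟨d, hd⟩ := Ideal.Quotient.mk_surjective (y : MvPolynomial (Fin n) R ⧸ Q)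
    refine ⟨d, r, fun h => ?_, ?_⟩
    · have h0 : (y : MvPolynomial (Fin n) R ⧸ Q) = 0 := by
        rw [← hd]; exact Ideal.Quotient.eq_zero_iff_mem.mpr h
      exact nonZeroDivisors.coe_ne_zero y h0
    · show algebraMap (MvPolynomial (Fin n) R ⧸ Q) (FractionRing (MvPolynomial (Fin n) R ⧸ Q))
          (Ideal.Quotient.mk Q d) * _ = algebraMap (MvPolynomial (Fin n) R ⧸ Q)
          (FractionRing (MvPolynomial (Fin n) R ⧸ Q)) (Ideal.Quotient.mk Q r)
      rw [hd]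
      exact IsLocalization.mk'_spec' _ _ _
  obtain ⟨c, rows, cols, hΔ, hlin⟩ := Groth.Agent.H8.StdEl.step_aux f Q I hfI hIQ ι hι hfrac
  have hstep : ∀ ℓ, ∃ s : MvPolynomial (Fin n) R, s ∉ Q ∧
      s * f ℓ ∈ Ideal.span (Set.range (f ∘ rows)) ⊔ Q * I := by
    intro ℓ
    obtain ⟨d, r, hdQ, hpd⟩ := hlin ℓ
    have hpI : d * f ℓ - ∑ j, r j * f (rows j) ∈ I :=
      I.sub_mem (I.mul_mem_left _ (hfI ℓ)) (I.sum_mem fun j _ => I.mul_mem_left _ (hfI _))
    obtain ⟨s, hsQ, hsp⟩ :=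
      Groth.Agent.H8.StdEl.exists_smul_mem_mul φ hφ q Q I hQmem hImem _ hpI hpd
    refine ⟨s * d, fun h => (hQprime.mem_or_mem h).elim hsQ hdQ, ?_⟩
    have h1 : s * d * f ℓ = ∑ j, (s * r j) * f (rows j) +
        s * (d * f ℓ - ∑ j, r j * f (rows j)) := by
      simp only [mul_sub, Finset.mul_sum, mul_assoc]; ring
    rw [h1]
    exact Ideal.add_mem _ (Ideal.mem_sup_left (Ideal.sum_mem _ fun j _ =>
      Ideal.mul_mem_left _ _ (Ideal.subset_span ⟨j, rfl⟩))) (Ideal.mem_sup_right hsp)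
  have hloc := Groth.Agent.H8.StdEl.nakayama_aux Q I (Ideal.span (Set.range (f ∘ rows))) f hIdef hstep
  choose t htQ ht using hloc
  have httQ : (∏ ℓ, t ℓ) ∉ Q := fun h => by
    obtain ⟨ℓ, -, hℓ⟩ := (Ideal.IsPrime.prod_mem_iff).mp h
    exact htQ ℓ hℓ
  have htt : ∀ ℓ, (∏ ℓ', t ℓ') * f ℓ ∈ Ideal.span (Set.range (f ∘ rows)) := by
    intro ℓ
    rw [← Finset.prod_erase_mul _ _ (Finset.mem_univ ℓ), mul_assoc]
    exact Ideal.mul_mem_left _ _ (ht ℓ)
  refine ⟨c, rows, cols, ∏ ℓ, t ℓ, ?_, ?_, htt⟩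
  · rw [← hQmem]; exact httQ
  · rw [← hQmem]; exact hΔ

end Groth.Agent.H5.Pop
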