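import Groth.Agent.Lib.Helper5.Pop.V9

/-!
# Popescu program, part V10: the lifting lemma (Stacks 07CN).
-/

set_option autoImplicit false
universe u
open MvPolynomial

namespace Groth.Agent.H5.Pop

set_option maxHeartbeats 1600000 in
/-- **The lifting lemma** (Stacks 07CN), parts (a), (b), (c). -/
theorem lifting_lemma {R Λ S : Type u} [CommRing R] [IsNoetherianRing R] [CommRing Λ]
    [Algebra R Λ] (π : R) (hR : ∀ r : R, π ^ 2 * r = 0 → π * r = 0)
    (hΛ : ∀ x : Λ, π ^ 2 • x = 0 → π • x = 0) [CommRing S] [Algebra R S]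
    [Algebra (R ⧸ Ideal.span {π ^ 2}) S] [IsScalarTower R (R ⧸ Ideal.span {π ^ 2}) S]
    [Algebra.FinitePresentation (R ⧸ Ideal.span {π ^ 2}) S]
    (g : S →ₐ[R] Λ ⧸ Ideal.span {algebraMap R Λ (π ^ 2)}) :
    ∃ (D : Type u) (_ : CommRing D) (_ : Algebra R D), Algebra.FinitePresentation R D ∧
      ∃ (δ : D →ₐ[R] Λ) (ψ : S →ₐ[R] D ⧸ Ideal.span {algebraMap R D π}),
        (∀ (c : S) (d : D) (l : Λ), Ideal.Quotient.mk (Ideal.span {algebraMap R D π}) d = ψ c →
          Ideal.Quotient.mk (Ideal.span {algebraMap R Λ (π ^ 2)}) l = g c →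
            δ d - l ∈ Ideal.span {algebraMap R Λ π}) ∧
        (∀ (Q : Ideal D) [Q.IsPrime], algebraMap R D π ∉ Q → Algebra.IsSmoothAt R Q) ∧
        (∀ (Q : Ideal (D ⧸ Ideal.span {algebraMap R D π})) [Q.IsPrime],
          Algebra.IsSmoothAt (R ⧸ Ideal.span {π ^ 2}) (Q.comap ψ) →
            Algebra.IsSmoothAt R (Q.comap (Ideal.Quotient.mk (Ideal.span {algebraMap R D π})))) := by
  classical
  -- presentation
  obtain ⟨n, φbar, hφbar, hfg⟩ :=
    Algebra.FinitePresentation.out (R := R ⧸ Ideal.span {π ^ 2}) (A := S)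
  obtain ⟨m, fbar, hfbar⟩ := Submodule.fg_iff_exists_fin_generating_family.mp hfg
  have hker : RingHom.ker φbar.toRingHom = Ideal.span (Set.range fbar) := hfbar.symm
  set red := map (σ := Fin n) (Ideal.Quotient.mk (Ideal.span {π ^ 2})) with hred
  have hredsurj : Function.Surjective red := map_surjective _ Ideal.Quotient.mk_surjective
  choose f hf using fun j => hredsurj (fbar j)
  -- charts
  haveI : IsNoetherianRing S := Algebra.FiniteType.isNoetherianRing (R ⧸ Ideal.span {π ^ 2}) S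
  set U := Algebra.smoothLocus (R ⧸ Ideal.span {π ^ 2}) S with hU
  have hchart : ∀ p : U, ∃ K : Chart π f, φbar (red K.a) ∉ p.1.asIdeal := fun p => by
    haveI : Algebra.IsSmoothAt (R ⧸ Ideal.span {π ^ 2}) p.1.asIdeal := p.2
    exact exists_chart π f fbar hf φbar hφbar hker p.1.asIdeal
  choose Kc hKc using hchart
  have hcover : U ⊆ ⋃ p : U,
      (PrimeSpectrum.basicOpen (φbar (red (Kc p).a)) : Set (PrimeSpectrum S)) :=
    fun x hx => Set.mem_iUnion.mpr ⟨⟨x, hx⟩, hKc ⟨x, hx⟩⟩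
  have hcomp : IsCompact U := TopologicalSpace.NoetherianSpace.isCompact U
  obtain ⟨t, ht⟩ := hcomp.elim_finite_subcover _
    (fun p => (PrimeSpectrum.basicOpen (φbar (red (Kc p).a))).isOpen) hcover
  set K : {p : U // p ∈ t} → Chart π f := fun k => Kc k.1 with hK
  -- the elements λ, μ
  set φR : MvPolynomial (Fin n) R →ₐ[R] S :=
    (φbar.restrictScalars R).comp (mapAlgHom (Ideal.Quotient.mkₐ R (Ideal.span {π ^ 2}))) with hφR
  have hφRapp : ∀ q, φR q = φbar (red q) := fun q => rfl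
  have hφRsurj : Function.Surjective φR := fun s => by
    obtain ⟨q, rfl⟩ := hφbar s
    obtain ⟨q', rfl⟩ := hredsurj q
    exact ⟨q', rfl⟩
  choose lam hlam using fun i =>
    Ideal.Quotient.mk_surjective (I := Ideal.span {algebraMap R Λ (π ^ 2)}) (g (φR (X i)))
  have hgφ : ∀ q : MvPolynomial (Fin n) R,
      Ideal.Quotient.mk (Ideal.span {algebraMap R Λ (π ^ 2)}) (aeval lam q) = g (φR q) := by
    intro q
    have : (Ideal.Quotient.mkₐ R (Ideal.span {algebraMap R Λ (π ^ 2)})).comp (aeval lam) =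
        g.comp φR := by
      apply MvPolynomial.algHom_ext
      intro i
      simp only [AlgHom.comp_apply, aeval_X]
      exact hlam i
    exact congrArg (fun ψ => ψ q) this
  have hfR : ∀ j, φR (f j) = 0 := by
    intro j
    rw [hφRapp, hf]
    have : fbar j ∈ RingHom.ker φbar.toRingHom := by
      rw [hker]; exact Ideal.subset_span ⟨j, rfl⟩
    exact this
  have hmuex : ∀ j, ∃ μ : Λ, aeval lam (f j) = π ^ 2 • μ := by
    intro j
    have h1 := hgφ (f j)
    rw [hfR, map_zero, Ideal.Quotient.eq_zero_iff_mem] at h1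
    obtain ⟨μ, hμ⟩ := Ideal.mem_span_singleton'.mp h1
    exact ⟨μ, by rw [← hμ, Algebra.smul_def, mul_comm]⟩
  choose mu hmu using hmuex
  -- the algebra D
  haveI := finitePresentation_D K
  refine ⟨MvPolynomial (Fin n ⊕ Fin m) R ⧸ ID K, inferInstance, inferInstance, inferInstance, ?_⟩
  set D := MvPolynomial (Fin n ⊕ Fin m) R ⧸ ID K with hD
  set Jπ : Ideal D := Ideal.span {algebraMap R D π} with hJπ
  -- δ
  let δ : D →ₐ[R] Λ := Ideal.Quotient.liftₐ (ID K) (delta0 lam mu π)
    (fun x hx => ID_le_ker_delta0 K lam mu hmu hΛ hx)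
  have hδ : ∀ q, δ (Ideal.Quotient.mk (ID K) q) = delta0 lam mu π q := fun q => rfl
  -- ψ
  let ψ₀ : MvPolynomial (Fin n) R →ₐ[R] D ⧸ Jπ :=
    (Ideal.Quotient.mkₐ R Jπ).comp ((Ideal.Quotient.mkₐ R (ID K)).comp (eps n m R))
  have hψ₀app : ∀ q, ψ₀ q = Ideal.Quotient.mk Jπ (Ideal.Quotient.mk (ID K) (eps n m R q)) :=
    fun q => rfl
  have hπJ : ∀ x : MvPolynomial (Fin n ⊕ Fin m) R,
      Ideal.Quotient.mk Jπ (Ideal.Quotient.mk (ID K) (C π * x)) = 0 := by
    intro x
    rw [Ideal.Quotient.eq_zero_iff_mem, map_mul]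
    exact Ideal.mul_mem_right _ _ (Ideal.subset_span rfl)
  have hψ₀I : I0 π f ≤ RingHom.ker ψ₀.toRingHom := by
    unfold I0
    rw [sup_le_iff, Ideal.span_le, Ideal.span_le]
    constructor
    · rintro _ ⟨j, rfl⟩
      show ψ₀ (f j) = 0
      rw [hψ₀app]
      have e : eps n m R (f j) = relF π f j + C π * zvar n R j := by unfold relF; ring
      rw [e, map_add, map_add, Ideal.Quotient.eq_zero_iff_mem.mpr (relF_mem_ID K j), map_zero,
        zero_add]
      exact hπJ _
    · intro y hy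
      rw [Set.mem_singleton_iff] at hy
      rw [hy]
      show ψ₀ (C (π ^ 2)) = 0
      rw [hψ₀app]
      have e : eps n m R (C (π ^ 2)) = C π * C π := by
        rw [eps, rename_C, pow_two, C_mul]
      rw [e]
      exact hπJ _
  have hkerφR : RingHom.ker φR.toRingHom ≤ I0 π f := by
    intro q hq
    have h1 : red q ∈ Ideal.span (Set.range fbar) := by
      rw [← hker]; exact hq
    have h2 : Ideal.span (Set.range fbar) = (Ideal.span (Set.range f)).map red := by
      rw [Ideal.map_span]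
      congr 1
      ext x
      constructor
      · rintro ⟨j, rfl⟩; exact ⟨f j, ⟨j, rfl⟩, hf j⟩
      · rintro ⟨_, ⟨j, rfl⟩, rfl⟩; exact ⟨j, (hf j).symm⟩
    rw [h2] at h1
    have h3 : q ∈ Ideal.comap red (Ideal.map red (Ideal.span (Set.range f))) := h1
    rw [Ideal.comap_map_of_surjective red hredsurj] at h3
    have h4 : Ideal.comap red ⊥ = Ideal.span {C (π ^ 2)} := by
      rw [← RingHom.ker_eq_comap_bot, hred, ker_map, Ideal.mk_ker, Ideal.map_span,
        Set.image_singleton]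
    rw [h4] at h3
    exact h3
  have hI : ∀ x ∈ RingHom.ker φR.toRingHom, ψ₀ x = 0 := fun x hx => hψ₀I (hkerφR hx)
  let ψ : S →ₐ[R] D ⧸ Jπ :=
    (Ideal.Quotient.liftₐ (RingHom.ker φR.toRingHom) ψ₀ hI).comp
      (Ideal.quotientKerAlgEquivOfSurjective hφRsurj).symm.toAlgHom
  have hψ : ∀ q, ψ (φR q) = ψ₀ q := by
    intro q
    show (Ideal.Quotient.liftₐ (RingHom.ker φR.toRingHom) ψ₀ hI)
      ((Ideal.quotientKerAlgEquivOfSurjective hφRsurj).symm (φR q)) = ψ₀ q
    have : (Ideal.quotientKerAlgEquivOfSurjective hφRsurj).symm (φR q) =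
        Ideal.Quotient.mk _ q := by
      rw [AlgEquiv.symm_apply_eq, Ideal.quotientKerAlgEquivOfSurjective_mk]
    rw [this]
    rfl
  refine ⟨δ, ψ, ?_, ?_, ?_⟩
  · -- compatibility
    intro c d l hd hl
    obtain ⟨q, rfl⟩ := hφRsurj c
    rw [hψ, hψ₀app, Ideal.Quotient.eq, Ideal.mem_span_singleton'] at hd
    obtain ⟨d', hd'⟩ := hd
    have h1 : δ d = algebraMap R Λ π * δ d' + aeval lam q := by
      have : d = d' * algebraMap R D π + Ideal.Quotient.mk (ID K) (eps n m R q) := by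
        rw [hd']; exact (sub_add_cancel _ _).symm
      rw [this, map_add, map_mul, AlgHom.commutes, hδ, delta0_eps]
      ring
    rw [← hgφ, Ideal.Quotient.eq, Ideal.mem_span_singleton'] at hl
    obtain ⟨l', hl'⟩ := hl
    have h2 : δ d - l = algebraMap R Λ π * (δ d' - algebraMap R Λ π * l') := by
      rw [h1]
      have : l = aeval lam q + l' * algebraMap R Λ (π ^ 2) := by rw [hl']; ring
      rw [this, map_pow]
      ring
    rw [h2]
    exact Ideal.mul_mem_right _ _ (Ideal.subset_span rfl)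
  · -- smooth away from π
    intro Q _ hπQ
    exact isSmoothAt_D_of_pi K Q hπQ
  · -- smooth over smooth primes of S
    intro Q _ hsm
    have hpU : (⟨Q.comap ψ, inferInstance⟩ : PrimeSpectrum S) ∈ U := hsm
    obtain ⟨p, hp⟩ := Set.mem_iUnion.mp (ht hpU)
    obtain ⟨hpt, hp⟩ := Set.mem_iUnion.mp hp
    have hp' : φbar (red (Kc p).a) ∉ Q.comap ψ := hp
    set k₀ : {p : U // p ∈ t} := ⟨p, hpt⟩ with hk₀
    have hKk₀ : K k₀ = Kc p := rfl
    set Q' : Ideal D := Q.comap (Ideal.Quotient.mk Jπ) with hQ'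
    have ha : Ideal.Quotient.mk (ID K) (eps n m R (K k₀).a) ∉ Q' := by
      intro h
      apply hp'
      show ψ (φbar (red (Kc p).a)) ∈ Q
      rw [← hφRapp, hψ, hψ₀app]
      exact h
    have hmin : Ideal.Quotient.mk (ID K) (eps n m R (K k₀).minor) ∉ Q' := by
      intro h
      apply ha
      have : (K k₀).a = (K k₀).t * (K k₀).minor := rfl
      rw [this, map_mul, map_mul]
      exact Q'.mul_mem_left _ h
    have hs : Ideal.Quotient.mk (ID K) (stdElt (K k₀)) ∉ Q' := by
      unfold stdElt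
      rw [map_mul, map_mul, map_pow]
      intro h
      rcases Ideal.IsPrime.mem_or_mem inferInstance h with h | h
      · exact ha h
      · rcases Ideal.IsPrime.mem_or_mem inferInstance h with h | h
        · exact hmin h
        · exact ha (Ideal.IsPrime.mem_of_pow_mem inferInstance _ h)
    exact isSmoothAt_D_of_chart K hR k₀ Q' hs

end Groth.Agent.H5.Pop
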