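import Groth.Agent.Lib.Helper5.Pop.V1

/-!
# Popescu program, part V2: charts (lifted Jacobian data) for an algebra of finite presentation
over `R/π²`.
-/

set_option autoImplicit false
universe u
open MvPolynomial

namespace Groth.Agent.H5.Pop

variable {R : Type u} [CommRing R] (π : R) {n m : ℕ} (f : Fin m → MvPolynomial (Fin n) R)

/-- A chart: rows, columns, and an equation `a f_ℓ = ∑ h_{ℓ j} f_{rows j} + π² g_ℓ`
with `a = t · minor`, normalised on the chosen rows. -/
structure Chart where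
  c : ℕ
  rows : Fin c ↪ Fin m
  cols : Fin c ↪ Fin n
  t : MvPolynomial (Fin n) R
  h : Fin m → Fin c → MvPolynomial (Fin n) R
  g : Fin m → MvPolynomial (Fin n) R
  eq : ∀ ℓ, (t * Smoothing.jacobianMinor f rows cols) * f ℓ =
    ∑ j, h ℓ j * f (rows j) + C (π ^ 2) * g ℓ
  hrow : ∀ j' j, h (rows j') j = if j' = j then t * Smoothing.jacobianMinor f rows cols else 0
  grow : ∀ j', g (rows j') = 0

namespace Chart

variable {π f}

/-- the minor of a chart. -/
noncomputable def minor (K : Chart π f) : MvPolynomial (Fin n) R :=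
  Smoothing.jacobianMinor f K.rows K.cols

/-- the element `a = t · minor` of a chart. -/
noncomputable def a (K : Chart π f) : MvPolynomial (Fin n) R := K.t * K.minor

theorem eq' (K : Chart π f) (ℓ : Fin m) :
    K.a * f ℓ = ∑ j, K.h ℓ j * f (K.rows j) + C (π ^ 2) * K.g ℓ := K.eq ℓ

theorem hrow' (K : Chart π f) (j' j : Fin K.c) :
    K.h (K.rows j') j = if j' = j then K.a else 0 := K.hrow j' j

end Chart

/-- Existence of a chart at a smooth prime of `C = (R/π²)[x]/(f̄)`. -/
theorem exists_chart {S : Type u} [CommRing S] [Algebra (R ⧸ Ideal.span {π ^ 2}) S]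
    (fbar : Fin m → MvPolynomial (Fin n) (R ⧸ Ideal.span {π ^ 2}))
    (hf : ∀ j, map (Ideal.Quotient.mk (Ideal.span {π ^ 2})) (f j) = fbar j)
    (φbar : MvPolynomial (Fin n) (R ⧸ Ideal.span {π ^ 2}) →ₐ[R ⧸ Ideal.span {π ^ 2}] S)
    (hφ : Function.Surjective φbar)
    (hker : RingHom.ker φbar.toRingHom = Ideal.span (Set.range fbar))
    (𝔭 : Ideal S) [𝔭.IsPrime] [Algebra.IsSmoothAt (R ⧸ Ideal.span {π ^ 2}) 𝔭] :
    ∃ K : Chart π f, φbar (map (Ideal.Quotient.mk (Ideal.span {π ^ 2})) K.a) ∉ 𝔭 := by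
  classical
  set red := map (σ := Fin n) (Ideal.Quotient.mk (Ideal.span {π ^ 2})) with hred
  have hredsurj : Function.Surjective red := map_surjective _ Ideal.Quotient.mk_surjective
  obtain ⟨c, rows, cols, tbar, htq, hminq, hspan⟩ :=
    exists_jacobian_data fbar φbar hφ hker 𝔭
  obtain ⟨t, ht⟩ := hredsurj tbar
  have hminor : red (Smoothing.jacobianMinor f rows cols) =
      Smoothing.jacobianMinor fbar rows cols := by
    have h0 : red (Smoothing.jacobianMinor f rows cols) =
        Smoothing.jacobianMinor (fun j => red (f j)) rows cols :=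
      (Groth.Agent.H8.StdEl.jacobianMinor_map (R := R) (R' := R ⧸ Ideal.span {π ^ 2})
        f rows cols).symm
    rw [h0]
    congr 1
    funext j
    exact hf j
  -- coefficients
  have hcoef : ∀ ℓ, ∃ hb : Fin c → MvPolynomial (Fin n) (R ⧸ Ideal.span {π ^ 2}),
      tbar * fbar ℓ = ∑ j, hb j * fbar (rows j) := by
    intro ℓ
    obtain ⟨hb, hhb⟩ := (Ideal.mem_span_range_iff_exists_fun).mp (hspan ℓ)
    exact ⟨hb, hhb.symm⟩
  choose hb hhb using hcoef
  choose h0 hh0 using fun ℓ j => hredsurj (hb ℓ j)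
  set min := Smoothing.jacobianMinor f rows cols with hmin
  have hkerred : ∀ x, red x = 0 → ∃ y, x = C (π ^ 2) * y := by
    intro x hx
    have h1 : x ∈ RingHom.ker red := hx
    rw [hred, ker_map, Ideal.mk_ker, Ideal.map_span, Set.image_singleton] at h1
    obtain ⟨y, hy⟩ := Ideal.mem_span_singleton'.mp h1
    exact ⟨y, by rw [← hy, mul_comm]⟩
  have hg : ∀ ℓ, ∃ y, (t * min) * f ℓ - ∑ j, (min * h0 ℓ j) * f (rows j) = C (π ^ 2) * y := by
    intro ℓ
    apply hkerred
    rw [map_sub, map_mul, map_mul, map_sum, ht, hminor, hf]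
    have : ∀ j, red (min * h0 ℓ j * f (rows j)) =
        Smoothing.jacobianMinor fbar rows cols * (hb ℓ j * fbar (rows j)) := by
      intro j
      rw [map_mul, map_mul, hminor, hh0, hf, mul_assoc]
    simp only [this]
    rw [← Finset.mul_sum, ← hhb]
    ring
  choose g0 hg0 using hg
  -- normalise
  let h1 : Fin m → Fin c → MvPolynomial (Fin n) R := fun ℓ j =>
    if hℓ : ∃ j', rows j' = ℓ then (if hℓ.choose = j then t * min else 0) else min * h0 ℓ j
  let g1 : Fin m → MvPolynomial (Fin n) R := fun ℓ =>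
    if ∃ j', rows j' = ℓ then 0 else g0 ℓ
  have hchoose : ∀ j', (⟨j', rfl⟩ : ∃ j'', rows j'' = rows j').choose = j' := fun j' =>
    rows.injective (⟨j', rfl⟩ : ∃ j'', rows j'' = rows j').choose_spec
  refine ⟨⟨c, rows, cols, t, h1, g1, ?_, ?_, ?_⟩, ?_⟩
  · intro ℓ
    by_cases hℓ : ∃ j', rows j' = ℓ
    · obtain ⟨j', rfl⟩ := hℓ
      have e1 : ∀ j, h1 (rows j') j = if j' = j then t * min else 0 := by
        intro j
        simp only [h1]
        rw [dif_pos ⟨j', rfl⟩, hchoose]
      have e2 : g1 (rows j') = 0 := by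
        simp only [g1]
        rw [if_pos ⟨j', rfl⟩]
      simp only [e1, e2, mul_zero, add_zero, ite_mul, zero_mul]
      rw [Finset.sum_ite_eq Finset.univ j']
      simp [hmin]
    · have e1 : ∀ j, h1 ℓ j = min * h0 ℓ j := by
        intro j
        simp only [h1]
        rw [dif_neg hℓ]
      have e2 : g1 ℓ = g0 ℓ := by
        simp only [g1]
        rw [if_neg hℓ]
      simp only [e1, e2]
      rw [← hg0 ℓ]
      ring
  · intro j' j
    simp only [h1]
    rw [dif_pos ⟨j', rfl⟩, hchoose]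
  · intro j'
    simp only [g1]
    rw [if_pos ⟨j', rfl⟩]
  · show φbar (red (t * min)) ∉ 𝔭
    rw [map_mul, map_mul, ht, hminor]
    exact fun hmem => (Ideal.IsPrime.mem_or_mem ‹_› hmem).elim htq hminq

end Groth.Agent.H5.Pop
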