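import Mathlib

/-!
# Popescu program, part V3a: generic commutative-ring identities with finite sums.
-/

set_option autoImplicit false

namespace Groth.Agent.H5.Pop

variable {S : Type*} [CommRing S]

theorem sum_sub_sum_mul {c c' : ℕ} (a' : S) (h fr : Fin c → S) (h' : Fin c' → S)
    (H : Fin c' → Fin c → S) :
    ∑ j, (a' * h j - ∑ j', h' j' * H j' j) * fr j =
      a' * ∑ j, h j * fr j - ∑ j', h' j' * ∑ j, H j' j * fr j := by
  have e1 : ∀ j, (a' * h j - ∑ j', h' j' * H j' j) * fr j =
      a' * (h j * fr j) - ∑ j', h' j' * (H j' j * fr j) := by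
    intro j
    rw [sub_mul, Finset.sum_mul]
    congr 1
    · ring
    · exact Finset.sum_congr rfl (fun j' _ => by ring)
  simp only [e1]
  rw [Finset.sum_sub_distrib, ← Finset.mul_sum, Finset.sum_comm]
  congr 1
  exact Finset.sum_congr rfl (fun j' _ => by rw [Finset.mul_sum])

theorem cross_identity {c c' : ℕ} (a a' fl : S) (fr h : Fin c → S) (fr' h' : Fin c' → S)
    (H : Fin c' → Fin c → S) (g g' : S) (G : Fin c' → S) (p2 : S)
    (h1 : a * fl = ∑ j, h j * fr j + p2 * g)
    (h2 : a' * fl = ∑ j', h' j' * fr' j' + p2 * g')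
    (h3 : ∀ j', a * fr' j' = ∑ j, H j' j * fr j + p2 * G j') :
    ∑ j, (a' * h j - ∑ j', h' j' * H j' j) * fr j =
      p2 * (∑ j', h' j' * G j' + a * g' - a' * g) := by
  rw [sum_sub_sum_mul]
  have e2 : ∑ j', h' j' * ∑ j, H j' j * fr j =
      a * ∑ j', h' j' * fr' j' - p2 * ∑ j', h' j' * G j' := by
    have : ∀ j', h' j' * ∑ j, H j' j * fr j = a * (h' j' * fr' j') - p2 * (h' j' * G j') := by
      intro j'
      have := h3 j'
      linear_combination (-h' j') * this
    simp only [this]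
    rw [Finset.sum_sub_distrib, ← Finset.mul_sum, ← Finset.mul_sum]
  rw [e2]
  linear_combination (-a') * h1 + a * h2

theorem relP_identity {c c' : ℕ} (a a' zl : S) (zr h : Fin c → S) (zr' h' : Fin c' → S)
    (H : Fin c' → Fin c → S) (g g' : S) (G : Fin c' → S) (p : S) :
    a * (a' * zl - ∑ j', h' j' * zr' j' - p * g') =
      a' * (a * zl - ∑ j, h j * zr j - p * g) -
      ∑ j', h' j' * (a * zr' j' - ∑ j, H j' j * zr j - p * G j') +
      ∑ j, (a' * h j - ∑ j', h' j' * H j' j) * zr j -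
      p * (∑ j', h' j' * G j' + a * g' - a' * g) := by
  rw [sum_sub_sum_mul]
  have e1 : ∑ j', h' j' * (a * zr' j' - ∑ j, H j' j * zr j - p * G j') =
      a * ∑ j', h' j' * zr' j' - ∑ j', h' j' * ∑ j, H j' j * zr j - p * ∑ j', h' j' * G j' := by
    have : ∀ j', h' j' * (a * zr' j' - ∑ j, H j' j * zr j - p * G j') =
        a * (h' j' * zr' j') - h' j' * ∑ j, H j' j * zr j - p * (h' j' * G j') := by
      intro j'; ring
    simp only [this]
    rw [Finset.sum_sub_distrib, Finset.sum_sub_distrib, ← Finset.mul_sum, ← Finset.mul_sum]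
  rw [e1]
  ring

end Groth.Agent.H5.Pop
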