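import Groth.Agent.Lib.Helper5.Pop.V2
import Groth.Agent.Lib.Helper5.Pop.V3a

/-!
# Popescu program, part V3: the relations of the lifting algebra `D` and the key identities.
-/

set_option autoImplicit false
universe u
open MvPolynomial

namespace Groth.Agent.H5.Pop

variable {R : Type u} [CommRing R] {π : R} {n m : ℕ} {f : Fin m → MvPolynomial (Fin n) R}

/-- the embedding of `R[x]` into `R[x, z]`. -/
noncomputable abbrev eps (n m : ℕ) (R : Type u) [CommRing R] :
    MvPolynomial (Fin n) R →ₐ[R] MvPolynomial (Fin n ⊕ Fin m) R := rename Sum.inl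

/-- the variable `z_j`. -/
noncomputable abbrev zvar (n : ℕ) {m : ℕ} (R : Type u) [CommRing R] (j : Fin m) :
    MvPolynomial (Fin n ⊕ Fin m) R := X (Sum.inr j)

/-- the relation `f_j - π z_j`. -/
noncomputable def relF (π : R) (f : Fin m → MvPolynomial (Fin n) R) (j : Fin m) :
    MvPolynomial (Fin n ⊕ Fin m) R :=
  eps n m R (f j) - C π * zvar n R j

/-- the relation `p_{K,ℓ} = a z_ℓ - ∑ h_{ℓ j} z_{rows j} - π g_ℓ`. -/
noncomputable def relP (K : Chart π f) (ℓ : Fin m) : MvPolynomial (Fin n ⊕ Fin m) R :=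
  eps n m R K.a * zvar n R ℓ - ∑ j, eps n m R (K.h ℓ j) * zvar n R (K.rows j)
    - C π * eps n m R (K.g ℓ)

/-- key identity: `π p_{K,ℓ} = -a (f_ℓ - π z_ℓ) + ∑ h_{ℓ j} (f_{rows j} - π z_{rows j})`. -/
theorem pi_mul_relP (K : Chart π f) (ℓ : Fin m) :
    C π * relP K ℓ = - (eps n m R K.a * relF π f ℓ) +
      ∑ j, eps n m R (K.h ℓ j) * relF π f (K.rows j) := by
  have h1 := congrArg (eps n m R) (K.eq' ℓ)
  rw [map_mul, map_add, map_sum, map_mul] at h1
  simp only [map_mul] at h1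
  have h2 : eps n m R (C (π ^ 2)) = C π * C π := by
    rw [eps, rename_C, pow_two, C_mul]
  rw [h2] at h1
  unfold relP relF
  have e1 : ∑ j, eps n m R (K.h ℓ j) * (eps n m R (f (K.rows j)) - C π * zvar n R (K.rows j)) =
      ∑ j, eps n m R (K.h ℓ j) * eps n m R (f (K.rows j)) -
        C π * ∑ j, eps n m R (K.h ℓ j) * zvar n R (K.rows j) := by
    rw [Finset.mul_sum, ← Finset.sum_sub_distrib]
    exact Finset.sum_congr rfl (fun j _ => by ring)
  rw [e1]
  linear_combination h1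

theorem relP_rows (K : Chart π f) (j' : Fin K.c) : relP K (K.rows j') = 0 := by
  classical
  unfold relP
  simp only [K.hrow', K.grow, map_zero, mul_zero, sub_zero]
  have : ∀ j, eps n m R (if j' = j then K.a else 0) * zvar n R (K.rows j) =
      if j' = j then eps n m R K.a * zvar n R (K.rows j) else 0 := by
    intro j
    split_ifs <;> simp
  simp only [this]
  rw [Finset.sum_ite_eq Finset.univ j']
  simp

end Groth.Agent.H5.Pop

namespace Groth.Agent.H5.Pop

variable {R : Type u} [CommRing R] {π : R} {n m : ℕ} {f : Fin m → MvPolynomial (Fin n) R}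

/-- the cross coefficients `c_j = a' h_{ℓ j} - ∑_{j'} h'_{ℓ j'} h_{rows' j', j}`. -/
noncomputable def crossC (K K' : Chart π f) (ℓ : Fin m) (j : Fin K.c) : MvPolynomial (Fin n) R :=
  K'.a * K.h ℓ j - ∑ j', K'.h ℓ j' * K.h (K'.rows j') j

/-- the cross remainder `w`. -/
noncomputable def crossW (K K' : Chart π f) (ℓ : Fin m) : MvPolynomial (Fin n) R :=
  ∑ j', K'.h ℓ j' * K.g (K'.rows j') + K.a * K'.g ℓ - K'.a * K.g ℓ

theorem sum_crossC_mul (K K' : Chart π f) (ℓ : Fin m) :
    ∑ j, crossC K K' ℓ j * f (K.rows j) = C (π ^ 2) * crossW K K' ℓ :=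
  cross_identity K.a K'.a (f ℓ) (fun j => f (K.rows j)) (K.h ℓ) (fun j' => f (K'.rows j'))
    (K'.h ℓ) (fun j' j => K.h (K'.rows j') j) (K.g ℓ) (K'.g ℓ) (fun j' => K.g (K'.rows j'))
    (C (π ^ 2)) (K.eq' ℓ) (K'.eq' ℓ) (fun j' => K.eq' (K'.rows j'))

theorem eps_a_mul_relP (K K' : Chart π f) (ℓ : Fin m) :
    eps n m R K.a * relP K' ℓ = eps n m R K'.a * relP K ℓ -
      ∑ j', eps n m R (K'.h ℓ j') * relP K (K'.rows j') +
      ∑ j, eps n m R (crossC K K' ℓ j) * zvar n R (K.rows j) - C π * eps n m R (crossW K K' ℓ) := by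
  have := relP_identity (eps n m R K.a) (eps n m R K'.a) (zvar n R ℓ)
    (fun j => zvar n R (K.rows j)) (fun j => eps n m R (K.h ℓ j))
    (fun j' => zvar n R (K'.rows j')) (fun j' => eps n m R (K'.h ℓ j'))
    (fun j' j => eps n m R (K.h (K'.rows j') j)) (eps n m R (K.g ℓ)) (eps n m R (K'.g ℓ))
    (fun j' => eps n m R (K.g (K'.rows j'))) (C π)
  unfold relP crossC crossW
  simp only [map_sub, map_add, map_sum, map_mul]
  exact this

end Groth.Agent.H5.Pop
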