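import Groth.Agent.Lib.Helper5.Pop.V3
import Groth.Agent.Lib.Helper8.StdEl.L

/-!
# Popescu program, part V4: ideal membership claims for the lifting algebra.
-/

set_option autoImplicit false
universe u
open MvPolynomial

namespace Groth.Agent.H5.Pop

variable {R : Type u} [CommRing R] {π : R} {n m : ℕ} {f : Fin m → MvPolynomial (Fin n) R}

/-- the ideal `(f) + (π²)` of `R[x]`. -/
noncomputable def I0 (π : R) (f : Fin m → MvPolynomial (Fin n) R) : Ideal (MvPolynomial (Fin n) R) :=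
  Ideal.span (Set.range f) ⊔ Ideal.span {C (π ^ 2)}

/-- the ideal `(f_rows) + (π²)` of `R[x]`. -/
noncomputable def IK0 (K : Chart π f) : Ideal (MvPolynomial (Fin n) R) :=
  Ideal.span (Set.range (f ∘ K.rows)) ⊔ Ideal.span {C (π ^ 2)}

theorem f_mem_I0 (ℓ : Fin m) : f ℓ ∈ I0 π f :=
  Ideal.mem_sup_left (Ideal.subset_span ⟨ℓ, rfl⟩)

theorem C_mem_I0 : C (π ^ 2) ∈ I0 π f :=
  Ideal.mem_sup_right (Ideal.subset_span rfl)

theorem C_mem_IK0 (K : Chart π f) : C (π ^ 2) ∈ IK0 K :=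
  Ideal.mem_sup_right (Ideal.subset_span rfl)

theorem frows_mem_IK0 (K : Chart π f) (j : Fin K.c) : f (K.rows j) ∈ IK0 K :=
  Ideal.mem_sup_left (Ideal.subset_span ⟨j, rfl⟩)

theorem a_mul_mem_IK0 (K : Chart π f) {x : MvPolynomial (Fin n) R} (hx : x ∈ I0 π f) :
    K.a * x ∈ IK0 K := by
  have hgen : ∀ y ∈ Set.range f ∪ {C (π ^ 2)}, K.a * y ∈ IK0 K := by
    rintro y (⟨ℓ, rfl⟩ | hy)
    · rw [K.eq' ℓ]
      refine (IK0 K).add_mem ((IK0 K).sum_mem fun j _ => ?_) ((IK0 K).mul_mem_right _ (C_mem_IK0 K))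
      exact (IK0 K).mul_mem_left _ (frows_mem_IK0 K j)
    · rw [Set.mem_singleton_iff] at hy
      rw [hy]
      exact (IK0 K).mul_mem_left _ (C_mem_IK0 K)
  have hx' : x ∈ Ideal.span (Set.range f ∪ {C (π ^ 2)}) := by
    rw [Ideal.span_union]; exact hx
  refine Submodule.span_induction (p := fun x _ => K.a * x ∈ IK0 K) ?_ ?_ ?_ ?_ hx'
  · intro y hy; exact hgen y hy
  · rw [mul_zero]; exact (IK0 K).zero_mem
  · intro x y _ _ hx hy; rw [mul_add]; exact (IK0 K).add_mem hx hy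
  · intro r x _ hx
    rw [smul_eq_mul, mul_left_comm]
    exact (IK0 K).mul_mem_left _ hx

/-- `minor · c_j ∈ (f) + (π²)`: the cross coefficients vanish modulo the relations, by Cramer. -/
theorem minor_mul_crossC_mem (K K' : Chart π f) (ℓ : Fin m) (j : Fin K.c) :
    K.minor * crossC K K' ℓ j ∈ I0 π f := by
  classical
  set N : Matrix (Fin K.c) (Fin K.c) (MvPolynomial (Fin n) R) :=
    Matrix.of fun j k => pderiv (K.cols k) (f (K.rows j)) with hN
  set b : Fin K.c → MvPolynomial (Fin n) R := fun k => ∑ j, crossC K K' ℓ j * N j k with hb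
  have hbmem : ∀ k, b k ∈ I0 π f := by
    intro k
    have h1 := congrArg (pderiv (K.cols k)) (sum_crossC_mul K K' ℓ)
    rw [map_sum, pderiv_C_mul] at h1
    simp only [Derivation.leibniz, smul_eq_mul] at h1
    rw [Finset.sum_add_distrib] at h1
    have h2 : b k = C (π ^ 2) * pderiv (K.cols k) (crossW K K' ℓ) -
        ∑ j, f (K.rows j) * pderiv (K.cols k) (crossC K K' ℓ j) := by
      rw [← h1]
      simp only [hb, hN, Matrix.of_apply]
      ring
    rw [h2]
    refine (I0 π f).sub_mem ((I0 π f).mul_mem_right _ C_mem_I0) ((I0 π f).sum_mem fun j _ => ?_)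
    exact (I0 π f).mul_mem_right _ (f_mem_I0 _)
  have h3 := Groth.Agent.H8.StdEl.cramer_aux N (crossC K K' ℓ) b (fun k => rfl) j
  have h4 : N.det = K.minor := rfl
  rw [← h4, h3]
  exact (I0 π f).sum_mem fun k _ => (I0 π f).mul_mem_right _ (hbmem k)

theorem a_sq_mul_crossC_mem (K K' : Chart π f) (ℓ : Fin m) (j : Fin K.c) :
    K.a ^ 2 * crossC K K' ℓ j ∈ IK0 K := by
  have h1 : K.a * crossC K K' ℓ j ∈ I0 π f := by
    have : K.a * crossC K K' ℓ j = K.t * (K.minor * crossC K K' ℓ j) := by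
      unfold Chart.a; ring
    rw [this]
    exact (I0 π f).mul_mem_left _ (minor_mul_crossC_mem K K' ℓ j)
  have h2 := a_mul_mem_IK0 K h1
  have : K.a ^ 2 * crossC K K' ℓ j = K.a * (K.a * crossC K K' ℓ j) := by ring
  rw [this]; exact h2

end Groth.Agent.H5.Pop

namespace Groth.Agent.H5.Pop

variable {R : Type u} [CommRing R] {π : R} {n m : ℕ} {f : Fin m → MvPolynomial (Fin n) R}

/-- the ideal of relations of the chart algebra `D_K`. -/
noncomputable def IK (K : Chart π f) : Ideal (MvPolynomial (Fin n ⊕ Fin m) R) :=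
  Ideal.span (Set.range (fun j => relF π f (K.rows j)) ∪ Set.range (relP K))

theorem relF_rows_mem_IK (K : Chart π f) (j : Fin K.c) : relF π f (K.rows j) ∈ IK K :=
  Ideal.subset_span (Or.inl ⟨j, rfl⟩)

theorem relP_mem_IK (K : Chart π f) (ℓ : Fin m) : relP K ℓ ∈ IK K :=
  Ideal.subset_span (Or.inr ⟨ℓ, rfl⟩)

/-- Claim A. -/
theorem eps_a_mul_relF_mem (K : Chart π f) (ℓ : Fin m) :
    eps n m R K.a * relF π f ℓ ∈ IK K := by
  have h := pi_mul_relP K ℓ
  have : eps n m R K.a * relF π f ℓ =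
      ∑ j, eps n m R (K.h ℓ j) * relF π f (K.rows j) - C π * relP K ℓ := by
    rw [h]; ring
  rw [this]
  refine (IK K).sub_mem ((IK K).sum_mem fun j _ => ?_) ((IK K).mul_mem_left _ (relP_mem_IK K ℓ))
  exact (IK K).mul_mem_left _ (relF_rows_mem_IK K j)

/-- Claim B. -/
theorem eps_a_mul_pi_relP_mem (K K' : Chart π f) (ℓ : Fin m) :
    eps n m R K.a * (C π * relP K' ℓ) ∈ IK K := by
  rw [pi_mul_relP K' ℓ, mul_add, mul_neg, Finset.mul_sum]
  refine (IK K).add_mem ((IK K).neg_mem ?_) ((IK K).sum_mem fun j' _ => ?_)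
  · rw [mul_left_comm]
    exact (IK K).mul_mem_left _ (eps_a_mul_relF_mem K ℓ)
  · rw [mul_left_comm]
    exact (IK K).mul_mem_left _ (eps_a_mul_relF_mem K _)

/-- Claim A'. -/
theorem eps_mem_of_mem_IK0 (K : Chart π f) {x : MvPolynomial (Fin n) R} (hx : x ∈ IK0 K) :
    eps n m R x ∈ IK K ⊔ Ideal.span {C π} := by
  have hle : IK0 K ≤ (IK K ⊔ Ideal.span {C π}).comap (eps n m R).toRingHom := by
    unfold IK0
    rw [sup_le_iff, Ideal.span_le, Ideal.span_le]
    constructor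
    · rintro _ ⟨j, rfl⟩
      show eps n m R (f (K.rows j)) ∈ IK K ⊔ Ideal.span {C π}
      have : eps n m R (f (K.rows j)) = relF π f (K.rows j) + C π * zvar n R (K.rows j) := by
        unfold relF; ring
      rw [this]
      exact Ideal.add_mem _ (Ideal.mem_sup_left (relF_rows_mem_IK K j))
        (Ideal.mem_sup_right (Ideal.mul_mem_right _ _ (Ideal.subset_span rfl)))
    · intro y hy
      rw [Set.mem_singleton_iff] at hy
      rw [hy]
      show eps n m R (C (π ^ 2)) ∈ IK K ⊔ Ideal.span {C π}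
      have : eps n m R (C (π ^ 2)) = C π * C π := by
        rw [eps, rename_C, pow_two, C_mul]
      rw [this]
      exact Ideal.mem_sup_right (Ideal.mul_mem_right _ _ (Ideal.subset_span rfl))
  exact hle hx

/-- Claim C. -/
theorem eps_a_cube_mul_relP_mem (K K' : Chart π f) (ℓ : Fin m) :
    eps n m R K.a ^ 3 * relP K' ℓ ∈ IK K ⊔ Ideal.span {C π} := by
  set J := IK K ⊔ Ideal.span {C π} with hJ
  have h := eps_a_mul_relP K K' ℓ
  have e : eps n m R K.a ^ 3 * relP K' ℓ = eps n m R K.a ^ 2 * (eps n m R K.a * relP K' ℓ) := by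
    ring
  rw [e, h]
  have hIKJ : IK K ≤ J := le_sup_left
  have hπJ : C π ∈ J := Ideal.mem_sup_right (Ideal.subset_span rfl)
  simp only [mul_sub, mul_add]
  refine J.sub_mem (J.add_mem (J.sub_mem ?_ ?_) ?_) ?_
  · exact J.mul_mem_left _ (J.mul_mem_left _ (hIKJ (relP_mem_IK K ℓ)))
  · rw [Finset.mul_sum]
    exact J.sum_mem fun j' _ => J.mul_mem_left _ (J.mul_mem_left _ (hIKJ (relP_mem_IK K _)))
  · rw [Finset.mul_sum]
    refine J.sum_mem fun j _ => ?_
    have : eps n m R K.a ^ 2 * (eps n m R (crossC K K' ℓ j) * zvar n R (K.rows j)) =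
        eps n m R (K.a ^ 2 * crossC K K' ℓ j) * zvar n R (K.rows j) := by
      rw [map_mul, map_pow]; ring
    rw [this]
    exact J.mul_mem_right _ (eps_mem_of_mem_IK0 K (a_sq_mul_crossC_mem K K' ℓ j))
  · exact J.mul_mem_left _ (J.mul_mem_right _ hπJ)

end Groth.Agent.H5.Pop
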