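import Groth.Agent.Lib.Helper5.Pop.V4
import Groth.Agent.Lib.Helper8.StdEl.F

/-!
# Popescu program, part V5: the chart algebra `D_K = R[x,z]/I_K` is standard smooth away from
`a_K · minor_K`.
-/

set_option autoImplicit false
universe u
open MvPolynomial

namespace Groth.Agent.H5.Pop

variable {R : Type u} [CommRing R] {π : R} {n m : ℕ} {f : Fin m → MvPolynomial (Fin n) R}

theorem pderiv_inr_eps (ℓ : Fin m) (p : MvPolynomial (Fin n) R) :
    pderiv (Sum.inr ℓ) (eps n m R p) = 0 := by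
  classical
  apply pderiv_eq_zero_of_notMem_vars
  intro h
  have := vars_rename (Sum.inl : Fin n → Fin n ⊕ Fin m) p h
  simp at this

theorem pderiv_inl_eps (i : Fin n) (p : MvPolynomial (Fin n) R) :
    pderiv (Sum.inl i) (eps n m R p) = eps n m R (pderiv i p) :=
  pderiv_rename Sum.inl_injective i p

theorem pderiv_inl_zvar (i : Fin n) (j : Fin m) : pderiv (Sum.inl i) (zvar n R j) = 0 :=
  pderiv_X_of_ne (by simp)

theorem pderiv_inr_zvar (ℓ j : Fin m) :
    pderiv (Sum.inr ℓ) (zvar n R j) = if j = ℓ then 1 else 0 := by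
  classical
  unfold zvar
  rw [pderiv_X]
  by_cases h : j = ℓ
  · subst h; simp
  · rw [if_neg h, Pi.single_apply, if_neg]
    intro h'
    exact h (Sum.inr_injective h')

/-- index type of the relations of `D_K`. -/
abbrev SigK (K : Chart π f) : Type := Fin K.c ⊕ {ℓ : Fin m // ℓ ∉ Set.range K.rows}

/-- the relations of `D_K`. -/
noncomputable def relK (K : Chart π f) : SigK K → MvPolynomial (Fin n ⊕ Fin m) R
  | Sum.inl j => relF π f (K.rows j)
  | Sum.inr ℓ => relP K ℓ.1

/-- the chosen columns. -/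
def colsK (K : Chart π f) : SigK K ↪ Fin n ⊕ Fin m where
  toFun := Sum.elim (fun j => Sum.inl (K.cols j)) (fun ℓ => Sum.inr ℓ.1)
  inj' := by
    rintro (j | ℓ) (j' | ℓ') h
    · simp only [Sum.elim_inl, Sum.inl.injEq] at h
      rw [K.cols.injective h]
    · simp at h
    · simp at h
    · simp only [Sum.elim_inr, Sum.inr.injEq] at h
      rw [Subtype.ext h]

theorem span_range_relK (K : Chart π f) : Ideal.span (Set.range (relK K)) = IK K := by
  apply le_antisymm
  · rw [Ideal.span_le]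
    rintro _ ⟨(j | ℓ), rfl⟩
    · exact relF_rows_mem_IK K j
    · exact relP_mem_IK K ℓ.1
  · unfold IK
    rw [Ideal.span_le]
    rintro _ (⟨j, rfl⟩ | ⟨ℓ, rfl⟩)
    · exact Ideal.subset_span ⟨Sum.inl j, rfl⟩
    · by_cases hℓ : ℓ ∈ Set.range K.rows
      · obtain ⟨j', rfl⟩ := hℓ
        rw [relP_rows]
        exact Ideal.zero_mem _
      · exact Ideal.subset_span ⟨Sum.inr ⟨ℓ, hℓ⟩, rfl⟩

end Groth.Agent.H5.Pop

namespace Groth.Agent.H5.Pop

variable {R : Type u} [CommRing R] {π : R} {n m : ℕ} {f : Fin m → MvPolynomial (Fin n) R}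

theorem pderiv_inr_relF (K : Chart π f) (j : Fin K.c) (ℓ' : {ℓ : Fin m // ℓ ∉ Set.range K.rows}) :
    pderiv (Sum.inr ℓ'.1) (relF π f (K.rows j)) = 0 := by
  unfold relF
  rw [map_sub, pderiv_inr_eps, pderiv_C_mul, pderiv_inr_zvar, if_neg, mul_zero, sub_zero]
  intro h
  exact ℓ'.2 ⟨j, h⟩

theorem pderiv_inl_relF (i : Fin n) (ℓ : Fin m) :
    pderiv (Sum.inl i) (relF π f ℓ) = eps n m R (pderiv i (f ℓ)) := by
  unfold relF
  rw [map_sub, pderiv_inl_eps, pderiv_C_mul, pderiv_inl_zvar, mul_zero, sub_zero]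

theorem pderiv_inr_relP (K : Chart π f) (ℓ : Fin m) (ℓ' : {ℓ : Fin m // ℓ ∉ Set.range K.rows}) :
    pderiv (Sum.inr ℓ'.1) (relP K ℓ) = if ℓ = ℓ'.1 then eps n m R K.a else 0 := by
  unfold relP
  rw [map_sub, map_sub, map_sum, pderiv_C_mul, pderiv_inr_eps, mul_zero, sub_zero]
  have h1 : ∀ j, pderiv (Sum.inr ℓ'.1) (eps n m R (K.h ℓ j) * zvar n R (K.rows j)) = 0 := by
    intro j
    rw [Derivation.leibniz, pderiv_inr_eps, pderiv_inr_zvar, if_neg, smul_zero, smul_zero,
      add_zero]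
    intro h
    exact ℓ'.2 ⟨j, h⟩
  simp only [h1, Finset.sum_const_zero, sub_zero]
  rw [Derivation.leibniz, pderiv_inr_eps, pderiv_inr_zvar, smul_zero, add_zero, smul_eq_mul]
  split_ifs <;> simp

/-- the Jacobian determinant of the chart algebra. -/
theorem det_jacobian_relK (K : Chart π f) [DecidableEq (SigK K)] :
    Matrix.det (Matrix.of fun r s : SigK K => pderiv (colsK K s) (relK K r)) =
      eps n m R K.minor *
        eps n m R K.a ^ Fintype.card {ℓ : Fin m // ℓ ∉ Set.range K.rows} := by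
  classical
  set A : Matrix (Fin K.c) (Fin K.c) (MvPolynomial (Fin n ⊕ Fin m) R) :=
    Matrix.of fun j i => eps n m R (pderiv (K.cols i) (f (K.rows j))) with hA
  set Cm : Matrix {ℓ : Fin m // ℓ ∉ Set.range K.rows} (Fin K.c) (MvPolynomial (Fin n ⊕ Fin m) R) :=
    Matrix.of fun ℓ i => pderiv (Sum.inl (K.cols i)) (relP K ℓ.1) with hCm
  set Dm : Matrix {ℓ : Fin m // ℓ ∉ Set.range K.rows} {ℓ : Fin m // ℓ ∉ Set.range K.rows}
      (MvPolynomial (Fin n ⊕ Fin m) R) := Matrix.diagonal fun _ => eps n m R K.a with hDm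
  have hJ : (Matrix.of fun r s : SigK K => pderiv (colsK K s) (relK K r)) =
      Matrix.fromBlocks A 0 Cm Dm := by
    refine Matrix.ext fun r s => ?_
    rcases r with j | ℓ <;> rcases s with i | ℓ'
    · simp only [Matrix.of_apply, Matrix.fromBlocks_apply₁₁, hA]
      exact pderiv_inl_relF _ _
    · simp only [Matrix.of_apply, Matrix.fromBlocks_apply₁₂, Matrix.zero_apply]
      exact pderiv_inr_relF K j ℓ'
    · simp only [Matrix.of_apply, Matrix.fromBlocks_apply₂₁, hCm]
      rfl
    · simp only [Matrix.of_apply, Matrix.fromBlocks_apply₂₂, hDm]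
      show pderiv (Sum.inr ℓ'.1) (relP K ℓ.1) = _
      rw [pderiv_inr_relP, Matrix.diagonal_apply]
      by_cases h : ℓ = ℓ'
      · subst h; simp
      · rw [if_neg h, if_neg]
        intro h'
        exact h (Subtype.ext h')
  have hdet : (Matrix.fromBlocks A 0 Cm Dm).det = A.det * Dm.det := by
    convert Matrix.det_fromBlocks_zero₁₂ A Cm Dm
  rw [hJ, hdet, hDm, Matrix.det_diagonal, Finset.prod_const, Finset.card_univ]
  congr 1
  have : A = (eps n m R).mapMatrix (Matrix.of fun j i => pderiv (K.cols i) (f (K.rows j))) := by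
    refine Matrix.ext fun j i => ?_
    rfl
  rw [this, ← AlgHom.map_det]
  rfl

end Groth.Agent.H5.Pop

namespace Groth.Agent.H5.Pop

variable {R : Type u} [CommRing R] {π : R} {n m : ℕ} {f : Fin m → MvPolynomial (Fin n) R}

/-- the polynomial whose image in `D_K` is elementary standard. -/
noncomputable def stdElt (K : Chart π f) : MvPolynomial (Fin n ⊕ Fin m) R :=
  eps n m R K.a * (eps n m R K.minor *
    eps n m R K.a ^ Fintype.card {ℓ : Fin m // ℓ ∉ Set.range K.rows})

theorem isElementaryStandard_chart (K : Chart π f) :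
    Smoothing.IsElementaryStandard R (MvPolynomial (Fin n ⊕ Fin m) R ⧸ IK K)
      (Ideal.Quotient.mk (IK K) (stdElt K)) := by
  classical
  refine Groth.Agent.H8.StdEl.isElementaryStandard_of_finite (relK K)
    (Ideal.Quotient.mkₐ R (IK K)) (Ideal.Quotient.mkₐ_surjective R (IK K)) ?_
    (Function.Embedding.refl _) (colsK K) _ (Ideal.Quotient.mk (IK K) (eps n m R K.a)) ?_ ?_
  · rw [span_range_relK]
    exact Ideal.Quotient.mkₐ_ker R (IK K)
  · have := det_jacobian_relK K
    simp only [Function.Embedding.refl_apply]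
    rw [this]
    unfold stdElt
    rw [map_mul]
    rfl
  · intro a₁ _ ℓ
    refine Ideal.mem_sup_left (Ideal.mul_mem_left _ _ (Ideal.subset_span ⟨ℓ, rfl⟩))

end Groth.Agent.H5.Pop
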