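import Groth.Agent.Lib.Helper5.Pop.V7

/-!
# Popescu program, part V8: `D` is finitely presented and smooth away from `π`.
-/

set_option autoImplicit false
universe u
open MvPolynomial

namespace Groth.Agent.H5.Pop

variable {R : Type u} [CommRing R] {π : R} {n m : ℕ} {f : Fin m → MvPolynomial (Fin n) R}
  {κ : Type*} (K : κ → Chart π f)

/-- all the relations of `D`, as a single family. -/
noncomputable def relD : Fin m ⊕ (κ × Fin m) → MvPolynomial (Fin n ⊕ Fin m) R
  | Sum.inl j => relF π f j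
  | Sum.inr kl => relP (K kl.1) kl.2

theorem span_range_relD : Ideal.span (Set.range (relD K)) = ID K := by
  apply le_antisymm
  · rw [Ideal.span_le]
    rintro _ ⟨(j | ⟨k, ℓ⟩), rfl⟩
    · exact relF_mem_ID K j
    · exact relP_mem_ID K k ℓ
  · unfold ID
    rw [Ideal.span_le]
    rintro _ (⟨j, rfl⟩ | hx)
    · exact Ideal.subset_span ⟨Sum.inl j, rfl⟩
    · obtain ⟨k, hk⟩ := Set.mem_iUnion.mp hx
      obtain ⟨ℓ, rfl⟩ := hk
      exact Ideal.subset_span ⟨Sum.inr (k, ℓ), rfl⟩

theorem finitePresentation_D [Finite κ] :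
    Algebra.FinitePresentation R (MvPolynomial (Fin n ⊕ Fin m) R ⧸ ID K) := by
  apply Algebra.FinitePresentation.quotient
  rw [← span_range_relD]
  exact Submodule.fg_span (Set.finite_range _)

theorem pi_mul_relP_mem (K₀ : Chart π f) (ℓ : Fin m) :
    C π * relP K₀ ℓ ∈ Ideal.span (Set.range (relF π f)) := by
  rw [pi_mul_relP]
  refine Ideal.add_mem _ (neg_mem (Ideal.mul_mem_left _ _ (Ideal.subset_span ⟨_, rfl⟩)))
    (Ideal.sum_mem _ fun j _ => Ideal.mul_mem_left _ _ (Ideal.subset_span ⟨_, rfl⟩))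

/-- `(-π)^m` is elementary standard in `D`. -/
theorem isElementaryStandard_pi [Fintype κ] :
    Smoothing.IsElementaryStandard R (MvPolynomial (Fin n ⊕ Fin m) R ⧸ ID K)
      (Ideal.Quotient.mk (ID K) ((-C π) ^ m)) := by
  classical
  refine Groth.Agent.H8.StdEl.isElementaryStandard_of_finite (relD K)
    (Ideal.Quotient.mkₐ R (ID K)) (Ideal.Quotient.mkₐ_surjective R (ID K)) ?_
    (⟨Sum.inl, Sum.inl_injective⟩ : Fin m ↪ Fin m ⊕ (κ × Fin m))
    (⟨Sum.inr, Sum.inr_injective⟩ : Fin m ↪ Fin n ⊕ Fin m) _ 1 ?_ ?_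
  · rw [span_range_relD]
    exact Ideal.Quotient.mkₐ_ker R (ID K)
  · rw [one_mul]
    have hmat : (Matrix.of fun j k : Fin m =>
        pderiv ((⟨Sum.inr, Sum.inr_injective⟩ : Fin m ↪ Fin n ⊕ Fin m) k)
          (relD K ((⟨Sum.inl, Sum.inl_injective⟩ : Fin m ↪ Fin m ⊕ (κ × Fin m)) j))) =
        Matrix.diagonal fun _ => (-C π : MvPolynomial (Fin n ⊕ Fin m) R) := by
      refine Matrix.ext fun j k => ?_
      show pderiv (Sum.inr k) (relF π f j) = _
      unfold relF
      rw [map_sub, pderiv_inr_eps, pderiv_C_mul, pderiv_inr_zvar, Matrix.diagonal_apply]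
      by_cases h : j = k
      · subst h; simp
      · rw [if_neg h, if_neg h]; simp
    rw [hmat, Matrix.det_diagonal, Finset.prod_const, Finset.card_univ, Fintype.card_fin]
    rfl
  · rintro a₁ ha₁ (j | ⟨k, ℓ⟩)
    · exact Ideal.mem_sup_left (Ideal.mul_mem_left _ _ (Ideal.subset_span ⟨j, rfl⟩))
    · have hd : a₁ - (-C π) ^ m ∈ ID K := by
        rw [← Ideal.Quotient.eq]
        exact ha₁
      have hm : 0 < m := ℓ.pos
      obtain ⟨m', rfl⟩ : ∃ m', m = m' + 1 := ⟨m - 1, by omega⟩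
      have e : a₁ * relD K (Sum.inr (k, ℓ)) =
          (-(-C π) ^ m') * (C π * relP (K k) ℓ) + (a₁ - (-C π) ^ (m' + 1)) * relP (K k) ℓ := by
        show a₁ * relP (K k) ℓ = _
        ring
      rw [e]
      refine Ideal.add_mem _ (Ideal.mem_sup_left (Ideal.mul_mem_left _ _ ?_))
        (Ideal.mem_sup_right ?_)
      · have := pi_mul_relP_mem (K k) ℓ
        refine Ideal.span_mono ?_ this
        rintro _ ⟨j, rfl⟩
        exact ⟨j, rfl⟩
      · rw [pow_two, span_range_relD]
        exact Ideal.mul_mem_mul hd (relP_mem_ID K k ℓ)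

/-- `D` is smooth over `R` at every prime not containing `π`. -/
theorem isSmoothAt_D_of_pi [Finite κ]
    (Q : Ideal (MvPolynomial (Fin n ⊕ Fin m) R ⧸ ID K)) [Q.IsPrime]
    (hπ : Ideal.Quotient.mk (ID K) (C π) ∉ Q) : Algebra.IsSmoothAt R Q := by
  haveI := Fintype.ofFinite κ
  haveI := finitePresentation_D K
  refine Groth.Agent.H8.StdEl.isSmoothAt_of_isStrictlyStandard
    (Groth.Agent.H8.StdEl.isElementaryStandard.isStrictlyStandard (isElementaryStandard_pi K)) Q ?_
  intro h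
  rw [map_pow] at h
  have := Ideal.IsPrime.mem_of_pow_mem ‹_› _ h
  rw [map_neg] at this
  exact hπ (by simpa using Q.neg_mem this)

end Groth.Agent.H5.Pop
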