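import Groth.Agent.Lib.Helper5.Pop.V8

/-!
# Popescu program, part V9: the lifting lemma (Stacks 07CN), assembly.
-/

set_option autoImplicit false
universe u
open MvPolynomial

namespace Groth.Agent.H5.Pop

section Maps

variable {R : Type u} [CommRing R] {π : R} {n m : ℕ} {f : Fin m → MvPolynomial (Fin n) R}
  {κ : Type*} (K : κ → Chart π f)
  {Λ : Type u} [CommRing Λ] [Algebra R Λ] (lam : Fin n → Λ) (mu : Fin m → Λ)

/-- the map `R[x,z] → Λ`, `x ↦ λ`, `z ↦ π μ`. -/
noncomputable def delta0 (π : R) : MvPolynomial (Fin n ⊕ Fin m) R →ₐ[R] Λ :=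
  aeval (Sum.elim lam (fun j => π • mu j))

theorem delta0_eps (q : MvPolynomial (Fin n) R) :
    delta0 lam mu π (eps n m R q) = aeval lam q := by
  unfold delta0 eps
  rw [aeval_rename]
  rfl

theorem delta0_zvar (j : Fin m) : delta0 lam mu π (zvar n R j) = π • mu j := by
  unfold delta0 zvar
  rw [aeval_X]
  rfl

theorem delta0_C (r : R) : delta0 (n := n) lam mu π (C r) = algebraMap R Λ r := by
  unfold delta0
  rw [aeval_C]

variable (hmu : ∀ j, aeval lam (f j) = π ^ 2 • mu j)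
include hmu

theorem delta0_relF (j : Fin m) : delta0 lam mu π (relF π f j) = 0 := by
  unfold relF
  rw [map_sub, map_mul, delta0_eps, delta0_zvar, delta0_C, hmu, ← Algebra.smul_def, smul_smul,
    pow_two, sub_self]

theorem delta0_relP (hΛ : ∀ x : Λ, π ^ 2 • x = 0 → π • x = 0) (K₀ : Chart π f) (ℓ : Fin m) :
    delta0 lam mu π (relP K₀ ℓ) = 0 := by
  set y : Λ := aeval lam K₀.a * mu ℓ - ∑ j, aeval lam (K₀.h ℓ j) * mu (K₀.rows j) -
    aeval lam (K₀.g ℓ) with hy
  have h1 : delta0 lam mu π (relP K₀ ℓ) = π • y := by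
    unfold relP
    rw [map_sub, map_sub, map_mul, map_sum, map_mul, delta0_eps, delta0_zvar, delta0_C,
      delta0_eps, hy, smul_sub, smul_sub, Finset.smul_sum, ← Algebra.smul_def]
    congr 1
    congr 1
    · rw [mul_smul_comm]
    · refine Finset.sum_congr rfl fun j _ => ?_
      rw [map_mul, delta0_eps, delta0_zvar, mul_smul_comm]
  have h2 : π ^ 2 • y = 0 := by
    have h3 := congrArg (aeval lam) (K₀.eq' ℓ)
    rw [map_mul, map_add, map_sum, map_mul, aeval_C, hmu] at h3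
    simp only [map_mul, hmu] at h3
    rw [hy, smul_sub, smul_sub, Finset.smul_sum]
    have e1 : π ^ 2 • (aeval lam K₀.a * mu ℓ) = aeval lam K₀.a * π ^ 2 • mu ℓ := by
      rw [mul_smul_comm]
    have e2 : ∀ j, π ^ 2 • (aeval lam (K₀.h ℓ j) * mu (K₀.rows j)) =
        aeval lam (K₀.h ℓ j) * π ^ 2 • mu (K₀.rows j) := fun j => by rw [mul_smul_comm]
    rw [e1]
    simp_rw [e2]
    rw [h3, Algebra.smul_def (π ^ 2) (aeval lam (K₀.g ℓ))]
    ring
  rw [h1]
  exact hΛ y h2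

theorem ID_le_ker_delta0 (hΛ : ∀ x : Λ, π ^ 2 • x = 0 → π • x = 0) :
    ID K ≤ RingHom.ker (delta0 lam mu π : MvPolynomial (Fin n ⊕ Fin m) R →ₐ[R] Λ).toRingHom := by
  unfold ID
  rw [Ideal.span_le]
  rintro x (⟨j, rfl⟩ | hx)
  · exact delta0_relF lam mu hmu j
  · obtain ⟨k, hk⟩ := Set.mem_iUnion.mp hx
    obtain ⟨ℓ, rfl⟩ := hk
    exact delta0_relP lam mu hmu hΛ (K k) ℓ

end Maps

end Groth.Agent.H5.Pop
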